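import Mathlib
import Cfsg.Prelude.Def_Sporadic_a
import Cfsg.Agent.Lib.Helper92.LeechCore

/-!
Elementary facts on the action of the automorphism group of the lattice: inner products are
preserved, counts transport, and the orbit relation of a pointwise stabiliser.
-/

set_option autoImplicit false

namespace Cfsg.Agent.Lib.Helper27.Co0Act

open Cfsg Cfsg.Agent.Lib.Helper92.LeechCore

theorem co0_add {f : Equiv.Perm leechLattice} (hf : f ∈ Co0) (v w : leechLattice) :
    f (v + w) = f v + f w := hf.1 v w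

theorem co0_norm {f : Equiv.Perm leechLattice} (hf : f ∈ Co0) (v : leechLattice) :
    sqNorm ((f v : leechLattice) : GolayPt → ℤ) = sqNorm (v : GolayPt → ℤ) := hf.2 v

theorem co0_dot {f : Equiv.Perm leechLattice} (hf : f ∈ Co0) (v w : leechLattice) :
    dotInt ((f v : leechLattice) : GolayPt → ℤ) ((f w : leechLattice) : GolayPt → ℤ)
      = dotInt (v : GolayPt → ℤ) (w : GolayPt → ℤ) := by
  have h1 := co0_norm hf (v + w)
  rw [co0_add hf] at h1
  have h2 : sqNorm (((f v : leechLattice) : GolayPt → ℤ) + ((f w : leechLattice) : GolayPt → ℤ))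
      = sqNorm ((v : GolayPt → ℤ) + (w : GolayPt → ℤ)) := h1
  rw [sqNorm_add, sqNorm_add, co0_norm hf, co0_norm hf] at h2
  linarith

theorem co0_zero {f : Equiv.Perm leechLattice} (hf : f ∈ Co0) : f 0 = 0 := by
  have h := co0_add hf 0 0
  rw [add_zero] at h
  exact left_eq_add.mp h

theorem co0_neg {f : Equiv.Perm leechLattice} (hf : f ∈ Co0) (v : leechLattice) :
    f (-v) = -f v := by
  have h := co0_add hf v (-v)
  rw [add_neg_cancel, co0_zero hf] at h
  exact eq_neg_of_add_eq_zero_right h.symm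

theorem co0_sub {f : Equiv.Perm leechLattice} (hf : f ∈ Co0) (v w : leechLattice) :
    f (v - w) = f v - f w := by
  rw [sub_eq_add_neg, co0_add hf, co0_neg hf, sub_eq_add_neg]

/-- Counting lattice vectors with a property transports along an automorphism. -/
theorem ncard_transport (g : Equiv.Perm leechLattice) (P Q : (GolayPt → ℤ) → Prop)
    (h : ∀ w : leechLattice, P (w : GolayPt → ℤ) ↔ Q ((g w : leechLattice) : GolayPt → ℤ)) :
    {w : GolayPt → ℤ | w ∈ leechLattice ∧ P w}.ncard
      = {w : GolayPt → ℤ | w ∈ leechLattice ∧ Q w}.ncard := by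
  have e1 : {w : GolayPt → ℤ | w ∈ leechLattice ∧ P w}
      = Subtype.val '' {w : leechLattice | P (w : GolayPt → ℤ)} := by
    ext w
    constructor
    · rintro ⟨hw, hP⟩
      exact ⟨⟨w, hw⟩, hP, rfl⟩
    · rintro ⟨w, hP, rfl⟩
      exact ⟨w.2, hP⟩
  have e2 : {w : GolayPt → ℤ | w ∈ leechLattice ∧ Q w}
      = Subtype.val '' {w : leechLattice | Q (w : GolayPt → ℤ)} := by
    ext w
    constructor
    · rintro ⟨hw, hP⟩
      exact ⟨⟨w, hw⟩, hP, rfl⟩
    · rintro ⟨w, hP, rfl⟩
      exact ⟨w.2, hP⟩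
  have e3 : {w : leechLattice | Q (w : GolayPt → ℤ)} = g '' {w : leechLattice | P (w : GolayPt → ℤ)} := by
    ext w
    constructor
    · intro hw
      refine ⟨g.symm w, ?_, by simp⟩
      show P ((g.symm w : leechLattice) : GolayPt → ℤ)
      rw [h]
      simpa using hw
    · rintro ⟨u, hu, rfl⟩
      exact (h u).mp hu
  rw [e1, e2, Set.ncard_image_of_injective _ Subtype.val_injective,
    Set.ncard_image_of_injective _ Subtype.val_injective, e3,
    Set.ncard_image_of_injective _ g.injective]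

/-- The same for sets of elements of the lattice. -/
theorem ncard_transport' (g : Equiv.Perm leechLattice) (P Q : leechLattice → Prop)
    (h : ∀ w : leechLattice, P w ↔ Q (g w)) :
    {w : leechLattice | P w}.ncard = {w : leechLattice | Q w}.ncard := by
  have e3 : {w : leechLattice | Q w} = g '' {w : leechLattice | P w} := by
    ext w
    constructor
    · intro hw
      refine ⟨g.symm w, ?_, by simp⟩
      show P (g.symm w)
      rw [h]
      simpa using hw
    · rintro ⟨u, hu, rfl⟩
      exact (h u).mp hu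
  rw [e3, Set.ncard_image_of_injective _ g.injective]

/-- A set of lattice elements and the set of their underlying vectors have the same size. -/
theorem ncard_val (P : (GolayPt → ℤ) → Prop) :
    {w : leechLattice | P (w : GolayPt → ℤ)}.ncard
      = {w : GolayPt → ℤ | w ∈ leechLattice ∧ P w}.ncard := by
  have e1 : {w : GolayPt → ℤ | w ∈ leechLattice ∧ P w}
      = Subtype.val '' {w : leechLattice | P (w : GolayPt → ℤ)} := by
    ext w
    constructor
    · rintro ⟨hw, hP⟩
      exact ⟨⟨w, hw⟩, hP, rfl⟩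
    · rintro ⟨w, hP, rfl⟩
      exact ⟨w.2, hP⟩
  rw [e1, Set.ncard_image_of_injective _ Subtype.val_injective]

/-! ### The orbit relation of the pointwise stabiliser of a list of vectors -/

/-- `y` is the image of `x` under an automorphism fixing every vector of `F`. -/
def Rf (F : List (GolayPt → ℤ)) (x y : GolayPt → ℤ) : Prop :=
  ∃ f ∈ Co0, (∀ b ∈ F, ∀ hb : b ∈ leechLattice, f ⟨b, hb⟩ = (⟨b, hb⟩ : leechLattice)) ∧
    ∃ (hx : x ∈ leechLattice) (hy : y ∈ leechLattice), f ⟨x, hx⟩ = (⟨y, hy⟩ : leechLattice)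

theorem Rf.refl (F : List (GolayPt → ℤ)) {x : GolayPt → ℤ} (hx : x ∈ leechLattice) : Rf F x x :=
  ⟨1, Co0.one_mem, fun _ _ _ => rfl, hx, hx, rfl⟩

theorem Rf.symm {F : List (GolayPt → ℤ)} {x y : GolayPt → ℤ} (h : Rf F x y) : Rf F y x := by
  obtain ⟨f, hf, hF, hx, hy, e⟩ := h
  refine ⟨f⁻¹, Co0.inv_mem hf, ?_, hy, hx, ?_⟩
  · intro b hb hbl
    have := hF b hb hbl
    rw [Equiv.Perm.inv_def, Equiv.symm_apply_eq]
    exact this.symm
  · rw [← e]
    simp

theorem Rf.trans {F : List (GolayPt → ℤ)} {x y z : GolayPt → ℤ} (h1 : Rf F x y) (h2 : Rf F y z) :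
    Rf F x z := by
  obtain ⟨f, hf, hF, hx, hy, e⟩ := h1
  obtain ⟨g, hg, hG, hy', hz, e'⟩ := h2
  refine ⟨g * f, Co0.mul_mem hg hf, ?_, hx, hz, ?_⟩
  · intro b hb hbl
    rw [Equiv.Perm.mul_apply, hF b hb hbl, hG b hb hbl]
  · rw [Equiv.Perm.mul_apply, e, e']

theorem Rf.mem_left {F : List (GolayPt → ℤ)} {x y : GolayPt → ℤ} (h : Rf F x y) :
    x ∈ leechLattice := by
  obtain ⟨f, hf, hF, hx, hy, e⟩ := h
  exact hx

theorem Rf.mem_right {F : List (GolayPt → ℤ)} {x y : GolayPt → ℤ} (h : Rf F x y) :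
    y ∈ leechLattice := by
  obtain ⟨f, hf, hF, hx, hy, e⟩ := h
  exact hy

end Cfsg.Agent.Lib.Helper27.Co0Act
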