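import Mathlib
import Cfsg.Prelude.Def_Sporadic_a
import Cfsg.Agent.Lib.Helper27.MinTab
import Cfsg.Agent.Lib.Helper27.Spread

/-!
Fast computation of the packed forms (16-bit lanes, and lanes spread 25 apart) of the vectors of
the enumeration of `MinTab`.
-/

set_option autoImplicit false

namespace Cfsg.Agent.Lib.Helper27.MinFast

open Cfsg Cfsg.Agent.Lib.Helper27.Bits Cfsg.Agent.Lib.Helper27.Golay Cfsg.Agent.Lib.Helper27.Fast
open Cfsg.Agent.Lib.Helper27.MinTab Cfsg.Agent.Lib.Helper27.Spread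

/-- lane base -/
def Bb : ℕ := 65536
/-- `Bb ^ 25` -/
def Cb : ℕ := 0x10000000000000000000000000000000000000000000000000000000000000000000000000000000000000000000000000000
/-- all lanes 8 -/
def EIGHTS : ℕ := 0x800080008000800080008000800080008000800080008000800080008000800080008000800080008000800080008
/-- all lanes 9 -/
def NINES : ℕ := 0x900090009000900090009000900090009000900090009000900090009000900090009000900090009000900090009
/-- bits of a mask, one per lane -/
def sprB (m : ℕ) : ℕ :=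
  Nat.add (Nat.land (Nat.mul (Nat.mod m 4096) J12) MJ12)
    (Nat.shiftLeft (Nat.land (Nat.mul (Nat.div m 4096) J12) MJ12) 192)

/-- vectors with two coordinates `±4` -/
def mvBA (k : ℕ) : ℕ :=
  (fun pi pj => Nat.sub (Nat.sub (Nat.add (Nat.add EIGHTS (Nat.mul (cond (Nat.beq (Nat.mod k 2) 1) 0 8) pi))
      (Nat.mul (cond (Nat.beq (Nat.mod (Nat.div k 2) 2) 1) 0 8) pj)) (Nat.mul 4 pi)) (Nat.mul 4 pj))
    (Nat.shiftLeft 1 (Nat.mul 16 (Nat.div (Nat.div k 4) 24)))
    (Nat.shiftLeft 1 (Nat.mul 16 (Nat.mod (Nat.div k 4) 24)))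

/-- vectors with eight coordinates `±2` -/
def mvBB (k : ℕ) : ℕ :=
  Nat.sub (Nat.mod (rowO (Nat.div k 128)) B24) (Nat.mul 4 (depL (Nat.div k 128) (Nat.mod k 128)))

/-- vectors with odd coordinates -/
def mvBC (k : ℕ) : ℕ :=
  (fun m j => (fun W pj => cond (Nat.beq (Nat.land (Nat.shiftRight m j) 1) 1) (Nat.add W pj) (Nat.sub W pj))
      (Nat.sub NINES (Nat.mul 2 (sprB m))) (Nat.shiftLeft 4 (Nat.mul 16 j)))
    (cw (Nat.div k 24)) (Nat.mod k 24)

/-- packed form of vector number `k`, 16-bit lanes -/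
def mvB (k : ℕ) : ℕ :=
  cond (Nat.blt k 2304) (mvBA k) (cond (Nat.blt k 99456) (mvBB (Nat.sub k 2304)) (mvBC (Nat.sub k 99456)))

/-- packed form of vector number `k`, lanes spread 25 apart -/
def mvS (k : ℕ) : ℕ := spreadS (mvB k)

/-- bit `q` of `m`, as a Boolean -/
def bitF (m q : ℕ) : Bool := Nat.beq (Nat.land (Nat.shiftRight m q) 1) 1

/-- `laneA`, in a form that evaluates fast -/
def laneAF (k q : ℕ) : ℕ :=
  cond (Nat.beq q (Nat.div (Nat.div k 4) 24)) (cond (Nat.beq (Nat.mod k 2) 1) 4 12)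
    (cond (Nat.beq q (Nat.mod (Nat.div k 4) 24)) (cond (Nat.beq (Nat.mod (Nat.div k 2) 2) 1) 4 12) 8)

/-- `laneB`, from the two masks -/
def laneBF (O e q : ℕ) : ℕ := cond (bitF O q) (cond (bitF e q) 6 10) 8

/-- `laneC`, from the mask -/
def laneCF (m j q : ℕ) : ℕ := cond (Nat.beq q j) (cond (bitF m q) 11 5) (cond (bitF m q) 7 9)

/-- `laneRef`, in a form that evaluates fast -/
def laneRefF (k : ℕ) : ℕ → ℕ :=
  cond (Nat.blt k 2304) (laneAF k)
    (cond (Nat.blt k 99456)
      (laneBF (octM (Nat.div (Nat.sub k 2304) 128)) (eS (Nat.div (Nat.sub k 2304) 128) (Nat.mod (Nat.sub k 2304) 128)))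
      (laneCF (cw (Nat.div (Nat.sub k 99456) 24)) (Nat.mod (Nat.sub k 99456) 24)))

/-- reference value of the packed form -/
noncomputable def refB (L : ℕ → ℕ) (n : ℕ) : ℕ :=
  Nat.rec 0 (fun q acc => Nat.add acc (Nat.shiftLeft (L q) (Nat.mul 16 q))) n

/-- the check of one code -/
noncomputable def chk (k : ℕ) : Bool :=
  !(validK k) || Nat.beq (mvB k) (refB (laneRefF k) 24)

/-- the check of one code word -/
noncomputable def chkC (c : ℕ) : Bool :=
  Nat.beq (Nat.sub NINES (Nat.mul 2 (sprB (cw c)))) (refB (fun q => cond (bitF (cw c) q) 7 9) 24)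

end Cfsg.Agent.Lib.Helper27.MinFast
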