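import Mathlib
import Cfsg.Agent.Lib.Helper27.MinFast

/-! Check of the fast packed forms against the lane functions, codes 26592 to 50880. -/

set_option autoImplicit false

namespace Cfsg.Agent.Lib.Helper27.MinChk2

open Cfsg.Agent.Lib.Helper27.Bits Cfsg.Agent.Lib.Helper27.MinFast

set_option maxRecDepth 1000000 in
theorem part : allB 24288 (fun i => chk (26592 + i)) = true := by decide +kernel

end Cfsg.Agent.Lib.Helper27.MinChk2
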