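import Mathlib

/-!
Packing of digit sequences into natural numbers, digit extraction, and the dot product of two
packed sequences read off from one multiplication.
-/

set_option autoImplicit false

namespace Cfsg.Agent.Lib.Helper27.Pk

/-- `∑ i < n, f i * b ^ i` -/
def pk (b : ℕ) (f : ℕ → ℕ) (n : ℕ) : ℕ := ∑ i ∈ Finset.range n, f i * b ^ i

theorem pk_zero (b : ℕ) (f : ℕ → ℕ) : pk b f 0 = 0 := by simp [pk]

theorem pk_succ (b : ℕ) (f : ℕ → ℕ) (n : ℕ) : pk b f (n + 1) = pk b f n + f n * b ^ n := by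
  simp [pk, Finset.sum_range_succ]

theorem pk_succ' (b : ℕ) (f : ℕ → ℕ) (n : ℕ) :
    pk b f (n + 1) = f 0 + b * pk b (fun i => f (i + 1)) n := by
  unfold pk
  rw [Finset.sum_range_succ', Finset.mul_sum, pow_zero, mul_one, add_comm]
  congr 1
  apply Finset.sum_congr rfl
  intro i _
  ring

/-- structural version, for evaluation -/
def pkR (b : ℕ) (f : ℕ → ℕ) (n : ℕ) : ℕ := Nat.rec 0 (fun i acc => acc + f i * b ^ i) n

theorem pkR_eq (b : ℕ) (f : ℕ → ℕ) (n : ℕ) : pkR b f n = pk b f n := by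
  induction n with
  | zero => simp [pkR, pk]
  | succ n ih =>
    rw [pk_succ, ← ih]
    rfl

theorem pk_congr (b : ℕ) {f g : ℕ → ℕ} (n : ℕ) (h : ∀ i < n, f i = g i) : pk b f n = pk b g n := by
  unfold pk
  apply Finset.sum_congr rfl
  intro i hi
  rw [h i (Finset.mem_range.mp hi)]

theorem pk_lt {b : ℕ} {f : ℕ → ℕ} {n : ℕ} (hf : ∀ i < n, f i < b) : pk b f n < b ^ n ∨ n = 0 := by
  induction n with
  | zero => right; rfl
  | succ n ih =>
    left
    have hb : 0 < b := lt_of_le_of_lt (Nat.zero_le _) (hf n (Nat.lt_succ_self n))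
    have h1 : pk b f n < b ^ n ∨ n = 0 := ih (fun i hi => hf i (Nat.lt_succ_of_lt hi))
    have h2 : pk b f n < b ^ n := by
      rcases h1 with h | h
      · exact h
      · subst h
        simp [pk_zero]
    rw [pk_succ, pow_succ]
    have h3 : f n + 1 ≤ b := hf n (Nat.lt_succ_self n)
    calc pk b f n + f n * b ^ n < b ^ n + f n * b ^ n := by omega
      _ = (f n + 1) * b ^ n := by ring
      _ ≤ b * b ^ n := Nat.mul_le_mul_right _ h3
      _ = b ^ n * b := by ring

theorem pk_lt' {b : ℕ} (_hb : 0 < b) {f : ℕ → ℕ} {n : ℕ} (hf : ∀ i < n, f i < b) :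
    pk b f n < b ^ n := by
  rcases pk_lt hf with h | h
  · exact h
  · subst h
    simp [pk_zero]

theorem pk_digit {b : ℕ} {f : ℕ → ℕ} {n : ℕ} (hf : ∀ i < n, f i < b) :
    ∀ k, k < n → pk b f n / b ^ k % b = f k := by
  induction n generalizing f with
  | zero => intro k hk; omega
  | succ n ih =>
    intro k hk
    have hb : 0 < b := lt_of_le_of_lt (Nat.zero_le _) (hf 0 (Nat.succ_pos n))
    rw [pk_succ']
    cases k with
    | zero =>
      rw [pow_zero, Nat.div_one, Nat.add_mul_mod_self_left]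
      exact Nat.mod_eq_of_lt (hf 0 (Nat.succ_pos n))
    | succ k =>
      have h0 : f 0 < b := hf 0 (Nat.succ_pos n)
      rw [pow_succ, mul_comm (b ^ k) b, ← Nat.div_div_eq_div_mul]
      have h1 : (f 0 + b * pk b (fun i => f (i + 1)) n) / b = pk b (fun i => f (i + 1)) n := by
        rw [Nat.add_mul_div_left _ _ hb, Nat.div_eq_of_lt h0, zero_add]
      rw [h1]
      exact ih (fun i hi => hf (i + 1) (Nat.succ_lt_succ hi)) k (Nat.lt_of_succ_lt_succ hk)

theorem pk_ext {b : ℕ} {f g : ℕ → ℕ} {n : ℕ} (hf : ∀ i < n, f i < b) (hg : ∀ i < n, g i < b)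
    (h : pk b f n = pk b g n) : ∀ i < n, f i = g i := by
  intro i hi
  rw [← pk_digit hf i hi, ← pk_digit hg i hi, h]

theorem pk_digits_self {b : ℕ} (hb : 0 < b) : ∀ (n X : ℕ), X < b ^ n →
    X = pk b (fun i => X / b ^ i % b) n := by
  intro n
  induction n with
  | zero =>
    intro X hX
    simp only [pow_zero, Nat.lt_one_iff] at hX
    simp [pk_zero, hX]
  | succ n ih =>
    intro X hX
    rw [pk_succ']
    have h1 : X / b < b ^ n := by
      rw [Nat.div_lt_iff_lt_mul hb]
      rwa [pow_succ] at hX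
    have h2 := ih (X / b) h1
    have h3 : pk b (fun i => X / b ^ (i + 1) % b) n = pk b (fun i => X / b / b ^ i % b) n := by
      apply pk_congr
      intro i _
      rw [Nat.div_div_eq_div_mul, pow_succ, mul_comm]
    rw [h3, ← h2, pow_zero, Nat.div_one]
    exact (Nat.mod_add_div X b).symm

theorem pk_add_fun (b : ℕ) (f g : ℕ → ℕ) (n : ℕ) :
    pk b (fun i => f i + g i) n = pk b f n + pk b g n := by
  unfold pk
  rw [← Finset.sum_add_distrib]
  apply Finset.sum_congr rfl
  intro i _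
  ring

theorem pk_const_mul (b c : ℕ) (f : ℕ → ℕ) (n : ℕ) :
    pk b (fun i => c * f i) n = c * pk b f n := by
  unfold pk
  rw [Finset.mul_sum]
  apply Finset.sum_congr rfl
  intro i _
  ring

theorem pk_sum (b : ℕ) (m : ℕ) (g : ℕ → ℕ → ℕ) (n : ℕ) :
    pk b (fun i => ∑ k ∈ Finset.range m, g k i) n = ∑ k ∈ Finset.range m, pk b (g k) n := by
  unfold pk
  rw [Finset.sum_comm]
  apply Finset.sum_congr rfl
  intro i _
  rw [Finset.sum_mul]

/-- reversed packing: `∑ i < n, r i * b ^ (n - 1 - i)` -/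
def pkRev (b : ℕ) (r : ℕ → ℕ) : ℕ → ℕ
  | 0 => 0
  | n + 1 => b * pkRev b r n + r n

theorem pkRev_eq_pk (b : ℕ) (r : ℕ → ℕ) (n : ℕ) :
    pkRev b r n = pk b (fun i => r (n - 1 - i)) n := by
  induction n with
  | zero => simp [pkRev, pk_zero]
  | succ n ih =>
    rw [pk_succ']
    show b * pkRev b r n + r n = _
    rw [ih, add_comm]
    congr 1
    congr 1
    apply pk_congr
    intro i _
    congr 1
    omega

theorem pk_mul_le {b α : ℕ} (hb : 2 ≤ b) {a : ℕ → ℕ} :
    ∀ n, (∀ k < n, a k ≤ α) → pk b a n * b ≤ 2 * α * b ^ n := by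
  intro n
  induction n with
  | zero => intro _; simp [pk_zero]
  | succ n ih =>
    intro ha
    have h1 := ih (fun k hk => ha k (Nat.lt_succ_of_lt hk))
    have h2 : a n ≤ α := ha n (Nat.lt_succ_self n)
    rw [pk_succ, pow_succ]
    have h3 : a n * b ^ n * b ≤ α * b ^ n * b := Nat.mul_le_mul_right _ (Nat.mul_le_mul_right _ h2)
    have h4 : 2 * α * b ^ n ≤ α * b ^ n * b := by
      calc 2 * α * b ^ n = α * b ^ n * 2 := by ring
        _ ≤ α * b ^ n * b := Nat.mul_le_mul_left _ hb
    calc (pk b a n + a n * b ^ n) * b = pk b a n * b + a n * b ^ n * b := by ring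
      _ ≤ α * b ^ n * b + α * b ^ n * b := by omega
      _ = 2 * α * (b ^ n * b) := by ring

theorem dot_aux {b α β : ℕ} (hb : 2 ≤ b) {a r : ℕ → ℕ} :
    ∀ n, (∀ k < n + 1, a k ≤ α) → (∀ k < n + 1, r k ≤ β) →
    ∃ L H, pk b a (n + 1) * pkRev b r (n + 1)
        = L + (∑ k ∈ Finset.range (n + 1), a k * r k) * b ^ n + H * b ^ (n + 1) ∧
      L * b ≤ 2 * n * α * β * b ^ n := by
  intro n
  induction n with
  | zero =>
    intro _ _
    refine ⟨0, 0, ?_, by simp⟩
    simp [pk, pkRev]
  | succ n ih =>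
    intro ha hr
    obtain ⟨L, H, h1, h2⟩ := ih (fun k hk => ha k (Nat.lt_succ_of_lt hk))
      (fun k hk => hr k (Nat.lt_succ_of_lt hk))
    have hA := pk_mul_le hb (n + 1) (fun k hk => ha k (Nat.lt_succ_of_lt hk))
    have hrn : r (n + 1) ≤ β := hr (n + 1) (Nat.lt_succ_self _)
    refine ⟨b * L + r (n + 1) * pk b a (n + 1), H + a (n + 1) * pkRev b r (n + 1), ?_, ?_⟩
    · rw [pk_succ b a (n + 1), Finset.sum_range_succ _ (n + 1)]
      show (pk b a (n + 1) + a (n + 1) * b ^ (n + 1)) * (b * pkRev b r (n + 1) + r (n + 1)) = _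
      have e : pk b a (n + 1) * (b * pkRev b r (n + 1))
          = b * (pk b a (n + 1) * pkRev b r (n + 1)) := by ring
      have e2 : (pk b a (n + 1) + a (n + 1) * b ^ (n + 1)) * (b * pkRev b r (n + 1) + r (n + 1))
          = b * (pk b a (n + 1) * pkRev b r (n + 1)) + r (n + 1) * pk b a (n + 1)
            + a (n + 1) * r (n + 1) * b ^ (n + 1)
            + a (n + 1) * pkRev b r (n + 1) * b ^ (n + 1 + 1) := by ring
      rw [e2, h1]
      ring
    · have h3 : r (n + 1) * pk b a (n + 1) * b ≤ β * (2 * α * b ^ (n + 1)) := by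
        calc r (n + 1) * pk b a (n + 1) * b = r (n + 1) * (pk b a (n + 1) * b) := by ring
          _ ≤ β * (2 * α * b ^ (n + 1)) := Nat.mul_le_mul hrn hA
      have h4 : b * L * b ≤ b * (2 * n * α * β * b ^ n) := by
        calc b * L * b = b * (L * b) := by ring
          _ ≤ b * (2 * n * α * β * b ^ n) := Nat.mul_le_mul_left _ h2
      calc (b * L + r (n + 1) * pk b a (n + 1)) * b
          = b * L * b + r (n + 1) * pk b a (n + 1) * b := by ring
        _ ≤ b * (2 * n * α * β * b ^ n) + β * (2 * α * b ^ (n + 1)) := by omega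
        _ = 2 * (n + 1) * α * β * b ^ (n + 1) := by ring

/-- The dot product of two digit sequences, read off from the product of the packings. -/
theorem dot_lane {b α β : ℕ} {a r : ℕ → ℕ} (n : ℕ) (ha : ∀ k < n + 1, a k ≤ α)
    (hr : ∀ k < n + 1, r k ≤ β) (hb2 : 2 ≤ b) (hb : 2 * (n + 1) * α * β < b) :
    pk b a (n + 1) * pkRev b r (n + 1) / b ^ n % b = ∑ k ∈ Finset.range (n + 1), a k * r k := by
  obtain ⟨L, H, h1, h2⟩ := dot_aux hb2 n ha hr
  have hbpos : 0 < b := by omega
  have hD : ∑ k ∈ Finset.range (n + 1), a k * r k < b := by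
    have : ∑ k ∈ Finset.range (n + 1), a k * r k ≤ ∑ _k ∈ Finset.range (n + 1), α * β := by
      apply Finset.sum_le_sum
      intro k hk
      exact Nat.mul_le_mul (ha k (Finset.mem_range.mp hk)) (hr k (Finset.mem_range.mp hk))
    rw [Finset.sum_const, Finset.card_range, smul_eq_mul] at this
    have h3 : (n + 1) * (α * β) ≤ 2 * (n + 1) * α * β := by
      calc (n + 1) * (α * β) ≤ 2 * ((n + 1) * (α * β)) := by omega
        _ = 2 * (n + 1) * α * β := by ring
    omega
  have hL : L < b ^ n := by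
    have h3 : 2 * n * α * β * b ^ n < b * b ^ n := by
      apply Nat.mul_lt_mul_of_lt_of_le _ (le_refl _) (by positivity)
      calc 2 * n * α * β ≤ 2 * (n + 1) * α * β := by
            apply Nat.mul_le_mul_right
            apply Nat.mul_le_mul_right
            omega
        _ < b := hb
    have h4 : L * b < b ^ n * b := by
      calc L * b ≤ 2 * n * α * β * b ^ n := h2
        _ < b * b ^ n := h3
        _ = b ^ n * b := by ring
    exact Nat.lt_of_mul_lt_mul_right h4
  rw [h1]
  have e : L + (∑ k ∈ Finset.range (n + 1), a k * r k) * b ^ n + H * b ^ (n + 1)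
      = L + b ^ n * ((∑ k ∈ Finset.range (n + 1), a k * r k) + H * b) := by ring
  rw [e, Nat.add_mul_div_left _ _ (by positivity), Nat.div_eq_of_lt hL, zero_add,
    Nat.add_mul_mod_self_right]
  exact Nat.mod_eq_of_lt hD

end Cfsg.Agent.Lib.Helper27.Pk
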