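import Mathlib
import Cfsg.Prelude.Def_Sporadic_a
import Cfsg.Agent.Lib.Helper27.Fast
import Cfsg.Agent.Lib.Helper27.Coset
import Cfsg.Agent.Lib.Helper27.Pk
import Cfsg.Agent.Lib.Helper27.MinTab
import Cfsg.Agent.Lib.Helper92.MinVec
import Cfsg.Agent.S0394

/-!
The enumeration of the vectors of sum of squares 32 of the lattice by the codes of `MinTab` is
complete and injective.
-/

set_option autoImplicit false

namespace Cfsg.Agent.Lib.Helper27.MinEnum

open Cfsg Cfsg.Agent.Lib.Helper27.Bits Cfsg.Agent.Lib.Helper27.Golay Cfsg.Agent.Lib.Helper27.Fast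
open Cfsg.Agent.Lib.Helper27.Pk Cfsg.Agent.Lib.Helper92.MinVec Cfsg.Agent.Lib.Helper27.Coset
open Cfsg.Agent.Lib.Helper27.MinTab

/-- the vector of a lane function: coordinate `= lane - 8` -/
def vecL (L : ℕ → ℕ) : GolayPt → ℤ := fun p => (L (idx p) : ℤ) - 8

theorem vecL_congr {L L' : ℕ → ℕ} (h : ∀ i < 24, L i = L' i) : vecL L = vecL L' := by
  funext p
  unfold vecL
  rw [h _ (idx_lt p)]

theorem vecL_inj {L L' : ℕ → ℕ} (h : vecL L = vecL L') : ∀ i < 24, L i = L' i := by
  intro i hi
  have := congrFun h (pt i)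
  unfold vecL at this
  rw [idx_pt i hi] at this
  omega

theorem sum_idx (F : ℕ → ℤ) : ∑ p : GolayPt, F (idx p) = ∑ i ∈ Finset.range 24, F i := by
  apply Finset.sum_nbij' (fun p => idx p) (fun i => pt i)
  · intro p _
    simp [idx_lt]
  · intro i _
    simp
  · intro p _
    exact pt_idx p
  · intro i hi
    exact idx_pt i (by simpa using hi)
  · intro p _
    rfl

/-! ### Every vector of sum of squares 32 has a code -/

theorem laneA_le (k q : ℕ) : laneA k q ≤ 12 := by
  unfold laneA
  repeat' split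
  all_goals omega

theorem laneB_le (o s q : ℕ) : laneB o s q ≤ 12 := by
  unfold laneB
  repeat' split
  all_goals omega

theorem laneC_le (c j q : ℕ) : laneC c j q ≤ 12 := by
  unfold laneC
  repeat' split
  all_goals omega

theorem laneRef_le (k i : ℕ) : laneRef k i ≤ 12 := by
  unfold laneRef
  split
  · exact laneA_le _ _
  · split
    · exact laneB_le _ _ _
    · exact laneC_le _ _ _


theorem shapeA_code {a b : GolayPt} (hab : idx a < idx b) {e : Finset GolayPt}
    (he : e ⊆ {a, b}) :
    ∃ k < KTOT, validK k = true ∧ vecL (laneRef k) = shape 4 {a, b} e := by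
  obtain ⟨sa, hsa, hsa'⟩ : ∃ sa : ℕ, sa < 2 ∧ (sa = 1 ↔ a ∈ e) := by
    by_cases h : a ∈ e
    · exact ⟨1, by norm_num, by simp [h]⟩
    · exact ⟨0, by norm_num, by simp [h]⟩
  obtain ⟨sb, hsb, hsb'⟩ : ∃ sb : ℕ, sb < 2 ∧ (sb = 1 ↔ b ∈ e) := by
    by_cases h : b ∈ e
    · exact ⟨1, by norm_num, by simp [h]⟩
    · exact ⟨0, by norm_num, by simp [h]⟩
  have hb := idx_lt b
  have h1 : (4 * (24 * idx a + idx b) + sa + 2 * sb) / 4 / 24 = idx a := by omega
  have h2 : (4 * (24 * idx a + idx b) + sa + 2 * sb) / 4 % 24 = idx b := by omega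
  have h3 : (4 * (24 * idx a + idx b) + sa + 2 * sb) % 2 = sa := by omega
  have h4 : (4 * (24 * idx a + idx b) + sa + 2 * sb) / 2 % 2 = sb := by omega
  have hk : 4 * (24 * idx a + idx b) + sa + 2 * sb < 2304 := by omega
  refine ⟨4 * (24 * idx a + idx b) + sa + 2 * sb, by unfold KTOT; omega, ?_, ?_⟩
  · unfold validK
    rw [h1, h2]
    simp [hab]
  · funext p
    unfold vecL laneRef
    rw [if_pos hk]
    unfold laneA shape
    rw [h1, h2, h3, h4]
    by_cases hpa : p = a
    · subst hpa
      rw [if_pos rfl]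
      by_cases hpe : p ∈ e
      · rw [if_pos (hsa'.mpr hpe), if_pos hpe]
        norm_num
      · have : ¬ sa = 1 := fun h => hpe (hsa'.mp h)
        rw [if_neg this, if_neg hpe, if_pos (by simp)]
        norm_num
    · have hne : idx p ≠ idx a := fun h => hpa (idx_injective h)
      rw [if_neg hne]
      by_cases hpb : p = b
      · subst hpb
        rw [if_pos rfl]
        by_cases hpe : p ∈ e
        · rw [if_pos (hsb'.mpr hpe), if_pos hpe]
          norm_num
        · have : ¬ sb = 1 := fun h => hpe (hsb'.mp h)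
          rw [if_neg this, if_neg hpe, if_pos (by simp)]
          norm_num
      · have hne' : idx p ≠ idx b := fun h => hpb (idx_injective h)
        have hp : p ∉ ({a, b} : Finset GolayPt) := by simp [hpa, hpb]
        rw [if_neg hne', if_neg (fun h => hp (he h)), if_neg hp]
        norm_num

theorem card_even_subsets {α : Type*} [DecidableEq α] (O : Finset α) (hO : O.card = 8) :
    (O.powerset.filter (fun e => Even e.card)).card = 128 := by
  have hne : O.Nonempty := by
    rw [← Finset.card_pos]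
    omega
  have h1 := Finset.sum_powerset_neg_one_pow_card_of_nonempty hne
  have h2 : ∑ m ∈ O.powerset, (-1 : ℤ) ^ m.card
      = ∑ m ∈ O.powerset, (if Even m.card then (1 : ℤ) else -1) := by
    apply Finset.sum_congr rfl
    intro m _
    split_ifs with h
    · exact Even.neg_one_pow h
    · exact Odd.neg_one_pow (Nat.not_even_iff_odd.mp h)
  rw [h2, Finset.sum_ite, Finset.sum_const, Finset.sum_const] at h1
  have h3 := Finset.card_filter_add_card_filter_not (s := O.powerset) (fun e => Even e.card)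
  rw [Finset.card_powerset, hO] at h3
  simp only [nsmul_eq_mul, mul_one, mul_neg] at h1
  have h4 : ((O.powerset.filter (fun e => Even e.card)).card : ℤ)
      = ((O.powerset.filter (fun e => ¬ Even e.card)).card : ℤ) := by linarith
  have h5 : (O.powerset.filter (fun e => Even e.card)).card
      = (O.powerset.filter (fun e => ¬ Even e.card)).card := by exact_mod_cast h4
  omega

theorem lt_of_step {f : ℕ → ℕ} {n : ℕ} (h : ∀ s, s + 1 < n → f s < f (s + 1)) :
    ∀ b, b < n → ∀ a, a < b → f a < f b := by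
  intro b
  induction b with
  | zero => intro _ a ha; omega
  | succ b ih =>
    intro hb a ha
    rcases Nat.lt_succ_iff_lt_or_eq.mp ha with h1 | h1
    · exact lt_trans (ih (by omega) a h1) (h b hb)
    · rw [h1]
      exact h b hb

theorem eS_facts {o : ℕ} (ho : o < 759) : pcF (octM o) = 8 ∧ ∀ s < 128,
    octM o &&& eS o s = eS o s ∧ pcF (eS o s) % 2 = 0 ∧ (s + 1 < 128 → eS o s < eS o (s + 1)) := by
  have h := (allB_iff _ _).mp eS_tab o ho
  rw [Bool.and_eq_true] at h
  refine ⟨Nat.eq_of_beq_eq_true h.1, ?_⟩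
  intro s hs
  have h2 := (allB_iff _ _).mp h.2 s hs
  simp only [Bool.and_eq_true, Bool.or_eq_true, Bool.not_eq_true'] at h2
  refine ⟨Nat.eq_of_beq_eq_true h2.1.1, Nat.eq_of_beq_eq_true h2.1.2, ?_⟩
  intro hs1
  rcases h2.2 with h3 | h3
  · have : Nat.blt (s + 1) 128 = true := by
      rw [Nat.blt_eq]
      exact hs1
    rw [this] at h3
    exact absurd h3 (by simp)
  · exact Nat.blt_eq.mp h3

theorem even_sub_cover {o : ℕ} (ho : o < 759) {e : Finset GolayPt} (he : e ⊆ fsOf (octM o))
    (hev : Even e.card) : ∃ s < 128, fsOf (eS o s) = e := by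
  classical
  obtain ⟨h8, hf⟩ := eS_facts ho
  have hO : (fsOf (octM o)).card = 8 := by rw [card_setOf_F, h8]
  have hE := card_even_subsets (fsOf (octM o)) hO
  have hlt : ∀ s < 128, eS o s < 2 ^ 24 := by
    intro s hs
    have h1 := (hf s hs).1
    rw [← h1]
    exact lt_of_le_of_lt Nat.and_le_left (tget_lt _ _ _)
  have hmono := lt_of_step (f := eS o) (n := 128) (fun s hs => (hf s (by omega)).2.2 hs)
  have hinj : Set.InjOn (fun s => fsOf (eS o s)) (Finset.range 128 : Finset ℕ) := by
    intro a ha b hb hab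
    have ha' : a < 128 := by simpa using ha
    have hb' : b < 128 := by simpa using hb
    have h1 : eS o a = eS o b := setOf_injOn (hlt a ha') (hlt b hb') hab
    by_contra hne
    rcases Nat.lt_or_gt_of_ne hne with h | h
    · have := hmono b hb' a h
      omega
    · have := hmono a ha' b h
      omega
  have hsub : (Finset.range 128).image (fun s => fsOf (eS o s))
      ⊆ (fsOf (octM o)).powerset.filter (fun e => Even e.card) := by
    intro x hx
    obtain ⟨s, hs, rfl⟩ := Finset.mem_image.mp hx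
    have hs' : s < 128 := by simpa using hs
    rw [Finset.mem_filter, Finset.mem_powerset]
    refine ⟨subset_of_and_eq (hf s hs').1, ?_⟩
    rw [card_setOf_F]
    exact Nat.even_iff.mpr (hf s hs').2.1
  have hcard : ((Finset.range 128).image (fun s => fsOf (eS o s))).card = 128 := by
    rw [Finset.card_image_of_injOn hinj, Finset.card_range]
  have heq := Finset.eq_of_subset_of_card_le hsub (by rw [hE, hcard])
  have hmem : e ∈ (fsOf (octM o)).powerset.filter (fun e => Even e.card) := by
    rw [Finset.mem_filter, Finset.mem_powerset]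
    exact ⟨he, hev⟩
  rw [← heq] at hmem
  obtain ⟨s, hs, rfl⟩ := Finset.mem_image.mp hmem
  exact ⟨s, by simpa using hs, rfl⟩

theorem shapeB_code {O e : Finset GolayPt} (hO : IsCW O) (hO8 : O.card = 8) (he : e ⊆ O)
    (hev : Even e.card) : ∃ k < KTOT, validK k = true ∧ vecL (laneRef k) = shape 2 O e := by
  obtain ⟨c, hc, rfl⟩ := (mem_supports_cw O).mp hO
  have h8 : pcF (cw c) = 8 := by rw [← card_setOf_F]; exact hO8
  have ht := (allB_iff _ _).mp oct_tab c hc
  have hb : Nat.beq (pcF (cw c)) 8 = true := by rw [h8]; rfl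
  rw [hb] at ht
  simp only [Bool.not_true, Bool.false_or, Bool.and_eq_true] at ht
  have ho : octI c < 759 := Nat.blt_eq.mp ht.1
  have hoM : octM (octI c) = cw c := Nat.eq_of_beq_eq_true ht.2
  obtain ⟨s, hs, rfl⟩ := even_sub_cover ho (by rwa [hoM]) hev
  have hk1 : ¬ (2304 + 128 * octI c + s < 2304) := by omega
  have hk2 : 2304 + 128 * octI c + s < 99456 := by omega
  have h1 : (2304 + 128 * octI c + s - 2304) / 128 = octI c := by omega
  have h2 : (2304 + 128 * octI c + s - 2304) % 128 = s := by omega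
  refine ⟨2304 + 128 * octI c + s, by unfold KTOT; omega, ?_, ?_⟩
  · unfold validK
    simp [hk1]
  · funext p
    unfold vecL laneRef
    rw [if_neg hk1, if_pos hk2, h1, h2]
    unfold laneB shape
    rw [hoM]
    by_cases hpe : p ∈ fsOf (eS (octI c) s)
    · have hpO : p ∈ fsOf (cw c) := he hpe
      rw [if_pos ((mem_setOf _ _).mp hpO), if_pos ((mem_setOf _ _).mp hpe), if_pos hpe]
      norm_num
    · have hpe' : ¬ ((eS (octI c) s).testBit (idx p) = true) := fun h => hpe ((mem_setOf _ _).mpr h)
      by_cases hpO : p ∈ fsOf (cw c)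
      · rw [if_pos ((mem_setOf _ _).mp hpO), if_neg hpe', if_neg hpe, if_pos hpO]
        norm_num
      · have hpO' : ¬ ((cw c).testBit (idx p) = true) := fun h => hpO ((mem_setOf _ _).mpr h)
        rw [if_neg hpO', if_neg hpe, if_neg hpO]
        norm_num

theorem shapeC_code {c : Finset GolayPt} (hc : IsCW c) (j : GolayPt) :
    ∃ k < KTOT, validK k = true ∧ vecL (laneRef k) = tw c (w3 j) := by
  obtain ⟨ci, hci, rfl⟩ := (mem_supports_cw c).mp hc
  have hj := idx_lt j
  have hk1 : ¬ (99456 + 24 * ci + idx j < 2304) := by omega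
  have hk2 : ¬ (99456 + 24 * ci + idx j < 99456) := by omega
  have h1 : (99456 + 24 * ci + idx j - 99456) / 24 = ci := by omega
  have h2 : (99456 + 24 * ci + idx j - 99456) % 24 = idx j := by omega
  refine ⟨99456 + 24 * ci + idx j, by unfold KTOT; omega, ?_, ?_⟩
  · unfold validK
    simp [hk1]
  · funext p
    unfold vecL laneRef
    rw [if_neg hk1, if_neg hk2, h1, h2]
    unfold laneC tw w3
    by_cases hpj : p = j
    · subst hpj
      rw [if_pos rfl]
      by_cases hpc : p ∈ fsOf (cw ci)
      · rw [if_pos ((mem_setOf _ _).mp hpc), if_pos hpc, if_pos rfl]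
        norm_num
      · have hpc' : ¬ ((cw ci).testBit (idx p) = true) := fun h => hpc ((mem_setOf _ _).mpr h)
        rw [if_neg hpc', if_neg hpc, if_pos rfl]
        norm_num
    · have hne : idx p ≠ idx j := fun h => hpj (idx_injective h)
      rw [if_neg hne]
      by_cases hpc : p ∈ fsOf (cw ci)
      · rw [if_pos ((mem_setOf _ _).mp hpc), if_pos hpc, if_neg hpj]
        norm_num
      · have hpc' : ¬ ((cw ci).testBit (idx p) = true) := fun h => hpc ((mem_setOf _ _).mpr h)
        rw [if_neg hpc', if_neg hpc, if_neg hpj]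
        norm_num

/-- Every lattice vector of sum of squares 32 has a code. -/
theorem mv_complete {w : GolayPt → ℤ} (hw : w ∈ leechLattice) (hn : sqNorm w = 32) :
    ∃ k < KTOT, validK k = true ∧ vecL (laneRef k) = w := by
  rcases classify32 hw hn with ⟨p, e, hp, he, rfl⟩ | ⟨O, e, hO, hO8, he, hev, rfl⟩ |
    ⟨c, j, hc, rfl⟩
  · obtain ⟨a, b, hab, rfl⟩ := Finset.card_eq_two.mp hp
    have hne : idx a ≠ idx b := fun h => hab (idx_injective h)
    rcases Nat.lt_or_gt_of_ne hne with h | h
    · exact shapeA_code h he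
    · have e' : ({a, b} : Finset GolayPt) = {b, a} := Finset.pair_comm a b
      rw [e'] at he ⊢
      exact shapeA_code h he
  · exact shapeB_code hO hO8 he hev
  · exact shapeC_code hc j

/-! ### Counting -/

/-- the valid codes -/
def V : Finset ℕ := (Finset.range KTOT).filter (fun k => validK k = true)

theorem mem_V {k : ℕ} : k ∈ V ↔ k < KTOT ∧ validK k = true := by
  simp [V]

theorem card_V : V.card = 196560 := by
  rw [V, ← countB_eq]
  exact card_valid

theorem image_V : (V : Set ℕ).InjOn (fun k => vecL (laneRef k)) ∧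
    (fun k => vecL (laneRef k)) '' (V : Set ℕ)
      = {x : GolayPt → ℤ | x ∈ leechLattice ∧ sqNorm x = 32} := by
  classical
  have hsub : {x : GolayPt → ℤ | x ∈ leechLattice ∧ sqNorm x = 32}
      ⊆ ((V.image (fun k => vecL (laneRef k)) : Finset (GolayPt → ℤ)) : Set (GolayPt → ℤ)) := by
    rintro x ⟨hx, hn⟩
    obtain ⟨k, hk, hv, rfl⟩ := mv_complete hx hn
    rw [Finset.mem_coe, Finset.mem_image]
    exact ⟨k, mem_V.mpr ⟨hk, hv⟩, rfl⟩
  have hle : (V.image (fun k => vecL (laneRef k))).card ≤ 196560 := by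
    rw [← card_V]
    exact Finset.card_image_le
  have heq := Set.eq_of_subset_of_ncard_le hsub
    (by rw [Set.ncard_coe_finset, S0394.result]; exact hle) (Finset.finite_toSet _)
  have hcard : (V.image (fun k => vecL (laneRef k))).card = V.card := by
    rw [card_V, ← Set.ncard_coe_finset, ← heq, S0394.result]
  refine ⟨Finset.card_image_iff.mp hcard, ?_⟩
  rw [heq, Finset.coe_image]

theorem mv_sound {k : ℕ} (hk : k < KTOT) (hv : validK k = true) :
    vecL (laneRef k) ∈ leechLattice ∧ sqNorm (vecL (laneRef k)) = 32 := by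
  have h : vecL (laneRef k) ∈ (fun k => vecL (laneRef k)) '' (V : Set ℕ) :=
    ⟨k, mem_V.mpr ⟨hk, hv⟩, rfl⟩
  rw [image_V.2] at h
  exact h

theorem mv_inj {k k' : ℕ} (hk : k < KTOT) (hv : validK k = true) (hk' : k' < KTOT)
    (hv' : validK k' = true) (h : vecL (laneRef k) = vecL (laneRef k')) : k = k' :=
  image_V.1 (mem_V.mpr ⟨hk, hv⟩) (mem_V.mpr ⟨hk', hv'⟩) h

/-- Counting vectors of sum of squares 32 with a property. -/
theorem ncard_filter (P : (GolayPt → ℤ) → Prop) (q : ℕ → Bool)
    (hq : ∀ k < KTOT, validK k = true → (P (vecL (laneRef k)) ↔ q k = true)) :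
    {w : GolayPt → ℤ | w ∈ leechLattice ∧ sqNorm w = 32 ∧ P w}.ncard
      = countB KTOT (fun k => validK k && q k) := by
  classical
  have e : {w : GolayPt → ℤ | w ∈ leechLattice ∧ sqNorm w = 32 ∧ P w}
      = (fun k => vecL (laneRef k)) '' ((V.filter (fun k => q k = true) : Finset ℕ) : Set ℕ) := by
    ext w
    constructor
    · rintro ⟨hw, hn, hP⟩
      obtain ⟨k, hk, hv, rfl⟩ := mv_complete hw hn
      refine ⟨k, ?_, rfl⟩
      rw [Finset.mem_coe, Finset.mem_filter]
      exact ⟨mem_V.mpr ⟨hk, hv⟩, (hq k hk hv).mp hP⟩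
    · rintro ⟨k, hk, rfl⟩
      rw [Finset.mem_coe, Finset.mem_filter] at hk
      obtain ⟨hk1, hk2⟩ := hk
      obtain ⟨hk3, hk4⟩ := mem_V.mp hk1
      obtain ⟨h1, h2⟩ := mv_sound hk3 hk4
      exact ⟨h1, h2, (hq k hk3 hk4).mpr hk2⟩
  rw [e, Set.InjOn.ncard_image (image_V.1.mono (by
    intro k hk
    rw [Finset.mem_coe, Finset.mem_filter] at hk
    exact hk.1)), Set.ncard_coe_finset, countB_eq, V, Finset.filter_filter]
  have hc : ∀ k ∈ Finset.range KTOT, (validK k = true ∧ q k = true) ↔ ((validK k && q k) = true) := by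
    intro k _
    simp
  rw [Finset.filter_congr hc]

end Cfsg.Agent.Lib.Helper27.MinEnum
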