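import Mathlib
import Cfsg.Prelude.Def_Sporadic_a
import Cfsg.Agent.Lib.Helper27.Pk
import Cfsg.Agent.Lib.Helper27.Spread
import Cfsg.Agent.Lib.Helper27.MinEnum
import Cfsg.Agent.Lib.Helper27.MinFast
import Cfsg.Agent.Lib.Helper27.MinChk0
import Cfsg.Agent.Lib.Helper27.MinChk1
import Cfsg.Agent.Lib.Helper27.MinChk2
import Cfsg.Agent.Lib.Helper27.MinChk3
import Cfsg.Agent.Lib.Helper27.MinChk4
import Cfsg.Agent.Lib.Helper27.MinChk5

/-!
The fast packed forms `mvB`, `mvS` of the vectors of the enumeration are the packings of their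
lane functions.
-/

set_option autoImplicit false

namespace Cfsg.Agent.Lib.Helper27.MinAll

open Cfsg Cfsg.Agent.Lib.Helper27.Bits Cfsg.Agent.Lib.Helper27.Pk Cfsg.Agent.Lib.Helper27.Spread
open Cfsg.Agent.Lib.Helper27.MinTab Cfsg.Agent.Lib.Helper27.MinEnum Cfsg.Agent.Lib.Helper27.MinFast
open Cfsg.Agent.Lib.Helper27.Fast Cfsg.Agent.Lib.Helper27.Golay

theorem Bb_eq : Bb = 2 ^ 16 := by decide
theorem Cb_eq : Cb = 2 ^ 400 := by decide

theorem bitF_eq (m q : ℕ) : bitF m q = m.testBit q := by
  unfold bitF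
  have h1 : Nat.land (Nat.shiftRight m q) 1 = (m >>> q) % 2 := Nat.and_one_is_mod _
  rw [h1, Nat.testBit_eq_decide_div_mod_eq, Nat.shiftRight_eq_div_pow]
  rcases Nat.mod_two_eq_zero_or_one (m / 2 ^ q) with h | h
  · rw [h]
    rfl
  · rw [h]
    rfl

theorem cond_beq (a b x y : ℕ) : cond (Nat.beq a b) x y = if a = b then x else y := by
  by_cases h : a = b
  · subst h
    simp
  · have : Nat.beq a b = false := by
      rw [← Bool.not_eq_true]
      intro h'
      exact h (Nat.eq_of_beq_eq_true h')
    rw [this, if_neg h]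
    rfl

theorem cond_bitF (m q x y : ℕ) : cond (bitF m q) x y = if m.testBit q = true then x else y := by
  rw [bitF_eq]
  cases m.testBit q <;> simp

theorem laneAF_eq (k q : ℕ) : laneAF k q = laneA k q := by
  unfold laneAF laneA
  rw [cond_beq, cond_beq, cond_beq, cond_beq]
  rfl

theorem laneBF_eq (O e q : ℕ) :
    laneBF O e q = if O.testBit q = true then (if e.testBit q = true then 6 else 10) else 8 := by
  unfold laneBF
  rw [cond_bitF, cond_bitF]

theorem laneRefF_eq {k : ℕ} (hk : k < 99456) : laneRefF k = laneRef k := by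
  funext q
  unfold laneRefF laneRef
  by_cases h1 : k < 2304
  · have hb : Nat.blt k 2304 = true := by rw [Nat.blt_eq]; exact h1
    rw [hb, if_pos h1]
    exact laneAF_eq k q
  · have hb : Nat.blt k 2304 = false := by
      rw [← Bool.not_eq_true, Nat.blt_eq]
      exact h1
    rw [hb, if_neg h1]
    have hb2 : Nat.blt k 99456 = true := by rw [Nat.blt_eq]; exact hk
    rw [hb2, if_pos hk]
    show laneBF _ _ q = laneB _ _ q
    rw [laneBF_eq]
    rfl

theorem refB_eq (L : ℕ → ℕ) (n : ℕ) : refB L n = pk Bb L n := by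
  induction n with
  | zero => simp [refB, pk_zero]
  | succ n ih =>
    rw [pk_succ]
    have e : refB L (n + 1) = refB L n + Nat.shiftLeft (L n) (16 * n) := rfl
    rw [e, ih]
    congr 1
    show L n <<< (16 * n) = _
    rw [Nat.shiftLeft_eq, Bb_eq, ← pow_mul]

theorem laneRef_lt (k i : ℕ) : laneRef k i < 2 ^ 16 := by
  have := laneRef_le k i
  omega

theorem chk_AB : ∀ k < 99456, chk k = true := by
  intro k hk
  have h0 := (allB_iff _ _).mp MinChk0.part
  have h1 := (allB_iff _ _).mp MinChk1.part
  have h2 := (allB_iff _ _).mp MinChk2.part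
  have h3 := (allB_iff _ _).mp MinChk3.part
  have h4 := (allB_iff _ _).mp MinChk4.part
  by_cases c0 : k < 2304
  · have := h0 k c0
    rwa [Nat.zero_add] at this
  by_cases c1 : k < 26592
  · have := h1 (k - 2304) (by omega)
    rwa [show 2304 + (k - 2304) = k by omega] at this
  by_cases c2 : k < 50880
  · have := h2 (k - 26592) (by omega)
    rwa [show 26592 + (k - 26592) = k by omega] at this
  by_cases c3 : k < 75168
  · have := h3 (k - 50880) (by omega)
    rwa [show 50880 + (k - 50880) = k by omega] at this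
  · have := h4 (k - 75168) (by omega)
    rwa [show 75168 + (k - 75168) = k by omega] at this

theorem pk_single (b a j n : ℕ) (hj : j < n) :
    pk b (fun q => if q = j then a else 0) n = a * b ^ j := by
  unfold pk
  rw [Finset.sum_eq_single j]
  · simp
  · intro i _ hij
    simp [hij]
  · intro h
    exact absurd (Finset.mem_range.mpr hj) h

theorem mvBC_spec (c j : ℕ) (hc : c < 4096) (hj : j < 24) :
    cond (bitF (cw c) j)
      (Nat.add (Nat.sub NINES (Nat.mul 2 (sprB (cw c)))) (Nat.shiftLeft 4 (Nat.mul 16 j)))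
      (Nat.sub (Nat.sub NINES (Nat.mul 2 (sprB (cw c)))) (Nat.shiftLeft 4 (Nat.mul 16 j)))
      = pk Bb (laneC c j) 24 := by
  have hchk := (allB_iff _ _).mp MinChk5.part c hc
  have hW : Nat.sub NINES (Nat.mul 2 (sprB (cw c)))
      = pk Bb (fun q => if (cw c).testBit q = true then 7 else 9) 24 := by
    have := Nat.eq_of_beq_eq_true hchk
    rw [refB_eq] at this
    rw [this]
    apply pk_congr
    intro q _
    exact cond_bitF _ _ _ _
  have hp : Nat.shiftLeft 4 (Nat.mul 16 j) = 4 * Bb ^ j := by
    show 4 <<< (16 * j) = _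
    rw [Nat.shiftLeft_eq, Bb_eq, ← pow_mul]
  rw [hW, hp, bitF_eq]
  have hs := pk_single Bb 4 j 24 hj
  by_cases hbit : (cw c).testBit j = true
  · rw [hbit, cond_true]
    show pk Bb (fun q => if (cw c).testBit q = true then 7 else 9) 24 + 4 * Bb ^ j = _
    rw [← hs, ← pk_add_fun]
    apply pk_congr
    intro q _
    unfold laneC
    by_cases hq : q = j
    · subst hq
      simp [hbit]
    · simp [hq]
  · have hbit' : (cw c).testBit j = false := by simpa using hbit
    rw [hbit', cond_false]
    show pk Bb (fun q => if (cw c).testBit q = true then 7 else 9) 24 - 4 * Bb ^ j = _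
    apply Nat.sub_eq_of_eq_add
    rw [← hs, ← pk_add_fun]
    apply pk_congr
    intro q _
    unfold laneC
    by_cases hq : q = j
    · subst hq
      simp [hbit']
    · simp [hq]

theorem mvB_C {k : ℕ} (h1 : 99456 ≤ k) (hk : k < KTOT) : mvB k = pk Bb (laneRef k) 24 := by
  unfold KTOT at hk
  have hb1 : Nat.blt k 2304 = false := by
    rw [← Bool.not_eq_true, Nat.blt_eq]
    omega
  have hb2 : Nat.blt k 99456 = false := by
    rw [← Bool.not_eq_true, Nat.blt_eq]
    omega
  have e1 : (k - 99456) / 24 = Nat.div (Nat.sub k 99456) 24 := rfl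
  have e2 : (k - 99456) % 24 = Nat.mod (Nat.sub k 99456) 24 := rfl
  have hc : Nat.div (Nat.sub k 99456) 24 < 4096 := by
    rw [← e1]
    omega
  have hj : Nat.mod (Nat.sub k 99456) 24 < 24 := by
    rw [← e2]
    exact Nat.mod_lt _ (by norm_num)
  have hl : laneRef k = laneC (Nat.div (Nat.sub k 99456) 24) (Nat.mod (Nat.sub k 99456) 24) := by
    unfold laneRef
    rw [if_neg (by omega), if_neg (by omega), e1, e2]
  rw [hl, ← mvBC_spec _ _ hc hj]
  unfold mvB
  rw [hb1, hb2, cond_false, cond_false]
  unfold mvBC bitF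
  simp only []

/-- The fast packed forms are the packings of the lane functions. -/
theorem mv_eq {k : ℕ} (hk : k < KTOT) (hv : validK k = true) :
    mvB k = pk Bb (laneRef k) 24 ∧ mvS k = pk Cb (laneRef k) 24 := by
  have e1 : mvB k = pk Bb (laneRef k) 24 := by
    by_cases h : k < 99456
    · have hc := chk_AB k h
      unfold chk at hc
      rw [hv] at hc
      simp only [Bool.not_true, Bool.false_or] at hc
      have := Nat.eq_of_beq_eq_true hc
      rw [refB_eq, laneRefF_eq h] at this
      exact this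
    · exact mvB_C (by omega) hk
  refine ⟨e1, ?_⟩
  unfold mvS
  rw [e1, Bb_eq, Cb_eq]
  exact spread_spec _ (fun i _ => laneRef_lt k i)

end Cfsg.Agent.Lib.Helper27.MinAll
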