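import Mathlib
import Cfsg.Prelude.Def_Sporadic_a
import Cfsg.Agent.Lib.Helper27.Pk
import Cfsg.Agent.Lib.Helper27.MinAll

/-!
Packed vectors (24 lanes of 16 bits, coordinate plus 8): validity, and inner products read off
from one multiplication.
-/

set_option autoImplicit false

namespace Cfsg.Agent.Lib.Helper27.LDot

open Cfsg Cfsg.Agent.Lib.Helper27.Bits Cfsg.Agent.Lib.Helper27.Pk
open Cfsg.Agent.Lib.Helper27.MinTab Cfsg.Agent.Lib.Helper27.MinEnum Cfsg.Agent.Lib.Helper27.MinFast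
open Cfsg.Agent.Lib.Helper27.MinAll

/-- lanes of a packed vector -/
def lanesB (X : ℕ) : ℕ → ℕ := fun i => X / Bb ^ i % Bb

/-- a packed vector with 24 lanes, each at most 16 -/
noncomputable def validB (X : ℕ) : Bool :=
  Nat.blt X B24 && allB 24 (fun i => Nat.ble (lanesB X i) 16)

theorem B24_eq : B24 = Bb ^ 24 := by decide

theorem validB_spec {X : ℕ} (h : validB X = true) :
    X = pk Bb (lanesB X) 24 ∧ ∀ i < 24, lanesB X i ≤ 16 := by
  unfold validB at h
  rw [Bool.and_eq_true] at h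
  have h1 : X < Bb ^ 24 := by
    rw [← B24_eq]
    exact Nat.blt_eq.mp h.1
  refine ⟨pk_digits_self (by decide) 24 X h1, ?_⟩
  intro i hi
  exact Nat.le_of_ble_eq_true ((allB_iff _ _).mp h.2 i hi)

theorem lanesB_pk {L : ℕ → ℕ} (hL : ∀ i < 24, L i < Bb) : ∀ i < 24, lanesB (pk Bb L 24) i = L i :=
  fun i hi => pk_digit hL i hi

theorem vec_lanes_pk {L : ℕ → ℕ} (hL : ∀ i < 24, L i < Bb) :
    vecL (lanesB (pk Bb L 24)) = vecL L :=
  vecL_congr (lanesB_pk hL)

theorem laneRef_ltB (k i : ℕ) : laneRef k i < Bb := by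
  have := laneRef_le k i
  unfold Bb
  omega

theorem vec_mvB {k : ℕ} (hk : k < KTOT) (hv : validK k = true) :
    vecL (lanesB (mvB k)) = vecL (laneRef k) := by
  rw [(mv_eq hk hv).1]
  exact vec_lanes_pk (fun i _ => laneRef_ltB k i)

/-- reversed packing of a packed vector -/
noncomputable def revB (b : ℕ) : ℕ := Nat.rec 0 (fun i acc => Nat.add (Nat.mul Bb acc) (lanesB b i)) 24

theorem revRec_eq (b : ℕ) (r : ℕ → ℕ) (n : ℕ) :
    (Nat.rec 0 (fun i acc => Nat.add (Nat.mul b acc) (r i)) n : ℕ) = pkRev b r n := by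
  induction n with
  | zero => rfl
  | succ n ih =>
    show Nat.add (Nat.mul b (Nat.rec 0 (fun i acc => Nat.add (Nat.mul b acc) (r i)) n : ℕ)) (r n)
      = b * pkRev b r n + r n
    rw [ih]
    rfl

theorem revB_eq (b : ℕ) : revB b = pkRev Bb (lanesB b) 24 := by
  unfold revB
  exact revRec_eq Bb (lanesB b) 24

/-- sum of the lanes -/
noncomputable def sumB (b : ℕ) : ℕ := Nat.rec 0 (fun i acc => Nat.add acc (lanesB b i)) 24

theorem sumRec_eq (r : ℕ → ℕ) (n : ℕ) :
    (Nat.rec 0 (fun i acc => Nat.add acc (r i)) n : ℕ) = ∑ i ∈ Finset.range n, r i := by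
  induction n with
  | zero => rfl
  | succ n ih =>
    rw [Finset.sum_range_succ, ← ih]
    rfl

theorem sumB_eq (b : ℕ) : sumB b = ∑ i ∈ Finset.range 24, lanesB b i := by
  unfold sumB
  exact sumRec_eq (lanesB b) 24

/-- `Bb ^ 23` -/
def B23 : ℕ := 0x100000000000000000000000000000000000000000000000000000000000000000000000000000000000000000000

theorem B23_eq : B23 = Bb ^ 23 := by decide

/-- lane 23 of a product -/
def dotB (X R : ℕ) : ℕ := Nat.mod (Nat.div (Nat.mul X R) B23) 65536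

theorem dotB_spec {L r : ℕ → ℕ} (hL : ∀ i < 24, L i ≤ 16) (hr : ∀ i < 24, r i ≤ 16) :
    dotB (pk Bb L 24) (pkRev Bb r 24) = ∑ i ∈ Finset.range 24, L i * r i := by
  have h := dot_lane (b := Bb) (α := 16) (β := 16) (a := L) (r := r) 23 hL hr (by decide) (by decide)
  show pk Bb L 24 * pkRev Bb r 24 / B23 % 65536 = _
  rw [B23_eq]
  exact h

theorem ONES_rev : ONES = pkRev Bb (fun _ => 1) 24 := by
  rw [← revRec_eq]
  decide +kernel

/-- the condition `⟨b, X⟩ = tp - tn` on packed vectors -/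
noncomputable def condOK (b tp tn X : ℕ) : Bool :=
  Nat.beq (Nat.add (Nat.add (dotB X (revB b)) 1536) tn)
    (Nat.add (Nat.add (Nat.mul 8 (dotB X ONES)) (Nat.mul 8 (sumB b))) tp)

theorem dot_vecL (L L' : ℕ → ℕ) :
    dotInt (vecL L) (vecL L') = ∑ i ∈ Finset.range 24, ((L i : ℤ) - 8) * ((L' i : ℤ) - 8) := by
  unfold dotInt vecL
  exact sum_idx (fun i => ((L i : ℤ) - 8) * ((L' i : ℤ) - 8))

theorem sqNorm_vecL (L : ℕ → ℕ) :
    sqNorm (vecL L) = ∑ i ∈ Finset.range 24, ((L i : ℤ) - 8) ^ 2 := by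
  unfold sqNorm vecL
  exact sum_idx (fun i => ((L i : ℤ) - 8) ^ 2)

theorem dot_expand (L L' : ℕ → ℕ) :
    dotInt (vecL L) (vecL L') = ((∑ i ∈ Finset.range 24, L i * L' i : ℕ) : ℤ)
      - 8 * ((∑ i ∈ Finset.range 24, L i : ℕ) : ℤ) - 8 * ((∑ i ∈ Finset.range 24, L' i : ℕ) : ℤ)
      + 1536 := by
  rw [dot_vecL]
  push_cast
  have e : ∀ i ∈ Finset.range 24, ((L i : ℤ) - 8) * ((L' i : ℤ) - 8)
      = (L i : ℤ) * (L' i : ℤ) - 8 * (L i : ℤ) - 8 * (L' i : ℤ) + 64 := by
    intro i _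
    ring
  rw [Finset.sum_congr rfl e, Finset.sum_add_distrib, Finset.sum_sub_distrib,
    Finset.sum_sub_distrib, ← Finset.mul_sum, ← Finset.mul_sum, Finset.sum_const,
    Finset.card_range]
  norm_num

theorem condOK_spec {b : ℕ} (tp tn : ℕ) (hb : validB b = true) {L : ℕ → ℕ}
    (hL : ∀ i < 24, L i ≤ 16) :
    condOK b tp tn (pk Bb L 24) = true ↔ dotInt (vecL (lanesB b)) (vecL L) = (tp : ℤ) - tn := by
  obtain ⟨_, hb2⟩ := validB_spec hb
  have h1 : dotB (pk Bb L 24) (revB b) = ∑ i ∈ Finset.range 24, L i * lanesB b i := by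
    rw [revB_eq]
    exact dotB_spec hL hb2
  have h2 : dotB (pk Bb L 24) ONES = ∑ i ∈ Finset.range 24, L i := by
    rw [ONES_rev, dotB_spec hL (fun _ _ => by norm_num)]
    simp
  have h3 : ∑ i ∈ Finset.range 24, L i * lanesB b i = ∑ i ∈ Finset.range 24, lanesB b i * L i := by
    apply Finset.sum_congr rfl
    intro i _
    ring
  unfold condOK
  rw [h1, h2, sumB_eq, dot_expand, h3]
  constructor
  · intro h
    have := Nat.eq_of_beq_eq_true h
    have e : (∑ i ∈ Finset.range 24, lanesB b i * L i) + 1536 + tn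
        = 8 * (∑ i ∈ Finset.range 24, L i) + 8 * (∑ i ∈ Finset.range 24, lanesB b i) + tp := this
    have e' := congrArg (fun n : ℕ => (n : ℤ)) e
    simp only [Nat.cast_add, Nat.cast_mul, Nat.cast_ofNat] at e'
    linarith
  · intro h
    have e : (∑ i ∈ Finset.range 24, lanesB b i * L i) + 1536 + tn
        = 8 * (∑ i ∈ Finset.range 24, L i) + 8 * (∑ i ∈ Finset.range 24, lanesB b i) + tp := by
      have : (((∑ i ∈ Finset.range 24, lanesB b i * L i) + 1536 + tn : ℕ) : ℤ)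
          = ((8 * (∑ i ∈ Finset.range 24, L i) + 8 * (∑ i ∈ Finset.range 24, lanesB b i) + tp : ℕ) : ℤ) := by
        simp only [Nat.cast_add, Nat.cast_mul, Nat.cast_ofNat]
        linarith
      exact_mod_cast this
    show Nat.beq _ _ = true
    rw [show Nat.add (Nat.add (∑ i ∈ Finset.range 24, lanesB b i * L i) 1536) tn
        = (∑ i ∈ Finset.range 24, lanesB b i * L i) + 1536 + tn from rfl, e]
    exact Nat.beq_refl _

/-- the condition on a vector of the enumeration -/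
theorem condOK_mv {b : ℕ} (tp tn : ℕ) (hb : validB b = true) {k : ℕ} (hk : k < KTOT)
    (hv : validK k = true) :
    condOK b tp tn (mvB k) = true ↔
      dotInt (vecL (lanesB b)) (vecL (laneRef k)) = (tp : ℤ) - tn := by
  rw [(mv_eq hk hv).1]
  exact condOK_spec tp tn hb (fun i _ => le_trans (laneRef_le k i) (by norm_num))

end Cfsg.Agent.Lib.Helper27.LDot
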