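import Mathlib
import Cfsg.Prelude.Def_Sporadic_a
import Cfsg.Agent.Lib.Helper27.LDot
import Cfsg.Agent.Lib.Helper92.Xi

/-!
Automorphisms of the lattice from packed integer matrices (8 times an orthogonal matrix, entries
stored plus 8 in 16-bit lanes, columns in blocks of 25 lanes).
-/

set_option autoImplicit false

namespace Cfsg.Agent.Lib.Helper27.LMat

open Cfsg Cfsg.Agent.Lib.Helper27.Bits Cfsg.Agent.Lib.Helper27.Pk
open Cfsg.Agent.Lib.Helper27.MinTab Cfsg.Agent.Lib.Helper27.MinEnum Cfsg.Agent.Lib.Helper27.MinFast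
open Cfsg.Agent.Lib.Helper27.MinAll Cfsg.Agent.Lib.Helper27.LDot
open Cfsg.Agent.Lib.Helper92.LeechCore Cfsg.Agent.Lib.Helper92.MinVec
open Cfsg.Agent.Lib.Helper92.LeechGen

/-- lane `(i, j)` of a packed matrix: the entry plus 8 -/
def Nl (M i j : ℕ) : ℕ := M / Cb ^ (23 - j) % Cb / Bb ^ i % Bb

/-- entry `(i, j)` of a packed matrix -/
def Nz (M i j : ℕ) : ℤ := (Nl M i j : ℤ) - 8

/-- 8 times the image of a vector -/
def matRaw (M : ℕ) (x : GolayPt → ℤ) : GolayPt → ℤ := fun p => ∑ q, Nz M (idx p) (idx q) * x q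

/-- the image of a vector -/
def matAct (M : ℕ) (x : GolayPt → ℤ) : GolayPt → ℤ := fun p => matRaw M x p / 8

/-- a vector is mapped into the lattice -/
def GenOK (M : ℕ) (x : GolayPt → ℤ) : Prop := (∀ p, (8 : ℤ) ∣ matRaw M x p) ∧ matAct M x ∈ leechLattice

/-- the matrix is 8 times an orthogonal matrix and maps generators of the lattice into it -/
structure MatOK (M : ℕ) : Prop where
  orth : ∀ q < 24, ∀ r < 24,
    ∑ i ∈ Finset.range 24, Nz M i q * Nz M i r = if q = r then 64 else 0
  gen4 : ∀ i : GolayPt, GenOK M (Pi.single i 4 - Pi.single none 4)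
  gen8 : GenOK M (Pi.single none 8)
  geno : ∀ o ∈ Cfsg.Agent.Lib.Helper7.GolayCode.echelon,
    GenOK M (ind2 (Cfsg.Agent.Lib.Helper7.GolayBase.mk o))
  gen3 : GenOK M (w3 none)

theorem matRaw_add (M : ℕ) (x y : GolayPt → ℤ) : matRaw M (x + y) = matRaw M x + matRaw M y := by
  funext p
  simp only [matRaw, Pi.add_apply, mul_add, Finset.sum_add_distrib]

theorem matRaw_neg (M : ℕ) (x : GolayPt → ℤ) : matRaw M (-x) = -matRaw M x := by
  funext p
  simp only [matRaw, Pi.neg_apply, mul_neg, Finset.sum_neg_distrib]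

theorem matRaw_zero (M : ℕ) : matRaw M 0 = 0 := by
  funext p
  simp [matRaw]

theorem matAct_add (M : ℕ) {x y : GolayPt → ℤ} (hx : ∀ p, (8 : ℤ) ∣ matRaw M x p)
    (hy : ∀ p, (8 : ℤ) ∣ matRaw M y p) : matAct M (x + y) = matAct M x + matAct M y := by
  funext p
  unfold matAct
  rw [matRaw_add]
  simp only [Pi.add_apply]
  exact Int.add_ediv_of_dvd_left (hx p)

theorem matAct_neg (M : ℕ) {x : GolayPt → ℤ} (hx : ∀ p, (8 : ℤ) ∣ matRaw M x p) :
    matAct M (-x) = -matAct M x := by
  funext p
  unfold matAct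
  rw [matRaw_neg]
  simp only [Pi.neg_apply]
  exact Int.neg_ediv_of_dvd (hx p)

/-- the subgroup of lattice vectors mapped into the lattice -/
def matSub (M : ℕ) : AddSubgroup (GolayPt → ℤ) where
  carrier := {x | x ∈ leechLattice ∧ GenOK M x}
  add_mem' := by
    rintro x y ⟨hx, hx1, hx2⟩ ⟨hy, hy1, hy2⟩
    refine ⟨add_mem hx hy, ?_, ?_⟩
    · intro p
      rw [matRaw_add]
      exact dvd_add (hx1 p) (hy1 p)
    · rw [matAct_add M hx1 hy1]
      exact add_mem hx2 hy2
  zero_mem' := by
    refine ⟨zero_mem _, ?_, ?_⟩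
    · intro p
      rw [matRaw_zero]
      exact dvd_zero _
    · have : matAct M 0 = 0 := by
        funext p
        unfold matAct
        rw [matRaw_zero]
        simp
      rw [this]
      exact zero_mem _
  neg_mem' := by
    rintro x ⟨hx, hx1, hx2⟩
    refine ⟨neg_mem hx, ?_, ?_⟩
    · intro p
      rw [matRaw_neg]
      exact (dvd_neg (a := (8 : ℤ))).mpr (hx1 p)
    · rw [matAct_neg M hx1]
      exact neg_mem hx2

theorem mat_mem {M : ℕ} (h : MatOK M) {x : GolayPt → ℤ} (hx : x ∈ leechLattice) : GenOK M x := by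
  have hle : leechLattice ≤ matSub M := by
    apply gen_le
    · intro i
      refine ⟨?_, h.gen4 i⟩
      by_cases hi : i = none
      · rw [hi, sub_self]
        exact zero_mem _
      · rw [S1567.single_sub_eq i hi]
        exact shape4_mem (Finset.card_pair hi) (by
          intro k hk
          rw [Finset.mem_singleton] at hk
          rw [hk]
          simp)
    · refine ⟨?_, h.gen8⟩
      rw [S1567.single8_eq]
      have hp : ({none, some 0} : Finset GolayPt).card = 2 := Finset.card_pair (by simp)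
      exact add_mem (shape4_mem hp (Finset.empty_subset _)) (shape4_mem hp (by
        intro k hk
        rw [Finset.mem_singleton] at hk
        rw [hk]
        simp))
    · intro o ho
      exact ⟨ind2_mem (Cfsg.Agent.Lib.Helper7.GolayCode.mk_mem_supports
        (Cfsg.Agent.Lib.Helper7.GolayCode.echelon_mem_codeList o ho)), h.geno o ho⟩
    · exact ⟨w3_mem none, h.gen3⟩
  exact (hle hx).2

theorem orth_pt {M : ℕ} (h : MatOK M) (q r : GolayPt) :
    ∑ p : GolayPt, Nz M (idx p) (idx q) * Nz M (idx p) (idx r) = if q = r then 64 else 0 := by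
  rw [sum_idx (fun i => Nz M i (idx q) * Nz M i (idx r)), h.orth _ (idx_lt q) _ (idx_lt r)]
  by_cases hqr : q = r
  · rw [if_pos hqr, if_pos (by rw [hqr])]
  · rw [if_neg hqr, if_neg (fun hh => hqr (idx_injective hh))]

theorem sqNorm_matRaw {M : ℕ} (h : MatOK M) (x : GolayPt → ℤ) :
    sqNorm (matRaw M x) = 64 * sqNorm x := by
  unfold sqNorm matRaw
  have e1 : ∀ p : GolayPt, (∑ q, Nz M (idx p) (idx q) * x q) ^ 2
      = ∑ q, ∑ r, (Nz M (idx p) (idx q) * Nz M (idx p) (idx r)) * (x q * x r) := by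
    intro p
    rw [sq, Finset.sum_mul_sum]
    apply Finset.sum_congr rfl
    intro q _
    apply Finset.sum_congr rfl
    intro r _
    ring
  simp_rw [e1]
  rw [Finset.sum_comm]
  have e2 : ∀ q : GolayPt, ∑ p : GolayPt, ∑ r, (Nz M (idx p) (idx q) * Nz M (idx p) (idx r)) * (x q * x r)
      = 64 * x q ^ 2 := by
    intro q
    rw [Finset.sum_comm]
    have e3 : ∀ r : GolayPt, ∑ p : GolayPt, (Nz M (idx p) (idx q) * Nz M (idx p) (idx r)) * (x q * x r)
        = (if q = r then 64 else 0) * (x q * x r) := by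
      intro r
      rw [← Finset.sum_mul, orth_pt h]
    simp_rw [e3]
    simp only [ite_mul, zero_mul, Finset.sum_ite_eq, Finset.mem_univ, if_true]
    ring
  simp_rw [e2]
  rw [Finset.mul_sum]

theorem sqNorm_matAct {M : ℕ} (h : MatOK M) {x : GolayPt → ℤ} (hx : x ∈ leechLattice) :
    sqNorm (matAct M x) = sqNorm x := by
  have hd := (mat_mem h hx).1
  have e : matRaw M x = fun p => 8 * matAct M x p := by
    funext p
    unfold matAct
    rw [Int.mul_ediv_cancel' (hd p)]
  have h1 := sqNorm_matRaw h x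
  rw [e] at h1
  have h2 : sqNorm (fun p => 8 * matAct M x p) = 64 * sqNorm (matAct M x) := by
    unfold sqNorm
    rw [Finset.mul_sum]
    apply Finset.sum_congr rfl
    intro p _
    ring
  rw [h2] at h1
  linarith

/-- the additive endomorphism of the lattice -/
def matHom (M : ℕ) (h : MatOK M) : leechLattice →+ leechLattice where
  toFun v := ⟨matAct M v, (mat_mem h v.2).2⟩
  map_zero' := by
    apply Subtype.ext
    show matAct M 0 = 0
    funext p
    unfold matAct
    rw [matRaw_zero]
    simp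
  map_add' v w := Subtype.ext (matAct_add M (mat_mem h v.2).1 (mat_mem h w.2).1)

/-- An additive map of the lattice to itself preserving the sum of squares is bijective. -/
theorem hom_bijective (f : leechLattice →+ leechLattice)
    (hn : ∀ v : leechLattice, sqNorm ((f v : leechLattice) : GolayPt → ℤ) = sqNorm (v : GolayPt → ℤ)) :
    Function.Bijective f := by
  have hinj : Function.Injective f := by
    rw [injective_iff_map_eq_zero]
    intro v hv
    have h := hn v
    rw [hv] at h
    apply Subtype.ext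
    apply Cfsg.Agent.Lib.Helper92.Xi.sqNorm_eq_zero
    rw [← h]
    show sqNorm (0 : GolayPt → ℤ) = 0
    unfold sqNorm
    simp
  refine ⟨hinj, ?_⟩
  have hfin : {x : GolayPt → ℤ | x ∈ leechLattice ∧ sqNorm x = 32}.Finite :=
    Set.finite_of_ncard_ne_zero (by rw [S0394.result]; norm_num)
  have hfin' : {v : leechLattice | sqNorm (v : GolayPt → ℤ) = 32}.Finite := by
    apply Set.Finite.of_finite_image (f := Subtype.val)
    · apply hfin.subset
      rintro x ⟨v, hv, rfl⟩
      exact ⟨v.2, hv⟩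
    · exact Subtype.val_injective.injOn
  have hmaps : Set.MapsTo f {v : leechLattice | sqNorm (v : GolayPt → ℤ) = 32}
      {v : leechLattice | sqNorm (v : GolayPt → ℤ) = 32} := by
    intro v hv
    show sqNorm ((f v : leechLattice) : GolayPt → ℤ) = 32
    rw [hn]
    exact hv
  have hbij := (hfin'.injOn_iff_bijOn_of_mapsTo hmaps).mp hinj.injOn
  have hle : leechLattice ≤ AddSubgroup.map leechLattice.subtype f.range := by
    refine le_trans (le_of_eq S1567.result.symm) ((AddSubgroup.closure_le _).mpr ?_)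
    rintro x ⟨hx, hxn⟩
    obtain ⟨u, -, hu⟩ := hbij.surjOn (show (⟨x, hx⟩ : leechLattice) ∈
      {v : leechLattice | sqNorm (v : GolayPt → ℤ) = 32} from hxn)
    exact ⟨⟨x, hx⟩, ⟨u, hu⟩, rfl⟩
  intro v
  obtain ⟨w, ⟨u, hu⟩, hw⟩ := hle v.2
  refine ⟨u, ?_⟩
  rw [hu]
  exact Subtype.ext hw

/-- the automorphism of a packed matrix -/
noncomputable def matEquiv (M : ℕ) (h : MatOK M) : Equiv.Perm leechLattice :=
  Equiv.ofBijective (matHom M h)
    (hom_bijective (matHom M h) (fun v => sqNorm_matAct h v.2))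

theorem matEquiv_apply (M : ℕ) (h : MatOK M) (v : leechLattice) :
    ((matEquiv M h v : leechLattice) : GolayPt → ℤ) = matAct M v := rfl

theorem matEquiv_mem_Co0 (M : ℕ) (h : MatOK M) : matEquiv M h ∈ Co0 :=
  ⟨fun v w => map_add (matHom M h) v w, fun v => sqNorm_matAct h v.2⟩

end Cfsg.Agent.Lib.Helper27.LMat
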