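import Mathlib
import Cfsg.Prelude.Def_Sporadic_a
import Cfsg.Agent.Lib.Helper27.LMat
import Cfsg.Agent.Lib.Helper27.Co0Act
import Cfsg.Agent.Lib.Helper27.Spread

/-!
Applying a packed matrix to a packed vector by one multiplication, the kernel test that a packed
matrix is an automorphism of the lattice, and the resulting orbit relation.
-/

set_option autoImplicit false

namespace Cfsg.Agent.Lib.Helper27.LApp

open Cfsg Cfsg.Agent.Lib.Helper27.Bits Cfsg.Agent.Lib.Helper27.Pk
open Cfsg.Agent.Lib.Helper27.MinTab Cfsg.Agent.Lib.Helper27.MinEnum Cfsg.Agent.Lib.Helper27.MinFast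
open Cfsg.Agent.Lib.Helper27.MinAll Cfsg.Agent.Lib.Helper27.LDot Cfsg.Agent.Lib.Helper27.LMat
open Cfsg.Agent.Lib.Helper27.Spread Cfsg.Agent.Lib.Helper27.Co0Act
open Cfsg.Agent.Lib.Helper92.LeechCore Cfsg.Agent.Lib.Helper92.MinVec
open Cfsg.Agent.Lib.Helper92.LeechGen

/-- `Cb ^ 23` -/
def C23 : ℕ := 0x10000000000000000000000000000000000000000000000000000000000000000000000000000000000000000000000000000000000000000000000000000000000000000000000000000000000000000000000000000000000000000000000000000000000000000000000000000000000000000000000000000000000000000000000000000000000000000000000000000000000000000000000000000000000000000000000000000000000000000000000000000000000000000000000000000000000000000000000000000000000000000000000000000000000000000000000000000000000000000000000000000000000000000000000000000000000000000000000000000000000000000000000000000000000000000000000000000000000000000000000000000000000000000000000000000000000000000000000000000000000000000000000000000000000000000000000000000000000000000000000000000000000000000000000000000000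0000000000000000000000000000000000000000000000000000000000000000000000000000000000000000000000000000000000000000000000000000000000000000000000000000000000000000000000000000000000000000000000000000000000000000000000000000000000000000000000000000000000000000000000000000000000000000000000000000000000000000000000000000000000000000000000000000000000000000000000000000000000000000000000000000000000000000000000000000000000000000000000000000000000000000000000000000000000000000000000000000000000000000000000000000000000000000000000000000000000000000000000000000000000000000000000000000000000000000000000000000000000000000000000000000000000000000000000000000000000000000000000000000000000000000000000000000000000000000000000000000000000000000000000000000000000000000000000000000000000000000000000000000000000000000000000000000000000000000000000000000000000000000000000000000000000000000000000000000000000000000000000000000000000000000000000000000000000000000000000000000000000000000000000000000000000000000000000000000000000000000000000000000000000000000000000000000000000000000000000000000000000000000000000000000000000000000000000000000000000000000000000000000000000000000000000000000000000000000000000000000000000000000000000000000000000000000000000000000000000000000000000000000000000000000000000000000000000000000000000000000000000000000000000000000000000000000000000000000000000000000000000000000000000000000000000000000000000000000000000000000000000000000000000000000000000000000000000000000000000000000000000000000000000000000000000000000000000000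

/-- `Cb ^ 24` -/
def C24 : ℕ := 0x1000000000000000000000000000000000000000000000000000000000000000000000000000000000000000000000000000000000000000000000000000000000000000000000000000000000000000000000000000000000000000000000000000000000000000000000000000000000000000000000000000000000000000000000000000000000000000000000000000000000000000000000000000000000000000000000000000000000000000000000000000000000000000000000000000000000000000000000000000000000000000000000000000000000000000000000000000000000000000000000000000000000000000000000000000000000000000000000000000000000000000000000000000000000000000000000000000000000000000000000000000000000000000000000000000000000000000000000000000000000000000000000000000000000000000000000000000000000000000000000000000000000000000000000000000000000000000000000000000000000000000000000000000000000000000000000000000000000000000000000000000000000000000000000000000000000000000000000000000000000000000000000000000000000000000000000000000000000000000000000000000000000000000000000000000000000000000000000000000000000000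000000000000000000000000000000000000000000000000000000000000000000000000000000000000000000000000000000000000000000000000000000000000000000000000000000000000000000000000000000000000000000000000000000000000000000000000000000000000000000000000000000000000000000000000000000000000000000000000000000000000000000000000000000000000000000000000000000000000000000000000000000000000000000000000000000000000000000000000000000000000000000000000000000000000000000000000000000000000000000000000000000000000000000000000000000000000000000000000000000000000000000000000000000000000000000000000000000000000000000000000000000000000000000000000000000000000000000000000000000000000000000000000000000000000000000000000000000000000000000000000000000000000000000000000000000000000000000000000000000000000000000000000000000000000000000000000000000000000000000000000000000000000000000000000000000000000000000000000000000000000000000000000000000000000000000000000000000000000000000000000000000000000000000000000000000000000000000000000000000000000000000000000000000000000000000000000000000000000000000000000000000000000000000000000000000000000000000000000000000000000000000000000000000000000000000000000000000000000000000000000000000000000000000000000000000000000000000000000000000000000000000000000000000000000000000000000000000000000000000000000000000000000000000000000000000000000000000000000000000000000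

theorem C23_eq : C23 = Cb ^ 23 := by decide

theorem C24_eq : C24 = Cb ^ 24 := by decide

/-- lane 23 (in base `Cb`) of the product of a spread vector and a packed matrix -/
def appE (M XS : ℕ) : ℕ := Nat.mod (Nat.div (Nat.mul XS M) C23) Cb

/-- the test that the matrix maps the spread vector `XS` to the packed vector `Y` -/
def appOK (M Cv XS Y : ℕ) : Bool :=
  Nat.beq (Nat.add (Nat.mod (appE M XS) B24) (Nat.mul 8 Cv))
    (Nat.mul 8 (Nat.add Y (Nat.mul (Nat.add (Nat.div (appE M XS) B24) 200) ONES)))

/-- the candidate image of the spread vector `XS` -/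
def appY (M Cv XS : ℕ) : ℕ :=
  Nat.sub (Nat.add (Nat.div (Nat.mod (appE M XS) B24) 8) Cv)
    (Nat.mul (Nat.add (Nat.div (appE M XS) B24) 200) ONES)

/-- the matrix is packed correctly: entries plus 8 at most 16, a one on top of every column -/
noncomputable def mvalid (M : ℕ) : Bool :=
  Nat.blt M C24 &&
    allB 24 (fun j => Nat.beq (Nl M 24 j) 1 && allB 24 (fun i => Nat.ble (Nl M i j) 16))

/-- sum of the lanes of a row -/
noncomputable def rowsum (M i : ℕ) : ℕ := Nat.rec 0 (fun k acc => Nat.add acc (Nl M i k)) 24

/-- the packed correction vector -/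
noncomputable def cvOf (M : ℕ) : ℕ := pkR Bb (fun i => 400 - rowsum M i) 24

theorem mvalid_spec {M : ℕ} (h : mvalid M = true) :
    M < Cb ^ 24 ∧ ∀ j < 24, Nl M 24 j = 1 ∧ ∀ i < 24, Nl M i j ≤ 16 := by
  unfold mvalid at h
  rw [Bool.and_eq_true] at h
  refine ⟨?_, ?_⟩
  · rw [← C24_eq]
    exact Nat.blt_eq.mp h.1
  · intro j hj
    have h2 := (allB_iff _ _).mp h.2 j hj
    rw [Bool.and_eq_true] at h2
    refine ⟨Nat.eq_of_beq_eq_true h2.1, ?_⟩
    intro i hi
    exact Nat.le_of_ble_eq_true ((allB_iff _ _).mp h2.2 i hi)

/-- the columns of a packed matrix -/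
def colM (M j : ℕ) : ℕ := M / Cb ^ (23 - j) % Cb

theorem Cb_pos : 0 < Cb := by decide

theorem Bb_pos : 0 < Bb := by decide

theorem M_rev {M : ℕ} (h : M < Cb ^ 24) : M = pkRev Cb (colM M) 24 := by
  calc M = pk Cb (fun i => M / Cb ^ i % Cb) 24 := pk_digits_self Cb_pos 24 M h
    _ = pk Cb (fun i => colM M (24 - 1 - i)) 24 := by
        apply pk_congr
        intro i hi
        unfold colM
        rw [show 23 - (24 - 1 - i) = i by omega]
    _ = pkRev Cb (colM M) 24 := (pkRev_eq_pk _ _ _).symm

theorem col_pk (M j : ℕ) : colM M j = pk Bb (fun i => Nl M i j) 25 := by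
  have h : colM M j < Bb ^ 25 := by
    unfold colM
    have e : Bb ^ 25 = Cb := by decide
    rw [e]
    exact Nat.mod_lt _ Cb_pos
  exact pk_digits_self Bb_pos 25 _ h

theorem col_le {M : ℕ} (h : mvalid M = true) {j : ℕ} (hj : j < 24) : colM M j ≤ 2 * Bb ^ 24 := by
  rw [col_pk, pk_succ]
  have h1 := pk_lt' (b := Bb) Bb_pos (f := fun i => Nl M i j) (n := 24)
    (fun i hi => lt_of_le_of_lt (((mvalid_spec h).2 j hj).2 i hi) (by decide))
  rw [((mvalid_spec h).2 j hj).1]
  omega

theorem appE_eq (M XS : ℕ) : appE M XS = XS * M / C23 % Cb := rfl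

theorem appE_spec {M : ℕ} (h : mvalid M = true) {L : ℕ → ℕ} (hL : ∀ k < 24, L k ≤ 16) :
    appE M (pk Cb L 24) = pk Bb (fun i => ∑ k ∈ Finset.range 24, L k * Nl M i k) 24
      + (∑ k ∈ Finset.range 24, L k) * Bb ^ 24 := by
  obtain ⟨hM, hl⟩ := mvalid_spec h
  have h1 : appE M (pk Cb L 24) = ∑ k ∈ Finset.range 24, L k * colM M k := by
    have e : appE M (pk Cb L 24) = pk Cb L 24 * pkRev Cb (colM M) 24 / Cb ^ 23 % Cb := by
      rw [← M_rev hM, ← C23_eq]
      exact appE_eq _ _
    rw [e]
    exact dot_lane (b := Cb) (α := 16) (β := 2 * Bb ^ 24) 23 hL (fun k hk => col_le h hk)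
      (by decide) (by decide)
  have h2 : ∀ k ∈ Finset.range 24, L k * colM M k = pk Bb (fun i => L k * Nl M i k) 25 := by
    intro k _
    rw [col_pk]
    exact (pk_const_mul Bb (L k) (fun i => Nl M i k) 25).symm
  have h3 : ∑ k ∈ Finset.range 24, pk Bb (fun i => L k * Nl M i k) 25
      = pk Bb (fun i => ∑ k ∈ Finset.range 24, L k * Nl M i k) 25 :=
    (pk_sum Bb 24 (fun k i => L k * Nl M i k) 25).symm
  have h4 : ∑ k ∈ Finset.range 24, L k * Nl M 24 k = ∑ k ∈ Finset.range 24, L k :=
    Finset.sum_congr rfl (fun k hk => by rw [(hl k (Finset.mem_range.mp hk)).1, mul_one])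
  have h5 : pk Bb (fun i => ∑ k ∈ Finset.range 24, L k * Nl M i k) 25
      = pk Bb (fun i => ∑ k ∈ Finset.range 24, L k * Nl M i k) 24
        + (∑ k ∈ Finset.range 24, L k * Nl M 24 k) * Bb ^ 24 :=
    pk_succ Bb (fun i => ∑ k ∈ Finset.range 24, L k * Nl M i k) 24
  rw [h1, Finset.sum_congr rfl h2, h3, h5, h4]

theorem D_le {M : ℕ} (h : mvalid M = true) {L : ℕ → ℕ} (hL : ∀ k < 24, L k ≤ 16) {i : ℕ}
    (hi : i < 24) : ∑ k ∈ Finset.range 24, L k * Nl M i k ≤ 6144 := by
  calc ∑ k ∈ Finset.range 24, L k * Nl M i k ≤ ∑ _k ∈ Finset.range 24, 16 * 16 :=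
        Finset.sum_le_sum (fun k hk => Nat.mul_le_mul (hL k (Finset.mem_range.mp hk))
          (((mvalid_spec h).2 k (Finset.mem_range.mp hk)).2 i hi))
    _ = 6144 := by simp

theorem rowsum_eq (M i : ℕ) : rowsum M i = ∑ k ∈ Finset.range 24, Nl M i k :=
  sumRec_eq (fun k => Nl M i k) 24

theorem rowsum_le {M : ℕ} (h : mvalid M = true) {i : ℕ} (hi : i < 24) : rowsum M i ≤ 384 := by
  rw [rowsum_eq]
  calc ∑ k ∈ Finset.range 24, Nl M i k ≤ ∑ _k ∈ Finset.range 24, 16 :=
        Finset.sum_le_sum (fun k hk => ((mvalid_spec h).2 k (Finset.mem_range.mp hk)).2 i hi)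
    _ = 384 := by simp

theorem ONES_pk : ONES = pk Bb (fun _ => 1) 24 := by
  rw [ONES_rev, pkRev_eq_pk]

/-- The test `appOK` gives the matrix equation. -/
theorem app_spec {M : ℕ} (h : mvalid M = true) {L Lp : ℕ → ℕ} (hL : ∀ k < 24, L k ≤ 16)
    (hLp : ∀ k < 24, Lp k ≤ 16)
    (hok : appOK M (cvOf M) (pk Cb L 24) (pk Bb Lp 24) = true) :
    ∀ i < 24, ∑ k ∈ Finset.range 24, Nz M i k * ((L k : ℤ) - 8) = 8 * ((Lp i : ℤ) - 8) := by
  have hE := appE_spec h hL
  have hDlt : pk Bb (fun i => ∑ k ∈ Finset.range 24, L k * Nl M i k) 24 < Bb ^ 24 :=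
    pk_lt' Bb_pos (fun i hi => lt_of_le_of_lt (D_le h hL hi) (by decide))
  have hmod : appE M (pk Cb L 24) % B24
      = pk Bb (fun i => ∑ k ∈ Finset.range 24, L k * Nl M i k) 24 := by
    rw [hE, B24_eq, Nat.add_mul_mod_self_right, Nat.mod_eq_of_lt hDlt]
  have hdiv : appE M (pk Cb L 24) / B24 = ∑ k ∈ Finset.range 24, L k := by
    rw [hE, B24_eq, Nat.add_mul_div_right _ _ (pow_pos Bb_pos 24), Nat.div_eq_of_lt hDlt, zero_add]
  have e' : appE M (pk Cb L 24) % B24 + 8 * cvOf M
      = 8 * (pk Bb Lp 24 + (appE M (pk Cb L 24) / B24 + 200) * ONES) :=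
    Nat.eq_of_beq_eq_true hok
  rw [hmod, hdiv, cvOf, pkR_eq, ONES_pk] at e'
  have e2 : pk Bb (fun i => (∑ k ∈ Finset.range 24, L k * Nl M i k) + 8 * (400 - rowsum M i)) 24
      = pk Bb (fun i => 8 * (Lp i + ((∑ k ∈ Finset.range 24, L k) + 200) * 1)) 24 := by
    rw [pk_add_fun Bb (fun i => ∑ k ∈ Finset.range 24, L k * Nl M i k)
      (fun i => 8 * (400 - rowsum M i)) 24,
      pk_const_mul Bb 8 (fun i => 400 - rowsum M i) 24,
      pk_const_mul Bb 8 (fun i => Lp i + ((∑ k ∈ Finset.range 24, L k) + 200) * 1) 24,
      pk_add_fun Bb Lp (fun _ => ((∑ k ∈ Finset.range 24, L k) + 200) * 1) 24,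
      pk_const_mul Bb ((∑ k ∈ Finset.range 24, L k) + 200) (fun _ => 1) 24]
    exact e'
  have hS : ∑ k ∈ Finset.range 24, L k ≤ 384 := by
    calc ∑ k ∈ Finset.range 24, L k ≤ ∑ _k ∈ Finset.range 24, 16 :=
          Finset.sum_le_sum (fun k hk => hL k (Finset.mem_range.mp hk))
      _ = 384 := by simp
  have e3 := pk_ext (b := Bb)
    (fun i hi => by
      have := D_le h hL hi
      show (∑ k ∈ Finset.range 24, L k * Nl M i k) + 8 * (400 - rowsum M i) < 65536
      omega)
    (fun i hi => by
      have := hLp i hi
      show 8 * (Lp i + ((∑ k ∈ Finset.range 24, L k) + 200) * 1) < 65536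
      omega) e2
  intro i hi
  have e4 := e3 i hi
  have hr := rowsum_le h hi
  have e5 : (∑ k ∈ Finset.range 24, L k * Nl M i k) + 1600
      = 8 * Lp i + 8 * (∑ k ∈ Finset.range 24, L k) + 8 * rowsum M i := by
    have e4' : (∑ k ∈ Finset.range 24, L k * Nl M i k) + 8 * (400 - rowsum M i)
        = 8 * (Lp i + ((∑ k ∈ Finset.range 24, L k) + 200) * 1) := e4
    omega
  have e6 : ∑ k ∈ Finset.range 24, Nz M i k * ((L k : ℤ) - 8)
      = dotInt (vecL (fun k => Nl M i k)) (vecL L) := by
    rw [dot_vecL]
    rfl
  rw [e6, dot_expand, ← rowsum_eq]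
  have e7 : ∑ k ∈ Finset.range 24, Nl M i k * L k = ∑ k ∈ Finset.range 24, L k * Nl M i k :=
    Finset.sum_congr rfl (fun k _ => Nat.mul_comm _ _)
  rw [e7]
  have e8 := congrArg (fun n : ℕ => (n : ℤ)) e5
  simp only [Nat.cast_add, Nat.cast_mul, Nat.cast_ofNat] at e8
  linarith

/-- The image of a lane vector under a packed matrix. -/
theorem matRaw_vecL {M : ℕ} (h : mvalid M = true) {L Lp : ℕ → ℕ} (hL : ∀ k < 24, L k ≤ 16)
    (hLp : ∀ k < 24, Lp k ≤ 16)
    (hok : appOK M (cvOf M) (pk Cb L 24) (pk Bb Lp 24) = true) (p : GolayPt) :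
    matRaw M (vecL L) p = 8 * vecL Lp p := by
  have h1 := app_spec h hL hLp hok (idx p) (idx_lt p)
  unfold matRaw
  have e : ∑ q, Nz M (idx p) (idx q) * vecL L q
      = ∑ k ∈ Finset.range 24, Nz M (idx p) k * ((L k : ℤ) - 8) :=
    sum_idx (fun k => Nz M (idx p) k * ((L k : ℤ) - 8))
  rw [e, h1]
  rfl

theorem matAct_vecL {M : ℕ} (h : mvalid M = true) {L Lp : ℕ → ℕ} (hL : ∀ k < 24, L k ≤ 16)
    (hLp : ∀ k < 24, Lp k ≤ 16)
    (hok : appOK M (cvOf M) (pk Cb L 24) (pk Bb Lp 24) = true) :
    matAct M (vecL L) = vecL Lp := by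
  funext p
  unfold matAct
  rw [matRaw_vecL h hL hLp hok p]
  exact Int.mul_ediv_cancel_left _ (by norm_num)

theorem spread_pk {L : ℕ → ℕ} (hL : ∀ k < 24, L k ≤ 16) :
    spreadS (pk Bb L 24) = pk Cb L 24 := by
  rw [Bb_eq, Cb_eq]
  exact spread_spec L (fun i hi => lt_of_le_of_lt (hL i hi) (by norm_num))

/-- packed version, for valid packed vectors -/
theorem app_lanes {M : ℕ} (h : mvalid M = true) {X Y : ℕ} (hX : validB X = true)
    (hY : validB Y = true) (hok : appOK M (cvOf M) (spreadS X) Y = true) :
    matAct M (vecL (lanesB X)) = vecL (lanesB Y) := by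
  obtain ⟨hX1, hX2⟩ := validB_spec hX
  obtain ⟨hY1, hY2⟩ := validB_spec hY
  have e1 : spreadS X = pk Cb (lanesB X) 24 := by
    rw [← spread_pk hX2, ← hX1]
  rw [e1] at hok
  have hok' : appOK M (cvOf M) (pk Cb (lanesB X) 24) (pk Bb (lanesB Y) 24) = true := by
    rw [← hY1]
    exact hok
  exact matAct_vecL h hX2 hY2 hok'

/-- version for the vectors of the enumeration -/
theorem app_mv {M : ℕ} (h : mvalid M = true) {k p : ℕ} (hk : k < KTOT) (hvk : validK k = true)
    (hp : p < KTOT) (hvp : validK p = true) (hok : appOK M (cvOf M) (mvS k) (mvB p) = true) :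
    matAct M (vecL (laneRef k)) = vecL (laneRef p) := by
  rw [(mv_eq hk hvk).2, (mv_eq hp hvp).1] at hok
  exact matAct_vecL h (fun i _ => le_trans (laneRef_le k i) (by norm_num))
    (fun i _ => le_trans (laneRef_le p i) (by norm_num)) hok

/-! ### The kernel test that a packed matrix is an automorphism -/

/-- Gram sums of the columns -/
noncomputable def gramN (M q r : ℕ) : ℕ :=
  Nat.rec 0 (fun i acc => Nat.add acc (Nat.mul (Nl M i q) (Nl M i r))) 24

/-- column sums -/
noncomputable def colsum (M q : ℕ) : ℕ := Nat.rec 0 (fun i acc => Nat.add acc (Nl M i q)) 24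

/-- the columns are orthogonal of square length 64 -/
noncomputable def orthB (M : ℕ) : Bool :=
  allB 24 (fun q => allB 24 (fun r => Nat.beq (Nat.add (gramN M q r) 1536)
    (Nat.add (Nat.mul 8 (Nat.add (colsum M q) (colsum M r))) (cond (Nat.beq q r) 64 0))))

theorem orthB_spec {M : ℕ} (h : orthB M = true) : ∀ q < 24, ∀ r < 24,
    ∑ i ∈ Finset.range 24, Nz M i q * Nz M i r = if q = r then 64 else 0 := by
  intro q hq r hr
  have h1 := Nat.eq_of_beq_eq_true ((allB_iff _ _).mp ((allB_iff _ _).mp h q hq) r hr)
  have e1 : gramN M q r = ∑ i ∈ Finset.range 24, Nl M i q * Nl M i r :=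
    sumRec_eq (fun i => Nl M i q * Nl M i r) 24
  have e2 : colsum M q = ∑ i ∈ Finset.range 24, Nl M i q := sumRec_eq (fun i => Nl M i q) 24
  have e3 : colsum M r = ∑ i ∈ Finset.range 24, Nl M i r := sumRec_eq (fun i => Nl M i r) 24
  have h2 : gramN M q r + 1536 = 8 * (colsum M q + colsum M r) + (if q = r then 64 else 0) := by
    rw [← cond_beq]
    exact h1
  have e6 : ∑ i ∈ Finset.range 24, Nz M i q * Nz M i r
      = dotInt (vecL (fun i => Nl M i q)) (vecL (fun i => Nl M i r)) := by
    rw [dot_vecL]
    rfl
  rw [e6, dot_expand, ← e1, ← e2, ← e3]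
  have e8 := congrArg (fun n : ℕ => (n : ℤ)) h2
  simp only [Nat.cast_add, Nat.cast_mul, Nat.cast_ofNat] at e8
  by_cases hqr : q = r
  · rw [if_pos hqr] at e8 ⊢
    simp only [Nat.cast_ofNat] at e8
    linarith
  · rw [if_neg hqr] at e8 ⊢
    simp only [Nat.cast_zero] at e8
    linarith

/-- lanes of the generators of the lattice -/
def L4 (n : ℕ) : ℕ → ℕ := fun k => (if k = n then 12 else 8) - (if k = 23 then 4 else 0)

/-- lanes of `8 e_∞` -/
def L8 : ℕ → ℕ := fun k => if k = 23 then 16 else 8

/-- lanes of twice the indicator of a mask -/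
def Lo (o : ℕ) : ℕ → ℕ := fun k => if o.testBit k then 10 else 8

/-- lanes of `(-3, 1, ..., 1)` -/
def L3 : ℕ → ℕ := fun k => if k = 23 then 5 else 9

theorem idx_eq (p : GolayPt) : idx p = Cfsg.Agent.Lib.Helper7.GolayBase.idx p := by
  cases p <;> rfl

theorem vecL_ofN (L : ℕ → ℕ) :
    vecL L = Cfsg.Agent.Lib.Helper92.Xi.ofN (fun i => (L i : ℤ) - 8) := by
  funext p
  unfold vecL Cfsg.Agent.Lib.Helper92.Xi.ofN
  rw [idx_eq]

theorem L4_eq (i : GolayPt) :
    (Pi.single i 4 - Pi.single none 4 : GolayPt → ℤ) = vecL (L4 (idx i)) := by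
  rw [Cfsg.Agent.Lib.Helper92.Xi.g4_eq, vecL_ofN, ← idx_eq]
  congr 1
  funext k
  unfold Cfsg.Agent.Lib.Helper92.Xi.g4 L4
  split_ifs <;> norm_num

theorem L8_eq : (Pi.single none 8 : GolayPt → ℤ) = vecL L8 := by
  rw [Cfsg.Agent.Lib.Helper92.Xi.g8_eq, vecL_ofN]
  congr 1
  funext k
  unfold Cfsg.Agent.Lib.Helper92.Xi.g8 L8
  split_ifs <;> norm_num

theorem Lo_eq (o : ℕ) : ind2 (Cfsg.Agent.Lib.Helper7.GolayBase.mk o) = vecL (Lo o) := by
  rw [Cfsg.Agent.Lib.Helper92.Xi.go_eq, vecL_ofN]
  congr 1
  funext k
  unfold Cfsg.Agent.Lib.Helper92.Xi.go Lo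
  split_ifs <;> norm_num

theorem L3_eq : w3 none = vecL L3 := by
  rw [Cfsg.Agent.Lib.Helper92.Xi.g3_eq, vecL_ofN]
  congr 1
  funext k
  unfold Cfsg.Agent.Lib.Helper92.Xi.g3 L3
  split_ifs <;> norm_num

/-- the test that a generator is mapped into the lattice -/
noncomputable def genChk (M Cv : ℕ) (L : ℕ → ℕ) : Bool :=
  validB (appY M Cv (pkR Cb L 24)) && appOK M Cv (pkR Cb L 24) (appY M Cv (pkR Cb L 24))
    && Cfsg.Agent.Lib.Helper92.Xi.inL (fun i => (lanesB (appY M Cv (pkR Cb L 24)) i : ℤ) - 8)

theorem genChk_sound {M Cv : ℕ} (hv : mvalid M = true) (hcv : Cv = cvOf M) {L : ℕ → ℕ}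
    (hL : ∀ k < 24, L k ≤ 16) (h : genChk M Cv L = true) : GenOK M (vecL L) := by
  unfold genChk at h
  generalize appY M Cv (pkR Cb L 24) = Y at h
  rw [Bool.and_eq_true, Bool.and_eq_true] at h
  obtain ⟨⟨h1, h2⟩, h3⟩ := h
  obtain ⟨hY1, hY2⟩ := validB_spec h1
  rw [pkR_eq, hcv] at h2
  have hok : appOK M (cvOf M) (pk Cb L 24) (pk Bb (lanesB Y) 24) = true := by
    rw [← hY1]
    exact h2
  refine ⟨?_, ?_⟩
  · intro p
    rw [matRaw_vecL hv hL hY2 hok p]
    exact dvd_mul_right _ _
  · rw [matAct_vecL hv hL hY2 hok, vecL_ofN]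
    exact Cfsg.Agent.Lib.Helper92.Xi.inL_sound h3

/-- the generators of the lattice are mapped into the lattice -/
noncomputable def latB (M Cv : ℕ) : Bool :=
  allB 24 (fun n => genChk M Cv (L4 n)) && genChk M Cv L8
    && Cfsg.Agent.Lib.Helper7.GolayCode.echelon.all (fun o => genChk M Cv (Lo o))
    && genChk M Cv L3

/-- the complete test of a packed matrix with its correction vector -/
noncomputable def matChk (M Cv : ℕ) : Bool :=
  mvalid M && Nat.beq Cv (cvOf M) && orthB M && latB M Cv

theorem matChk_sound {M Cv : ℕ} (h : matChk M Cv = true) :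
    MatOK M ∧ mvalid M = true ∧ Cv = cvOf M := by
  unfold matChk at h
  rw [Bool.and_eq_true, Bool.and_eq_true, Bool.and_eq_true] at h
  obtain ⟨⟨⟨h1, h2⟩, h3⟩, h4⟩ := h
  have hcv : Cv = cvOf M := Nat.eq_of_beq_eq_true h2
  refine ⟨?_, h1, hcv⟩
  unfold latB at h4
  rw [Bool.and_eq_true, Bool.and_eq_true, Bool.and_eq_true] at h4
  obtain ⟨⟨⟨g1, g2⟩, g3⟩, g4⟩ := h4
  refine ⟨orthB_spec h3, ?_, ?_, ?_, ?_⟩
  · intro i
    rw [L4_eq]
    refine genChk_sound h1 hcv ?_ ((allB_iff _ _).mp g1 _ (idx_lt i))
    intro k _
    unfold L4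
    split_ifs <;> omega
  · rw [L8_eq]
    refine genChk_sound h1 hcv ?_ g2
    intro k _
    unfold L8
    split_ifs <;> omega
  · intro o ho
    rw [Lo_eq]
    refine genChk_sound h1 hcv ?_ (List.all_eq_true.mp g3 o ho)
    intro k _
    unfold Lo
    split_ifs <;> omega
  · rw [L3_eq]
    refine genChk_sound h1 hcv ?_ g4
    intro k _
    unfold L3
    split_ifs <;> omega

/-! ### The orbit relation from a matrix -/

/-- the vector of a packed vector -/
def vecB (b : ℕ) : GolayPt → ℤ := vecL (lanesB b)

theorem rf_of_app {M : ℕ} (hM : MatOK M) (hv : mvalid M = true) (F : List ℕ)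
    (hF : ∀ b ∈ F, validB b = true ∧ appOK M (cvOf M) (spreadS b) b = true)
    {x y : GolayPt → ℤ} (hx : x ∈ leechLattice) (hxy : matAct M x = y) :
    Rf (F.map vecB) x y := by
  have hy : y ∈ leechLattice := by
    rw [← hxy]
    exact (mat_mem hM hx).2
  refine ⟨matEquiv M hM, matEquiv_mem_Co0 M hM, ?_, hx, hy, ?_⟩
  · intro b' hb' hbl
    rw [List.mem_map] at hb'
    obtain ⟨b, hb, rfl⟩ := hb'
    apply Subtype.ext
    rw [matEquiv_apply]
    exact app_lanes hv (hF b hb).1 (hF b hb).1 (hF b hb).2
  · apply Subtype.ext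
    rw [matEquiv_apply]
    exact hxy

end Cfsg.Agent.Lib.Helper27.LApp
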