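import Mathlib
import Cfsg.Prelude.Def_Sporadic_a
import Cfsg.Agent.Lib.Helper27.LApp

/-!
Orbit certificates: a set of vectors of sum of squares 32 cut out by inner-product conditions is
one orbit of the automorphisms of the lattice fixing given vectors, verified from a table of
rows `(code, parent row, generator, depth)` by kernel evaluation.
-/

set_option autoImplicit false

namespace Cfsg.Agent.Lib.Helper27.OrbCert

open Cfsg Cfsg.Agent.Lib.Helper27.Bits Cfsg.Agent.Lib.Helper27.Pk
open Cfsg.Agent.Lib.Helper27.MinTab Cfsg.Agent.Lib.Helper27.MinEnum Cfsg.Agent.Lib.Helper27.MinFast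
open Cfsg.Agent.Lib.Helper27.MinAll Cfsg.Agent.Lib.Helper27.LDot Cfsg.Agent.Lib.Helper27.LMat
open Cfsg.Agent.Lib.Helper27.Spread Cfsg.Agent.Lib.Helper27.Co0Act Cfsg.Agent.Lib.Helper27.LApp

/-- the conditions `⟨b, X⟩ = tp - tn` for the triples `(b, tp, tn)` of a list, on a packed vector -/
noncomputable def condsOK (conds : List (ℕ × ℕ × ℕ)) (X : ℕ) : Bool :=
  conds.all (fun c => condOK c.1 c.2.1 c.2.2 X)

/-- the conditions on a vector -/
def CondsP (conds : List (ℕ × ℕ × ℕ)) (w : GolayPt → ℤ) : Prop :=
  ∀ c ∈ conds, dotInt (vecB c.1) w = (c.2.1 : ℤ) - c.2.2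

/-- the base vectors of the conditions are valid packed vectors -/
noncomputable def validConds (conds : List (ℕ × ℕ × ℕ)) : Bool := conds.all (fun c => validB c.1)

theorem condsOK_mv {conds : List (ℕ × ℕ × ℕ)} (hc : validConds conds = true) {k : ℕ}
    (hk : k < KTOT) (hv : validK k = true) :
    condsOK conds (mvB k) = true ↔ CondsP conds (vecL (laneRef k)) := by
  unfold condsOK CondsP validConds at *
  rw [List.all_eq_true] at hc ⊢
  constructor
  · intro h c hcm
    exact (condOK_mv c.2.1 c.2.2 (hc c hcm) hk hv).mp (h c hcm)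
  · intro h c hcm
    exact (condOK_mv c.2.1 c.2.2 (hc c hcm) hk hv).mpr (h c hcm)

/-- the vectors of sum of squares 32 satisfying the conditions -/
def Om (conds : List (ℕ × ℕ × ℕ)) : Set (GolayPt → ℤ) :=
  {w | w ∈ leechLattice ∧ sqNorm w = 32 ∧ CondsP conds w}

/-- a fast form of `validK` -/
def validKF (k : ℕ) : Bool :=
  cond (Nat.blt k 2304) (Nat.blt (Nat.div (Nat.div k 4) 24) (Nat.mod (Nat.div k 4) 24)) true

theorem validKF_eq (k : ℕ) : validKF k = validK k := by
  unfold validKF validK
  by_cases h : k < 2304
  · have h1 : Nat.blt k 2304 = true := Nat.blt_eq.mpr h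
    rw [h1]
    simp only [cond_true, h, decide_true, Bool.not_true, Bool.false_or]
    by_cases h2 : k / 4 / 24 < k / 4 % 24
    · rw [decide_eq_true h2]
      exact Nat.blt_eq.mpr h2
    · rw [decide_eq_false h2]
      cases hb : Nat.blt (Nat.div (Nat.div k 4) 24) (Nat.mod (Nat.div k 4) 24) with
      | false => rfl
      | true => exact absurd (Nat.blt_eq.mp hb) h2
  · have h1 : Nat.blt k 2304 = false := by
      cases hb : Nat.blt k 2304 with
      | false => rfl
      | true => exact absurd (Nat.blt_eq.mp hb) h
    rw [h1]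
    simp [h]

/-- membership test for a code -/
noncomputable def inOm (conds : List (ℕ × ℕ × ℕ)) (k : ℕ) : Bool :=
  validKF k && condsOK conds (mvB k)

theorem inOm_valid {conds : List (ℕ × ℕ × ℕ)} {k : ℕ} (h : inOm conds k = true) :
    validK k = true ∧ condsOK conds (mvB k) = true := by
  unfold inOm at h
  rw [Bool.and_eq_true, validKF_eq] at h
  exact h

theorem om_card (conds : List (ℕ × ℕ × ℕ)) (hc : validConds conds = true) :
    (Om conds).ncard = countB KTOT (inOm conds) := by
  have h := ncard_filter (CondsP conds) (fun k => condsOK conds (mvB k))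
    (fun _ hk hv => (condsOK_mv hc hk hv).symm)
  have e : inOm conds = fun k => validK k && condsOK conds (mvB k) := by
    funext k
    unfold inOm
    rw [validKF_eq]
  rw [e]
  exact h

theorem mem_om {conds : List (ℕ × ℕ × ℕ)} (hc : validConds conds = true) {k : ℕ}
    (hk : k < KTOT) (h : inOm conds k = true) : vecL (laneRef k) ∈ Om conds := by
  have h := inOm_valid h
  exact ⟨(mv_sound hk h.1).1, (mv_sound hk h.1).2, (condsOK_mv hc hk h.1).mp h.2⟩

theorem om_code {conds : List (ℕ × ℕ × ℕ)} (hc : validConds conds = true) {x : GolayPt → ℤ}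
    (hx : x ∈ Om conds) : ∃ k < KTOT, inOm conds k = true ∧ vecL (laneRef k) = x := by
  obtain ⟨hl, hn, hP⟩ := hx
  obtain ⟨k, hk, hv, rfl⟩ := mv_complete hl hn
  refine ⟨k, hk, ?_, rfl⟩
  unfold inOm
  rw [Bool.and_eq_true, validKF_eq]
  exact ⟨hv, (condsOK_mv hc hk hv).mpr hP⟩

/-- the generators with their correction vectors pass the matrix test and fix the base vectors -/
noncomputable def gensOK (F : List ℕ) (G : List (ℕ × ℕ)) : Bool :=
  F.all validB && G.all (fun g => matChk g.1 g.2 && F.all (fun b => appOK g.1 g.2 (spreadS b) b))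

/-- the code of a row -/
def rCode (t : ℕ) : ℕ := Nat.mod t 262144

/-- the parent row of a row -/
def rPar (t : ℕ) : ℕ := Nat.mod (Nat.div t 262144) 65536

/-- the generator of a row -/
def rGen (t : ℕ) : ℕ := Nat.mod (Nat.div t 17179869184) 256

/-- the depth of a row -/
def rDep (t : ℕ) : ℕ := Nat.div t 4398046511104

/-- row `i` of a chunked table (64 rows of 64 bits per chunk) -/
def rowAt (ch : ℕ → ℕ) (i : ℕ) : ℕ :=
  Nat.land (Nat.shiftRight (ch (Nat.div i 64)) (Nat.mul 64 (Nat.mod i 64))) 18446744073709551615

/-- the test of a row of a table of codes: its code is in the set, and codes increase -/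
noncomputable def tabRow (conds : List (ℕ × ℕ × ℕ)) (T : ℕ → ℕ) (n i : ℕ) : Bool :=
  Nat.blt (rCode (T i)) KTOT && inOm conds (rCode (T i))
    && (Nat.beq (Nat.succ i) n || Nat.blt (rCode (T i)) (rCode (T (Nat.succ i))))

/-- a complete increasing table of the codes of a set -/
structure TabOK (conds : List (ℕ × ℕ × ℕ)) (T : ℕ → ℕ) (n : ℕ) : Prop where
  lt : ∀ i < n, rCode (T i) < KTOT
  mem : ∀ i < n, inOm conds (rCode (T i)) = true
  mono : ∀ b < n, ∀ a < b, rCode (T a) < rCode (T b)
  image : (Finset.range n).image (fun i => rCode (T i))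
      = (Finset.range KTOT).filter (fun k => inOm conds k = true)

theorem TabOK.surj {conds : List (ℕ × ℕ × ℕ)} {T : ℕ → ℕ} {n : ℕ} (h : TabOK conds T n) {k : ℕ}
    (hk : k < KTOT) (hin : inOm conds k = true) : ∃ i < n, rCode (T i) = k := by
  have hkS : k ∈ (Finset.range KTOT).filter (fun k => inOm conds k = true) := by
    rw [Finset.mem_filter, Finset.mem_range]
    exact ⟨hk, hin⟩
  rw [← h.image, Finset.mem_image] at hkS
  obtain ⟨i, hi, e⟩ := hkS
  exact ⟨i, Finset.mem_range.mp hi, e⟩

theorem TabOK.inj {conds : List (ℕ × ℕ × ℕ)} {T : ℕ → ℕ} {n : ℕ} (h : TabOK conds T n) :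
    Set.InjOn (fun i => rCode (T i)) (Finset.range n : Set ℕ) := by
  intro a ha b hb hab
  have ha' := Finset.mem_range.mp ha
  have hb' := Finset.mem_range.mp hb
  by_contra hne
  rcases lt_or_gt_of_ne hne with h1 | h1
  · have := h.mono b hb' a h1
    simp only at hab
    omega
  · have := h.mono a ha' b h1
    simp only at hab
    omega

/-- A table of codes in the set, increasing, with as many rows as the set has codes. -/
theorem tab_ok (conds : List (ℕ × ℕ × ℕ)) (T : ℕ → ℕ) (n : ℕ)
    (hcnt : countB KTOT (inOm conds) = n) (hrows : allB n (tabRow conds T n) = true) :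
    TabOK conds T n := by
  classical
  have hrow := (allB_iff _ _).mp hrows
  have r1 : ∀ i < n, rCode (T i) < KTOT ∧ inOm conds (rCode (T i)) = true := by
    intro i hi
    have h := hrow i hi
    unfold tabRow at h
    rw [Bool.and_eq_true, Bool.and_eq_true] at h
    exact ⟨Nat.blt_eq.mp h.1.1, h.1.2⟩
  have r2 : ∀ i, i + 1 < n → rCode (T i) < rCode (T (i + 1)) := by
    intro i hi
    have h := hrow i (by omega)
    unfold tabRow at h
    rw [Bool.and_eq_true, Bool.and_eq_true] at h
    have h2 := h.2
    rw [Bool.or_eq_true] at h2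
    rcases h2 with h2 | h2
    · have := Nat.eq_of_beq_eq_true h2
      have e : i + 1 = n := this
      omega
    · exact Nat.blt_eq.mp h2
  have hmono := lt_of_step r2
  refine ⟨fun i hi => (r1 i hi).1, fun i hi => (r1 i hi).2, hmono, ?_⟩
  apply Finset.eq_of_subset_of_card_le
  · intro k hk
    rw [Finset.mem_image] at hk
    obtain ⟨i, hi, rfl⟩ := hk
    rw [Finset.mem_filter, Finset.mem_range]
    exact r1 i (Finset.mem_range.mp hi)
  · rw [← countB_eq, hcnt, Finset.card_image_of_injOn, Finset.card_range]
    intro a ha b hb hab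
    have ha' := Finset.mem_range.mp ha
    have hb' := Finset.mem_range.mp hb
    by_contra hne
    rcases lt_or_gt_of_ne hne with h | h
    · have := hmono b hb' a h
      simp only at hab
      omega
    · have := hmono a ha' b h
      simp only at hab
      omega

/-- A property of the codes of the set, tested on the rows. -/
theorem TabOK.forall {conds : List (ℕ × ℕ × ℕ)} {T : ℕ → ℕ} {n : ℕ} (h : TabOK conds T n)
    (q : ℕ → Bool) (hq : allB n (fun i => q (rCode (T i))) = true) :
    ∀ k < KTOT, inOm conds k = true → q k = true := by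
  intro k hk hin
  obtain ⟨i, hi, rfl⟩ := h.surj hk hin
  exact (allB_iff _ _).mp hq i hi

theorem inOm_append (extra conds : List (ℕ × ℕ × ℕ)) (k : ℕ) :
    inOm (extra ++ conds) k = (inOm conds k && condsOK extra (mvB k)) := by
  unfold inOm condsOK
  rw [List.all_append]
  cases validKF k <;> cases (List.all extra fun c => condOK c.1 c.2.1 c.2.2 (mvB k)) <;>
    cases (List.all conds fun c => condOK c.1 c.2.1 c.2.2 (mvB k)) <;> rfl

/-- Counting the codes of a subset cut out by further conditions, on the rows. -/
theorem TabOK.sub_count {conds : List (ℕ × ℕ × ℕ)} {T : ℕ → ℕ} {n : ℕ} (h : TabOK conds T n)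
    (extra : List (ℕ × ℕ × ℕ)) :
    countB KTOT (inOm (extra ++ conds))
      = countB n (fun i => condsOK extra (mvB (rCode (T i)))) := by
  classical
  rw [countB_eq, countB_eq]
  have e : (Finset.range KTOT).filter (fun k => inOm (extra ++ conds) k = true)
      = ((Finset.range n).filter (fun i => condsOK extra (mvB (rCode (T i))) = true)).image
          (fun i => rCode (T i)) := by
    ext k
    rw [Finset.mem_filter, Finset.mem_range, Finset.mem_image, inOm_append, Bool.and_eq_true]
    constructor
    · rintro ⟨hk, hin, hex⟩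
      obtain ⟨i, hi, rfl⟩ := h.surj hk hin
      exact ⟨i, Finset.mem_filter.mpr ⟨Finset.mem_range.mpr hi, hex⟩, rfl⟩
    · rintro ⟨i, hi, rfl⟩
      rw [Finset.mem_filter, Finset.mem_range] at hi
      exact ⟨h.lt i hi.1, h.mem i hi.1, hi.2⟩
  rw [e, Finset.card_image_of_injOn]
  exact h.inj.mono (by
    intro i hi
    exact Finset.mem_coe.mpr (Finset.mem_of_mem_filter i (Finset.mem_coe.mp hi)))

/-- the test of a row of an orbit table: the row is the root, or its generator maps its vector
to the vector of its parent row, which has smaller depth -/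
noncomputable def linkRow (G : List (ℕ × ℕ)) (T : ℕ → ℕ) (n root i : ℕ) : Bool :=
  Nat.beq i root ||
    (Nat.blt (rPar (T i)) n && Nat.blt (rDep (T (rPar (T i)))) (rDep (T i)) &&
      match G[rGen (T i)]? with
      | some g => appOK g.1 g.2 (mvS (rCode (T i))) (mvB (rCode (T (rPar (T i)))))
      | none => false)

/-- The certificate: every vector of the set is related to the vector of the root row. -/
theorem orb_rf (F : List ℕ) (G : List (ℕ × ℕ)) (conds : List (ℕ × ℕ × ℕ)) (T : ℕ → ℕ)
    (n root : ℕ) (hG : gensOK F G = true) (hc : validConds conds = true)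
    (htab : TabOK conds T n) (hrows : allB n (linkRow G T n root) = true)
    (hroot : root < n) :
    ∀ x ∈ Om conds, Rf (F.map vecB) x (vecL (laneRef (rCode (T root)))) := by
  classical
  have hrow := (allB_iff _ _).mp hrows
  unfold gensOK at hG
  rw [Bool.and_eq_true, List.all_eq_true, List.all_eq_true] at hG
  obtain ⟨hF, hG⟩ := hG
  have hlat : ∀ i < n, vecL (laneRef (rCode (T i))) ∈ leechLattice := by
    intro i hi
    exact (mem_om hc (htab.lt i hi) (htab.mem i hi)).1
  -- induction on the depth
  have key : ∀ d, ∀ i < n, rDep (T i) ≤ d →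
      Rf (F.map vecB) (vecL (laneRef (rCode (T i)))) (vecL (laneRef (rCode (T root)))) := by
    intro d
    induction d with
    | zero =>
      intro i hi hd
      have h := hrow i hi
      unfold linkRow at h
      rw [Bool.or_eq_true] at h
      rcases h with h2 | h2
      · have e : i = root := Nat.eq_of_beq_eq_true h2
        rw [e]
        exact Rf.refl _ (hlat root hroot)
      · rw [Bool.and_eq_true, Bool.and_eq_true] at h2
        have := Nat.blt_eq.mp h2.1.2
        omega
    | succ d ih =>
      intro i hi hd
      have h := hrow i hi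
      unfold linkRow at h
      rw [Bool.or_eq_true] at h
      rcases h with h2 | h2
      · have e : i = root := Nat.eq_of_beq_eq_true h2
        rw [e]
        exact Rf.refl _ (hlat root hroot)
      · rw [Bool.and_eq_true, Bool.and_eq_true] at h2
        obtain ⟨⟨h3, h4⟩, h5⟩ := h2
        have hj : rPar (T i) < n := Nat.blt_eq.mp h3
        have hdj : rDep (T (rPar (T i))) < rDep (T i) := Nat.blt_eq.mp h4
        have hrec := ih (rPar (T i)) hj (by omega)
        refine Rf.trans ?_ hrec
        cases hg : G[rGen (T i)]? with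
        | none =>
          rw [hg] at h5
          exact absurd h5 (by simp)
        | some g =>
          rw [hg] at h5
          have hgm : g ∈ G := List.mem_of_getElem? hg
          have hgg := hG g hgm
          rw [Bool.and_eq_true, List.all_eq_true] at hgg
          obtain ⟨hm1, hm2, hm3⟩ := matChk_sound hgg.1
          have h5' : appOK g.1 (cvOf g.1) (mvS (rCode (T i))) (mvB (rCode (T (rPar (T i))))) = true := by
            rw [← hm3]
            exact h5
          have hi1 := inOm_valid (htab.mem i hi)
          have hj1 := inOm_valid (htab.mem _ hj)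
          have hact := app_mv hm2 (htab.lt i hi) hi1.1 (htab.lt _ hj) hj1.1 h5'
          refine rf_of_app hm1 hm2 F ?_ (hlat i hi) hact
          intro b hb
          refine ⟨hF b hb, ?_⟩
          rw [← hm3]
          exact hgg.2 b hb
  intro x hx
  obtain ⟨k, hk, hin, rfl⟩ := om_code hc hx
  obtain ⟨i, hi, rfl⟩ := htab.surj hk hin
  exact key _ i hi (le_refl _)

/-- The certificate: the set is one orbit. -/
theorem orb_trans (F : List ℕ) (G : List (ℕ × ℕ)) (conds : List (ℕ × ℕ × ℕ)) (T : ℕ → ℕ)
    (n root : ℕ) (hG : gensOK F G = true) (hc : validConds conds = true)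
    (htab : TabOK conds T n) (hrows : allB n (linkRow G T n root) = true)
    (hroot : root < n) :
    ∀ x ∈ Om conds, ∀ y ∈ Om conds, Rf (F.map vecB) x y := fun x hx y hy =>
  (orb_rf F G conds T n root hG hc htab hrows hroot x hx).trans
    (orb_rf F G conds T n root hG hc htab hrows hroot y hy).symm

theorem gensOK_nil (F : List ℕ) (h : F.all validB = true) : gensOK F [] = true := by
  unfold gensOK
  rw [h]
  rfl

theorem gensOK_cons (F : List ℕ) (G : List (ℕ × ℕ)) (g : ℕ × ℕ) (h1 : gensOK F [g] = true)
    (h2 : gensOK F G = true) : gensOK F (g :: G) = true := by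
  unfold gensOK at *
  rw [Bool.and_eq_true] at h1 h2 ⊢
  refine ⟨h2.1, ?_⟩
  rw [List.all_cons, Bool.and_eq_true]
  refine ⟨?_, h2.2⟩
  have := h1.2
  rw [List.all_cons, Bool.and_eq_true] at this
  exact this.1

end Cfsg.Agent.Lib.Helper27.OrbCert
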