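import Mathlib
import Cfsg.Prelude.Def_Sporadic_a
import Cfsg.Agent.Lib.Helper27.OrbCert

/-!
Glue between the orbit certificates (about explicit packed vectors) and statements about
arbitrary vectors of the lattice: transport along an automorphism.
-/

set_option autoImplicit false

namespace Cfsg.Agent.Lib.Helper27.CoGlue

open Cfsg Cfsg.Agent.Lib.Helper27.Bits Cfsg.Agent.Lib.Helper27.Pk
open Cfsg.Agent.Lib.Helper27.MinTab Cfsg.Agent.Lib.Helper27.MinEnum Cfsg.Agent.Lib.Helper27.MinFast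
open Cfsg.Agent.Lib.Helper27.MinAll Cfsg.Agent.Lib.Helper27.LDot Cfsg.Agent.Lib.Helper27.LMat
open Cfsg.Agent.Lib.Helper27.Spread Cfsg.Agent.Lib.Helper27.Co0Act Cfsg.Agent.Lib.Helper27.LApp
open Cfsg.Agent.Lib.Helper27.OrbCert

/-! ### The action -/

theorem smul_norm (g : Co0) (x : leechLattice) :
    sqNorm ((g • x : leechLattice) : GolayPt → ℤ) = sqNorm (x : GolayPt → ℤ) := co0_norm g.2 x

theorem smul_dot (g : Co0) (x y : leechLattice) :
    dotInt ((g • x : leechLattice) : GolayPt → ℤ) ((g • y : leechLattice) : GolayPt → ℤ)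
      = dotInt (x : GolayPt → ℤ) (y : GolayPt → ℤ) := co0_dot g.2 x y

theorem smul_add_l (g : Co0) (x y : leechLattice) : g • (x + y) = g • x + g • y := co0_add g.2 x y

theorem smul_neg_l (g : Co0) (x : leechLattice) : g • (-x) = -(g • x) := co0_neg g.2 x

theorem smul_sub_l (g : Co0) (x y : leechLattice) : g • (x - y) = g • x - g • y := co0_sub g.2 x y

theorem sqNorm_eq_dot (x : GolayPt → ℤ) : sqNorm x = dotInt x x := by
  unfold sqNorm dotInt
  apply Finset.sum_congr rfl
  intro i _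
  ring

theorem dot_comm (x y : GolayPt → ℤ) : dotInt x y = dotInt y x := by
  unfold dotInt
  apply Finset.sum_congr rfl
  intro i _
  ring

theorem dot_add_right (x y z : GolayPt → ℤ) : dotInt x (y + z) = dotInt x y + dotInt x z := by
  unfold dotInt
  rw [← Finset.sum_add_distrib]
  apply Finset.sum_congr rfl
  intro i _
  simp only [Pi.add_apply]
  ring

theorem dot_neg_right (x y : GolayPt → ℤ) : dotInt x (-y) = -dotInt x y := by
  unfold dotInt
  rw [← Finset.sum_neg_distrib]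
  apply Finset.sum_congr rfl
  intro i _
  simp only [Pi.neg_apply]
  ring

theorem dot_sub_right (x y z : GolayPt → ℤ) : dotInt x (y - z) = dotInt x y - dotInt x z := by
  rw [sub_eq_add_neg, dot_add_right, dot_neg_right]
  ring

theorem sqNorm_sub (x y : GolayPt → ℤ) :
    sqNorm (x - y) = sqNorm x - 2 * dotInt x y + sqNorm y := by
  unfold sqNorm dotInt
  rw [Finset.mul_sum, ← Finset.sum_sub_distrib, ← Finset.sum_add_distrib]
  apply Finset.sum_congr rfl
  intro i _
  simp only [Pi.sub_apply]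
  ring

/-! ### Packed vectors -/

/-- membership test for a packed vector -/
noncomputable def memB (X : ℕ) : Bool :=
  Cfsg.Agent.Lib.Helper92.Xi.inL (fun i => (lanesB X i : ℤ) - 8)

theorem mem_vecB {X : ℕ} (h : memB X = true) : vecB X ∈ leechLattice := by
  unfold vecB
  rw [vecL_ofN]
  exact Cfsg.Agent.Lib.Helper92.Xi.inL_sound h

theorem dot_vecB {b X : ℕ} (tp tn : ℕ) (hb : validB b = true) (hX : validB X = true)
    (h : condOK b tp tn X = true) : dotInt (vecB b) (vecB X) = (tp : ℤ) - tn := by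
  obtain ⟨hX1, hX2⟩ := validB_spec hX
  have h' : condOK b tp tn (pk Bb (lanesB X) 24) = true := by
    rw [← hX1]
    exact h
  exact (condOK_spec tp tn hb hX2).mp h'

theorem vecB_mv {X k : ℕ} (h : X = mvB k) (hk : k < KTOT) (hv : validK k = true) :
    vecB X = vecL (laneRef k) := by
  unfold vecB
  rw [h]
  exact vec_mvB hk hv

/-! ### Transport -/

theorem mem_om_smul (g0 : Co0) (conds : List (ℕ × ℕ × ℕ)) (x : leechLattice)
    (hn : sqNorm (x : GolayPt → ℤ) = 32)
    (hc : ∀ c ∈ conds, ∃ a : leechLattice, ((g0 • a : leechLattice) : GolayPt → ℤ) = vecB c.1 ∧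
      dotInt (a : GolayPt → ℤ) (x : GolayPt → ℤ) = (c.2.1 : ℤ) - c.2.2) :
    ((g0 • x : leechLattice) : GolayPt → ℤ) ∈ Om conds := by
  refine ⟨(g0 • x).2, ?_, ?_⟩
  · rw [smul_norm]
    exact hn
  · intro c hcm
    obtain ⟨a, ha, hd⟩ := hc c hcm
    rw [← ha, smul_dot]
    exact hd

theorem om_smul_norm (g0 : Co0) {conds : List (ℕ × ℕ × ℕ)} {x : leechLattice}
    (h : ((g0 • x : leechLattice) : GolayPt → ℤ) ∈ Om conds) : sqNorm (x : GolayPt → ℤ) = 32 := by
  rw [← smul_norm g0]
  exact h.2.1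

theorem om_smul_dot (g0 : Co0) {conds : List (ℕ × ℕ × ℕ)} {x : leechLattice}
    (h : ((g0 • x : leechLattice) : GolayPt → ℤ) ∈ Om conds) {c : ℕ × ℕ × ℕ} (hc : c ∈ conds)
    {a : leechLattice} (ha : ((g0 • a : leechLattice) : GolayPt → ℤ) = vecB c.1) :
    dotInt (a : GolayPt → ℤ) (x : GolayPt → ℤ) = (c.2.1 : ℤ) - c.2.2 := by
  rw [← smul_dot g0, ha]
  exact h.2.2 c hc

theorem ncard_om_smul (g0 : Co0) (conds : List (ℕ × ℕ × ℕ)) (P : leechLattice → Prop)
    (h : ∀ x : leechLattice, P x ↔ ((g0 • x : leechLattice) : GolayPt → ℤ) ∈ Om conds) :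
    {x : leechLattice | P x}.ncard = (Om conds).ncard := by
  rw [ncard_transport' g0.1 P (fun y => (y : GolayPt → ℤ) ∈ Om conds) h,
    ncard_val (fun w => w ∈ Om conds)]
  congr 1
  ext w
  constructor
  · rintro ⟨_, h⟩
    exact h
  · intro h
    exact ⟨h.1, h⟩

theorem trans_smul {F : List ℕ} {conds : List (ℕ × ℕ × ℕ)}
    (htr : ∀ x ∈ Om conds, ∀ y ∈ Om conds, Rf (F.map vecB) x y) (g0 : Co0) {x x' : leechLattice}
    (hx : ((g0 • x : leechLattice) : GolayPt → ℤ) ∈ Om conds)
    (hx' : ((g0 • x' : leechLattice) : GolayPt → ℤ) ∈ Om conds) :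
    ∃ g : Co0, g • x = x' ∧ ∀ a : leechLattice,
      (∃ b ∈ F, ((g0 • a : leechLattice) : GolayPt → ℤ) = vecB b) → g • a = a := by
  obtain ⟨f, hf, hfix, hx1, hy1, e⟩ := htr _ hx _ hx'
  refine ⟨g0⁻¹ * ⟨f, hf⟩ * g0, ?_, ?_⟩
  · rw [mul_smul, mul_smul, inv_smul_eq_iff]
    exact e
  · rintro a ⟨b, hb, hab⟩
    rw [mul_smul, mul_smul, inv_smul_eq_iff]
    have hbl : vecB b ∈ leechLattice := by
      rw [← hab]
      exact (g0 • a).2
    have h1 := hfix (vecB b) (List.mem_map.mpr ⟨b, hb, rfl⟩) hbl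
    have e2 : g0 • a = ⟨vecB b, hbl⟩ := Subtype.ext hab
    rw [e2]
    exact h1

/-- An orbit of a subgroup is a set that the subgroup preserves and on which it is transitive. -/
theorem orbit_eq_of (H : Subgroup Co0) (A : Set leechLattice) (y : leechLattice) (hy : y ∈ A)
    (hinv : ∀ h ∈ H, ∀ a ∈ A, h • a ∈ A) (htr : ∀ a ∈ A, ∃ h ∈ H, h • y = a) :
    MulAction.orbit H y = A := by
  ext a
  constructor
  · rintro ⟨h, rfl⟩
    exact hinv h.1 h.2 y hy
  · intro ha
    obtain ⟨h, hh, e⟩ := htr a ha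
    exact ⟨⟨h, hh⟩, e⟩

/-- A vector of the set is the root or has one of the listed inner products with `b`. -/
theorem cover_of {conds : List (ℕ × ℕ × ℕ)} {T : ℕ → ℕ} {n : ℕ} (htab : TabOK conds T n)
    (hc : validConds conds = true) (b root : ℕ) (q : ℕ → Bool) (vals : List (ℕ × ℕ))
    (hb : validB b = true)
    (hq : ∀ k, q k = true → k = root ∨ ∃ v ∈ vals, condOK b v.1 v.2 (mvB k) = true)
    (hall : allB n (fun i => q (rCode (T i))) = true) :
    ∀ z ∈ Om conds, z = vecL (laneRef root) ∨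
      ∃ v ∈ vals, dotInt (vecB b) z = (v.1 : ℤ) - v.2 := by
  intro z hz
  obtain ⟨k, hk, hin, rfl⟩ := om_code hc hz
  have h1 := htab.forall q hall k hk hin
  rcases hq k h1 with h2 | ⟨v, hv, h2⟩
  · left
    rw [h2]
  · right
    exact ⟨v, hv, (condOK_mv v.1 v.2 hb hk (inOm_valid hin).1).mp h2⟩

theorem sqNorm_neg (x : GolayPt → ℤ) : sqNorm (-x) = sqNorm x := by
  unfold sqNorm
  apply Finset.sum_congr rfl
  intro i _
  simp only [Pi.neg_apply]
  ring

theorem dot_add_left (x y z : GolayPt → ℤ) : dotInt (x + y) z = dotInt x z + dotInt y z := by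
  rw [dot_comm, dot_add_right, dot_comm z x, dot_comm z y]

theorem dot_neg_left (x y : GolayPt → ℤ) : dotInt (-x) y = -dotInt x y := by
  rw [dot_comm, dot_neg_right, dot_comm]

/-- Transitivity between two vectors of the set, fixing the base vectors. -/
theorem trans_std {F : List ℕ} {conds : List (ℕ × ℕ × ℕ)}
    (htr : ∀ x ∈ Om conds, ∀ y ∈ Om conds, Rf (F.map vecB) x y) {y y' : leechLattice}
    (hy : (y : GolayPt → ℤ) ∈ Om conds) (hy' : (y' : GolayPt → ℤ) ∈ Om conds) :
    ∃ g : Co0, g • y = y' ∧ ∀ a : leechLattice,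
      (∃ b ∈ F, (a : GolayPt → ℤ) = vecB b) → g • a = a := by
  obtain ⟨g, h1, h2⟩ := trans_smul htr 1 (x := y) (x' := y')
    (by rw [one_smul]; exact hy) (by rw [one_smul]; exact hy')
  refine ⟨g, h1, fun a ha => h2 a ?_⟩
  obtain ⟨b, hb, e⟩ := ha
  exact ⟨b, hb, by rw [one_smul]; exact e⟩

theorem mem_om_cons (b tp tn : ℕ) (c : List (ℕ × ℕ × ℕ)) (z : GolayPt → ℤ) :
    z ∈ Om ([(b, tp, tn)] ++ c) ↔ z ∈ Om c ∧ dotInt (vecB b) z = (tp : ℤ) - tn := by
  unfold Om CondsP
  simp only [Set.mem_ofPred_eq, List.singleton_append, List.mem_cons, forall_eq_or_imp]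
  tauto

/-- A set cut out by conditions, transported to a certified orbit, is an orbit of any subgroup
that preserves it and contains the automorphisms fixing the base vectors. -/
theorem orbit_sub (H : Subgroup Co0) (g0 : Co0) {F : List ℕ} {conds : List (ℕ × ℕ × ℕ)} (n : ℕ)
    (htr : ∀ x ∈ Om conds, ∀ y ∈ Om conds, Rf (F.map vecB) x y) (hcard : (Om conds).ncard = n)
    (hn : n ≠ 0) (P : leechLattice → Prop)
    (hP : ∀ y : leechLattice, P y ↔ ((g0 • y : leechLattice) : GolayPt → ℤ) ∈ Om conds)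
    (hinv : ∀ h ∈ H, ∀ a : leechLattice, P a → P (h • a))
    (hH : ∀ g : Co0, (∀ a : leechLattice,
      (∃ b ∈ F, ((g0 • a : leechLattice) : GolayPt → ℤ) = vecB b) → g • a = a) → g ∈ H) :
    ∃ y : leechLattice, P y ∧ MulAction.orbit H y = {a : leechLattice | P a} ∧
      (MulAction.orbit H y).ncard = n := by
  have hc : {a : leechLattice | P a}.ncard = n := by
    rw [ncard_om_smul g0 conds P hP]
    exact hcard
  have hne : {a : leechLattice | P a}.Nonempty := by
    apply Set.nonempty_of_ncard_ne_zero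
    rw [hc]
    exact hn
  obtain ⟨y, hy⟩ := hne
  have ho : MulAction.orbit H y = {a : leechLattice | P a} := by
    apply orbit_eq_of H _ y hy
    · intro h hh a ha
      exact hinv h hh a ha
    · intro a ha
      obtain ⟨g, h1, h2⟩ := trans_smul htr g0 ((hP y).mp hy) ((hP a).mp ha)
      exact ⟨g, hH g h2, h1⟩
  exact ⟨y, hy, ho, by rw [ho]; exact hc⟩

/-- Membership in a subset cut out by a further inner product with a third vector. -/
theorem mem_sub (g0 : Co0) {c : List (ℕ × ℕ × ℕ)} {Q : leechLattice → Prop}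
    (hQ : ∀ y : leechLattice, Q y ↔ ((g0 • y : leechLattice) : GolayPt → ℤ) ∈ Om c)
    {x : leechLattice} {b : ℕ} (hx : ((g0 • x : leechLattice) : GolayPt → ℤ) = vecB b)
    (tp tn : ℕ) (d : ℤ) (hd : (tp : ℤ) - tn = d) (y : leechLattice) :
    (Q y ∧ dotInt (x : GolayPt → ℤ) (y : GolayPt → ℤ) = d) ↔
      ((g0 • y : leechLattice) : GolayPt → ℤ) ∈ Om ([(b, tp, tn)] ++ c) := by
  rw [mem_om_cons, ← hQ y, hd, ← hx, smul_dot]

/-- The inner products with two fixed vectors are preserved by an element fixing them. -/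
theorem stab_dot (h : Co0) {u : leechLattice} (hu : h • u = u) (a : leechLattice) :
    dotInt (u : GolayPt → ℤ) ((h • a : leechLattice) : GolayPt → ℤ)
      = dotInt (u : GolayPt → ℤ) (a : GolayPt → ℤ) := by
  have := smul_dot h u a
  rw [hu] at this
  exact this

end Cfsg.Agent.Lib.Helper27.CoGlue
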