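import Cfsg.Prelude.Def_SporadicCombinatorics

set_option autoImplicit false

namespace Cfsg.Agent.Lib.Helper27.Bits

open Cfsg

/-! ### kernel-friendly loops -/

/-- all `i < n` satisfy `p` -/
noncomputable def allB (n : ℕ) (p : ℕ → Bool) : Bool :=
  Nat.rec true (fun k ih => p k && ih) n

theorem allB_succ (n : ℕ) (p : ℕ → Bool) : allB (n + 1) p = (p n && allB n p) := rfl

theorem allB_iff (n : ℕ) (p : ℕ → Bool) : allB n p = true ↔ ∀ i < n, p i = true := by
  induction n with
  | zero => simp [allB]
  | succ n ih =>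
    rw [allB_succ, Bool.and_eq_true, ih]
    constructor
    · rintro ⟨h1, h2⟩ i hi
      rcases Nat.lt_succ_iff_lt_or_eq.mp hi with h | h
      · exact h2 i h
      · exact h ▸ h1
    · intro h
      exact ⟨h n (Nat.lt_succ_self n), fun i hi => h i (Nat.lt_succ_of_lt hi)⟩

/-- number of `i < n` satisfying `p` -/
noncomputable def countB (n : ℕ) (p : ℕ → Bool) : ℕ :=
  Nat.rec 0 (fun k ih => cond (p k) (Nat.succ ih) ih) n

theorem countB_succ (n : ℕ) (p : ℕ → Bool) :
    countB (n + 1) p = cond (p n) (Nat.succ (countB n p)) (countB n p) := rfl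

theorem countB_eq (n : ℕ) (p : ℕ → Bool) :
    countB n p = ((Finset.range n).filter (fun i => p i = true)).card := by
  induction n with
  | zero => simp [countB]
  | succ n ih =>
    rw [countB_succ, Finset.range_add_one, Finset.filter_insert]
    by_cases h : p n = true
    · simp [h, ih]
    · simp [h, ih]

/-! ### points and masks -/

/-- index of a point -/
def idx : GolayPt → ℕ
  | none => 23
  | some x => x.val

/-- point of an index -/
def pt (i : ℕ) : GolayPt := if i < 23 then some (i : ZMod 23) else none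

theorem idx_lt (p : GolayPt) : idx p < 24 := by
  cases p with
  | none => simp [idx]
  | some x => exact lt_trans (ZMod.val_lt x) (by norm_num)

theorem pt_idx (p : GolayPt) : pt (idx p) = p := by
  cases p with
  | none => simp [idx, pt]
  | some x =>
    have h : x.val < 23 := ZMod.val_lt x
    simp [idx, pt, h]

theorem idx_pt (i : ℕ) (h : i < 24) : idx (pt i) = i := by
  unfold pt
  split_ifs with h1
  · simp [idx, ZMod.val_natCast, Nat.mod_eq_of_lt h1]
  · simp [idx]; omega

theorem idx_injective : Function.Injective idx := by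
  intro p q h
  rw [← pt_idx p, ← pt_idx q, h]

/-- the set of points of a mask -/
def fsOf (m : ℕ) : Finset GolayPt := Finset.univ.filter (fun p => m.testBit (idx p) = true)

theorem mem_setOf (m : ℕ) (p : GolayPt) : p ∈ fsOf m ↔ m.testBit (idx p) = true := by
  simp [fsOf]

/-- the word of a mask -/
def wordOf (m : ℕ) : GolayPt → ZMod 2 := fun p => if m.testBit (idx p) = true then 1 else 0

theorem support_wordOf (m : ℕ) : support₂ (wordOf m) = fsOf m := by
  ext p
  simp [support₂, wordOf, fsOf]

theorem setOf_and (m n : ℕ) : fsOf (m &&& n) = fsOf m ∩ fsOf n := by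
  ext p; simp [mem_setOf, Nat.testBit_and]

theorem setOf_or (m n : ℕ) : fsOf (m ||| n) = fsOf m ∪ fsOf n := by
  ext p; simp [mem_setOf, Nat.testBit_or]

theorem setOf_zero : fsOf 0 = ∅ := by
  ext p; simp [mem_setOf]

theorem setOf_two_pow (i : ℕ) (h : i < 24) : fsOf (2 ^ i) = {pt i} := by
  ext p
  rw [mem_setOf, Nat.testBit_two_pow, Finset.mem_singleton]
  simp only [decide_eq_true_eq]
  constructor
  · intro h1; rw [h1, pt_idx]
  · intro h1; rw [h1, idx_pt i h]

theorem wordOf_xor (m n : ℕ) : wordOf (m ^^^ n) = wordOf m + wordOf n := by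
  funext p
  simp only [wordOf, Nat.testBit_xor, Pi.add_apply]
  cases m.testBit (idx p) <;> cases n.testBit (idx p) <;> decide

theorem wordOf_zero : wordOf 0 = 0 := by
  funext p; simp [wordOf]

theorem exists_setOf (s : Finset GolayPt) : ∃ m < 2 ^ 24, fsOf m = s := by
  induction s using Finset.induction_on with
  | empty => exact ⟨0, by norm_num, setOf_zero⟩
  | insert a s _ ih =>
    obtain ⟨m, hm, rfl⟩ := ih
    refine ⟨m ||| 2 ^ idx a, Nat.or_lt_two_pow hm (Nat.pow_lt_pow_right (by norm_num) (idx_lt a)), ?_⟩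
    rw [setOf_or, setOf_two_pow _ (idx_lt a), pt_idx, Finset.insert_eq, Finset.union_comm]

theorem setOf_injOn {m n : ℕ} (hm : m < 2 ^ 24) (hn : n < 2 ^ 24) (h : fsOf m = fsOf n) : m = n := by
  apply Nat.eq_of_testBit_eq
  intro i
  by_cases hi : i < 24
  · have h1 := mem_setOf m (pt i)
    have h2 := mem_setOf n (pt i)
    rw [idx_pt i hi] at h1 h2
    rw [h] at h1
    have := h1.symm.trans h2
    cases hm' : m.testBit i <;> cases hn' : n.testBit i <;> simp_all
  · have hi' : 24 ≤ i := not_lt.mp hi
    rw [Nat.testBit_lt_two_pow (lt_of_lt_of_le hm (Nat.pow_le_pow_right (by norm_num) hi')),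
      Nat.testBit_lt_two_pow (lt_of_lt_of_le hn (Nat.pow_le_pow_right (by norm_num) hi'))]

theorem exists_wordOf (w : GolayPt → ZMod 2) : ∃ m < 2 ^ 24, wordOf m = w := by
  obtain ⟨m, hm, h⟩ := exists_setOf (support₂ w)
  refine ⟨m, hm, ?_⟩
  funext p
  have h1 : p ∈ fsOf m ↔ p ∈ support₂ w := by rw [h]
  rw [mem_setOf] at h1
  simp only [support₂, Finset.mem_filter, Finset.mem_univ, true_and] at h1
  unfold wordOf
  by_cases hp : m.testBit (idx p) = true
  · rw [if_pos hp]
    have := h1.mp hp
    generalize w p = a at this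
    revert a; decide
  · rw [if_neg hp]
    have : ¬ (w p ≠ 0) := fun h' => hp (h1.mpr h')
    exact (not_not.mp this).symm

theorem wordOf_injOn {m n : ℕ} (hm : m < 2 ^ 24) (hn : n < 2 ^ 24) (h : wordOf m = wordOf n) : m = n := by
  apply setOf_injOn hm hn
  rw [← support_wordOf, ← support_wordOf, h]

theorem support₂_injective : Function.Injective (support₂ : (GolayPt → ZMod 2) → Finset GolayPt) := by
  intro v w h
  obtain ⟨m, hm, rfl⟩ := exists_wordOf v
  obtain ⟨n, hn, rfl⟩ := exists_wordOf w
  rw [support_wordOf, support_wordOf] at h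
  rw [setOf_injOn hm hn h]

end Cfsg.Agent.Lib.Helper27.Bits
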