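import Mathlib
import Cfsg.Agent.Lib.Helper27.Bits

/-!
Splitting the kernel loops `allB` and `countB` into chunks, so that a long evaluation can be
spread over several declarations.
-/

set_option autoImplicit false

namespace Cfsg.Agent.Lib.Helper27.Chunk

open Cfsg Cfsg.Agent.Lib.Helper27.Bits

/-- count over `[a, a + n)` -/
noncomputable def countR (f : ℕ → Bool) (a n : ℕ) : ℕ := countB n (fun i => f (Nat.add a i))

/-- all of `[a, a + n)` -/
noncomputable def allR (f : ℕ → Bool) (a n : ℕ) : Bool := allB n (fun i => f (Nat.add a i))

theorem countB_split (f : ℕ → Bool) (a n : ℕ) : countB (a + n) f = countB a f + countR f a n := by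
  induction n with
  | zero => rfl
  | succ n ih =>
    have e : countR f a (n + 1)
        = cond (f (a + n)) (Nat.succ (countR f a n)) (countR f a n) := rfl
    rw [← Nat.add_assoc, countB_succ, ih, e]
    cases f (a + n)
    · rfl
    · rfl

theorem countB_step (f : ℕ → Bool) (a n m1 m2 : ℕ) (h1 : countB a f = m1)
    (h2 : Nat.add m1 (countR f a n) = m2) : countB (a + n) f = m2 := by
  rw [countB_split, h1]
  exact h2

theorem allB_step (f : ℕ → Bool) (a n : ℕ) (h1 : allB a f = true) (h2 : allR f a n = true) :
    allB (a + n) f = true := by
  rw [allB_iff] at h1 ⊢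
  unfold allR at h2
  rw [allB_iff] at h2
  intro i hi
  by_cases h : i < a
  · exact h1 i h
  · have := h2 (i - a) (by omega)
    have e : Nat.add a (i - a) = i := by
      show a + (i - a) = i
      omega
    rw [e] at this
    exact this

end Cfsg.Agent.Lib.Helper27.Chunk
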