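import Mathlib
import Cfsg.Prelude.Def_Sporadic_a
import Cfsg.Agent.Lib.Helper27.OrbCert
import Cfsg.Agent.Lib.Helper27.Chunk

/-!
The base vectors of the orbit certificates, as packed vectors.
-/

set_option autoImplicit false
set_option maxRecDepth 100000

namespace Cfsg.Agent.Lib.Helper27.CertBase

open Cfsg Cfsg.Agent.Lib.Helper27.Bits Cfsg.Agent.Lib.Helper27.Pk
open Cfsg.Agent.Lib.Helper27.MinTab Cfsg.Agent.Lib.Helper27.MinEnum Cfsg.Agent.Lib.Helper27.MinFast
open Cfsg.Agent.Lib.Helper27.MinAll Cfsg.Agent.Lib.Helper27.LDot Cfsg.Agent.Lib.Helper27.LMat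
open Cfsg.Agent.Lib.Helper27.Spread Cfsg.Agent.Lib.Helper27.Co0Act Cfsg.Agent.Lib.Helper27.LApp
open Cfsg.Agent.Lib.Helper27.OrbCert Cfsg.Agent.Lib.Helper27.Chunk

/-- `(1, 5, 1, ..., 1)`, of sum of squares 48 -/
def U0 : ℕ := 0x9000900090009000900090009000900090009000900090009000900090009000900090009000900090009000d0009

/-- `(4, 4, 0, ..., 0)` -/
def V0 : ℕ := 0x8000800080008000800080008000800080008000800080008000800080008000800080008000800080008000c000c

/-- `(-3, 1, ..., 1)` -/
def W0 : ℕ := 0x900090009000900090009000900090009000900090009000900090009000900090009000900090009000900090005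

/-- `(4, -4, 0, ..., 0)` -/
def X1 : ℕ := 0x80008000800080008000800080008000800080008000800080008000800080008000800080008000800080004000c

/-- a vector of the set of 100 -/
def Y0 : ℕ := 0x8000800080008000800080008000800080008000800080008000800080008000800080008000800080008000c000c

/-- a vector of the set of 275 -/
def XA : ℕ := 0x800080008000800080008000800080008000800080008000800080008000800080008000800080008000c000c0008

/-- a vector of the set of 2025 -/
def XB : ℕ := 0x8000800080008000800080008000800080008000800080008000800080008000800080008000800080008000c0004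

theorem V0_eq : V0 = mvB 4 := by decide +kernel

theorem W0_eq : W0 = mvB 99456 := by decide +kernel

theorem X1_eq : X1 = mvB 6 := by decide +kernel

theorem Y0_eq : Y0 = mvB 4 := by decide +kernel

theorem XA_eq : XA = mvB 104 := by decide +kernel

theorem XB_eq : XB = mvB 5 := by decide +kernel

theorem base_valid : [U0, V0, W0, X1, Y0, XA, XB].all validB = true := by decide +kernel

end Cfsg.Agent.Lib.Helper27.CertBase
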