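import Mathlib
import Cfsg.Prelude.Def_Sporadic_a
import Cfsg.Agent.Lib.Helper27.CoGlue
import Cfsg.Agent.Lib.Helper27.CertBase
import Cfsg.Agent.Lib.Helper27.CertCo3
import Cfsg.Agent.Lib.Helper27.CertHS
import Cfsg.Agent.Lib.Helper27.CertMcL
import Cfsg.Agent.S0400
import Cfsg.Agent.S0401
import Cfsg.Agent.S1575
import Cfsg.Agent.S1579

/-!
The standard configurations of the orbit certificates as elements of the lattice, and the
reduction of arbitrary configurations to the standard ones.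
-/

set_option autoImplicit false

namespace Cfsg.Agent.Lib.Helper27.CoStd

open Cfsg Cfsg.Agent.Lib.Helper27.Bits Cfsg.Agent.Lib.Helper27.Pk
open Cfsg.Agent.Lib.Helper27.MinTab Cfsg.Agent.Lib.Helper27.MinEnum Cfsg.Agent.Lib.Helper27.MinFast
open Cfsg.Agent.Lib.Helper27.MinAll Cfsg.Agent.Lib.Helper27.LDot Cfsg.Agent.Lib.Helper27.LMat
open Cfsg.Agent.Lib.Helper27.Spread Cfsg.Agent.Lib.Helper27.Co0Act Cfsg.Agent.Lib.Helper27.LApp
open Cfsg.Agent.Lib.Helper27.OrbCert Cfsg.Agent.Lib.Helper27.CoGlue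
open Cfsg.Agent.Lib.Helper27.CertBase

theorem valid_U0 : validB U0 = true := by decide +kernel

theorem valid_V0 : validB V0 = true := by decide +kernel

theorem valid_W0 : validB W0 = true := by decide +kernel

theorem valid_X1 : validB X1 = true := by decide +kernel

theorem valid_Y0 : validB Y0 = true := by decide +kernel

theorem valid_XA : validB XA = true := by decide +kernel

theorem valid_XB : validB XB = true := by decide +kernel

theorem U0_mem : vecB U0 ∈ leechLattice := mem_vecB (by decide +kernel)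

theorem min_vec {X k : ℕ} (h : X = mvB k) (hk : k < KTOT) (hv : validK k = true) :
    vecB X ∈ leechLattice ∧ sqNorm (vecB X) = 32 := by
  rw [vecB_mv h hk hv]
  exact mv_sound hk hv

/-- the standard vector of sum of squares 48 -/
def u0 : leechLattice := ⟨vecB U0, U0_mem⟩

/-- the standard vector `(4, 4, 0, ..., 0)` -/
def v0 : leechLattice := ⟨vecB V0, (min_vec V0_eq (by decide) (by decide)).1⟩

/-- the standard vector `(-3, 1, ..., 1)` -/
def w0 : leechLattice := ⟨vecB W0, (min_vec W0_eq (by decide) (by decide)).1⟩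

/-- the standard vector `(4, -4, 0, ..., 0)` -/
def x1 : leechLattice := ⟨vecB X1, (min_vec X1_eq (by decide) (by decide)).1⟩

/-- the standard vector of the set of 100 -/
def y0 : leechLattice := ⟨vecB Y0, (min_vec Y0_eq (by decide) (by decide)).1⟩

/-- the standard vector of the set of 275 -/
def xA : leechLattice := ⟨vecB XA, (min_vec XA_eq (by decide) (by decide)).1⟩

/-- the standard vector of the set of 2025 -/
def xB : leechLattice := ⟨vecB XB, (min_vec XB_eq (by decide) (by decide)).1⟩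

theorem u0_norm : sqNorm (u0 : GolayPt → ℤ) = 48 := by
  show sqNorm (vecB U0) = 48
  rw [sqNorm_eq_dot, dot_vecB 48 0 valid_U0 valid_U0 (by decide +kernel)]
  norm_num

theorem v0_norm : sqNorm (v0 : GolayPt → ℤ) = 32 := (min_vec V0_eq (by decide) (by decide)).2

theorem w0_norm : sqNorm (w0 : GolayPt → ℤ) = 32 := (min_vec W0_eq (by decide) (by decide)).2

theorem dot_u0_v0 : dotInt (u0 : GolayPt → ℤ) (v0 : GolayPt → ℤ) = 24 := by
  show dotInt (vecB U0) (vecB V0) = 24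
  rw [dot_vecB 24 0 valid_U0 valid_V0 (by decide +kernel)]
  norm_num

theorem dot_v0_w0 : dotInt (v0 : GolayPt → ℤ) (w0 : GolayPt → ℤ) = -8 := by
  show dotInt (vecB V0) (vecB W0) = -8
  rw [dot_vecB 0 8 valid_V0 valid_W0 (by decide +kernel)]
  norm_num

theorem u0_sub_v0 : sqNorm ((u0 : GolayPt → ℤ) - (v0 : GolayPt → ℤ)) = 32 := by
  rw [sqNorm_sub, u0_norm, v0_norm, dot_u0_v0]
  norm_num

theorem x1_om : (x1 : GolayPt → ℤ) ∈ Om CertCo3.cA := by
  show vecB X1 ∈ Om CertCo3.cA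
  rw [vecB_mv X1_eq (by decide) (by decide)]
  exact mem_om CertCo3.hcA (by decide) (by decide +kernel)

theorem y0_om : (y0 : GolayPt → ℤ) ∈ Om CertHS.cH := by
  show vecB Y0 ∈ Om CertHS.cH
  rw [vecB_mv Y0_eq (by decide) (by decide)]
  exact mem_om CertHS.hcH (by decide) (by decide +kernel)

theorem xA_om : (xA : GolayPt → ℤ) ∈ Om CertMcL.cP := by
  show vecB XA ∈ Om CertMcL.cP
  rw [vecB_mv XA_eq (by decide) (by decide)]
  exact mem_om CertMcL.hcP (by decide) (by decide +kernel)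

theorem xB_om : (xB : GolayPt → ℤ) ∈ Om CertMcL.cQ := by
  show vecB XB ∈ Om CertMcL.cQ
  rw [vecB_mv XB_eq (by decide) (by decide)]
  exact mem_om CertMcL.hcQ (by decide) (by decide +kernel)

/-! ### Sum of squares 48 -/

theorem std48 (u : leechLattice) (hu : sqNorm (u : GolayPt → ℤ) = 48) : ∃ g0 : Co0, g0 • u = u0 :=
  Cfsg.Agent.S0401.result u u0 hu u0_norm

theorem mem_A (g0 : Co0) {u : leechLattice} (h1 : g0 • u = u0) (x : leechLattice) :
    (sqNorm (x : GolayPt → ℤ) = 32 ∧ dotInt (u : GolayPt → ℤ) (x : GolayPt → ℤ) = -16) ↔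
      ((g0 • x : leechLattice) : GolayPt → ℤ) ∈ Om CertCo3.cA := by
  constructor
  · rintro ⟨hn, hd⟩
    apply mem_om_smul g0 _ x hn
    intro c hc
    simp only [CertCo3.cA, List.mem_singleton] at hc
    subst hc
    refine ⟨u, by rw [h1]; rfl, ?_⟩
    rw [hd]
    norm_num
  · intro h
    refine ⟨om_smul_norm g0 h, ?_⟩
    have := om_smul_dot g0 h (c := (U0, 0, 16)) (by simp [CertCo3.cA]) (a := u) (by rw [h1]; rfl)
    rw [this]
    norm_num

/-! ### A vector of sum of squares 48 as a sum of two of sum of squares 32 -/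

theorem std_uv (u v : leechLattice) (hu : sqNorm (u : GolayPt → ℤ) = 48)
    (hv : sqNorm (v : GolayPt → ℤ) = 32 ∧ sqNorm ((u : GolayPt → ℤ) - (v : GolayPt → ℤ)) = 32) :
    ∃ g0 : Co0, g0 • u = u0 ∧ g0 • v = v0 := by
  obtain ⟨g1, h1⟩ := std48 u hu
  have hv' : sqNorm ((g1 • v : leechLattice) : GolayPt → ℤ) = 32 ∧
      sqNorm ((u0 : GolayPt → ℤ) - ((g1 • v : leechLattice) : GolayPt → ℤ)) = 32 := by
    refine ⟨by rw [smul_norm]; exact hv.1, ?_⟩
    rw [← h1]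
    have e : ((g1 • u : leechLattice) : GolayPt → ℤ) - ((g1 • v : leechLattice) : GolayPt → ℤ)
        = ((g1 • (u - v) : leechLattice) : GolayPt → ℤ) := by
      rw [smul_sub_l]
      rfl
    rw [e, smul_norm]
    exact hv.2
  obtain ⟨g2, h2, h3⟩ := Cfsg.Agent.S1579.result u0 (g1 • v) v0 u0_norm hv' ⟨v0_norm, u0_sub_v0⟩
  exact ⟨g2 * g1, by rw [mul_smul, h1, h2], by rw [mul_smul, h3]⟩

theorem mem_P (g0 : Co0) {u v : leechLattice} (hu : sqNorm (u : GolayPt → ℤ) = 48)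
    (h1 : g0 • u = u0) (h2 : g0 • v = v0) (x : leechLattice) :
    (sqNorm (x : GolayPt → ℤ) = 32 ∧ sqNorm ((u : GolayPt → ℤ) - (x : GolayPt → ℤ)) = 32 ∧
        dotInt (v : GolayPt → ℤ) (x : GolayPt → ℤ) = 16) ↔
      ((g0 • x : leechLattice) : GolayPt → ℤ) ∈ Om CertMcL.cP := by
  constructor
  · rintro ⟨hn, hs, hd⟩
    rw [sqNorm_sub, hu, hn] at hs
    apply mem_om_smul g0 _ x hn
    intro c hc
    simp only [CertMcL.cP, List.mem_cons, List.not_mem_nil, or_false] at hc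
    rcases hc with rfl | rfl
    · refine ⟨u, by rw [h1]; rfl, ?_⟩
      push_cast
      linarith
    · refine ⟨v, by rw [h2]; rfl, ?_⟩
      rw [hd]
      norm_num
  · intro h
    have hn := om_smul_norm g0 h
    have d1 := om_smul_dot g0 h (c := (U0, 24, 0)) (by simp [CertMcL.cP]) (a := u) (by rw [h1]; rfl)
    have d2 := om_smul_dot g0 h (c := (V0, 16, 0)) (by simp [CertMcL.cP]) (a := v) (by rw [h2]; rfl)
    refine ⟨hn, ?_, ?_⟩
    · rw [sqNorm_sub, hu, hn, d1]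
      norm_num
    · rw [d2]
      norm_num

theorem std_uvx (u v x : leechLattice) (hu : sqNorm (u : GolayPt → ℤ) = 48)
    (hv : sqNorm (v : GolayPt → ℤ) = 32 ∧ sqNorm ((u : GolayPt → ℤ) - (v : GolayPt → ℤ)) = 32)
    (hx : sqNorm (x : GolayPt → ℤ) = 32 ∧ sqNorm ((u : GolayPt → ℤ) - (x : GolayPt → ℤ)) = 32 ∧
        dotInt (v : GolayPt → ℤ) (x : GolayPt → ℤ) = 16) :
    ∃ g0 : Co0, g0 • u = u0 ∧ g0 • v = v0 ∧ g0 • x = xA := by
  obtain ⟨g1, h1, h2⟩ := std_uv u v hu hv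
  obtain ⟨g2, h3, h4⟩ := trans_std CertMcL.transP ((mem_P g1 hu h1 h2 x).mp hx) xA_om
  refine ⟨g2 * g1, ?_, ?_, ?_⟩
  · rw [mul_smul, h1]
    exact h4 u0 ⟨U0, by simp, rfl⟩
  · rw [mul_smul, h2]
    exact h4 v0 ⟨V0, by simp, rfl⟩
  · rw [mul_smul]
    exact h3

/-! ### Two vectors of sum of squares 48 with inner product `-32` -/

theorem std_vw (v w : leechLattice) (hv : sqNorm (v : GolayPt → ℤ) = 48)
    (hw : sqNorm (w : GolayPt → ℤ) = 48)
    (hvw : dotInt (v : GolayPt → ℤ) (w : GolayPt → ℤ) = -32) :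
    ∃ g0 : Co0, g0 • v = u0 ∧ g0 • (-(v + w)) = x1 := by
  obtain ⟨g1, h1⟩ := std48 v hv
  have hx : ((g1 • (-(v + w)) : leechLattice) : GolayPt → ℤ) ∈ Om CertCo3.cA := by
    apply (mem_A g1 h1 (-(v + w))).mp
    constructor
    · show sqNorm (-((v : GolayPt → ℤ) + (w : GolayPt → ℤ))) = 32
      rw [sqNorm_neg, Cfsg.Agent.Lib.Helper92.LeechCore.sqNorm_add, hv, hw, hvw]
      norm_num
    · show dotInt (v : GolayPt → ℤ) (-((v : GolayPt → ℤ) + (w : GolayPt → ℤ))) = -16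
      rw [dot_neg_right, dot_add_right, ← sqNorm_eq_dot, hv, hvw]
      norm_num
  obtain ⟨g2, h3, h4⟩ := trans_std CertCo3.transA hx x1_om
  refine ⟨g2 * g1, ?_, ?_⟩
  · rw [mul_smul, h1]
    exact h4 u0 ⟨U0, by simp, rfl⟩
  · rw [mul_smul]
    exact h3

theorem mem_H (g0 : Co0) {v w : leechLattice} (h1 : g0 • v = u0) (h2 : g0 • (-(v + w)) = x1)
    (x : leechLattice) :
    (sqNorm (x : GolayPt → ℤ) = 32 ∧ dotInt (v : GolayPt → ℤ) (x : GolayPt → ℤ) = 24 ∧
        dotInt (w : GolayPt → ℤ) (x : GolayPt → ℤ) = -24) ↔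
      ((g0 • x : leechLattice) : GolayPt → ℤ) ∈ Om CertHS.cH := by
  have e : dotInt ((-(v + w) : leechLattice) : GolayPt → ℤ) (x : GolayPt → ℤ)
      = -(dotInt (v : GolayPt → ℤ) (x : GolayPt → ℤ) + dotInt (w : GolayPt → ℤ) (x : GolayPt → ℤ)) := by
    show dotInt (-((v : GolayPt → ℤ) + (w : GolayPt → ℤ))) (x : GolayPt → ℤ) = _
    rw [dot_neg_left, dot_add_left]
  constructor
  · rintro ⟨hn, hd1, hd2⟩
    apply mem_om_smul g0 _ x hn
    intro c hc
    simp only [CertHS.cH, List.mem_cons, List.not_mem_nil, or_false] at hc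
    rcases hc with rfl | rfl
    · refine ⟨v, by rw [h1]; rfl, ?_⟩
      rw [hd1]
      norm_num
    · refine ⟨-(v + w), by rw [h2]; rfl, ?_⟩
      rw [e, hd1, hd2]
      norm_num
  · intro h
    have hn := om_smul_norm g0 h
    have d1 := om_smul_dot g0 h (c := (U0, 24, 0)) (by simp [CertHS.cH]) (a := v) (by rw [h1]; rfl)
    have d2 := om_smul_dot g0 h (c := (X1, 0, 0)) (by simp [CertHS.cH]) (a := -(v + w))
      (by rw [h2]; rfl)
    rw [e] at d2
    refine ⟨hn, ?_, ?_⟩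
    · rw [d1]
      norm_num
    · push_cast at d1 d2
      linarith

theorem std_vwx (v w x : leechLattice) (hv : sqNorm (v : GolayPt → ℤ) = 48)
    (hw : sqNorm (w : GolayPt → ℤ) = 48)
    (hvw : dotInt (v : GolayPt → ℤ) (w : GolayPt → ℤ) = -32)
    (hx : sqNorm (x : GolayPt → ℤ) = 32 ∧ dotInt (v : GolayPt → ℤ) (x : GolayPt → ℤ) = 24 ∧
        dotInt (w : GolayPt → ℤ) (x : GolayPt → ℤ) = -24) :
    ∃ g0 : Co0, g0 • v = u0 ∧ g0 • (-(v + w)) = x1 ∧ g0 • x = y0 := by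
  obtain ⟨g1, h1, h2⟩ := std_vw v w hv hw hvw
  obtain ⟨g2, h3, h4⟩ := trans_std CertHS.transH ((mem_H g1 h1 h2 x).mp hx) y0_om
  refine ⟨g2 * g1, ?_, ?_, ?_⟩
  · rw [mul_smul, h1]
    exact h4 u0 ⟨U0, by simp, rfl⟩
  · rw [mul_smul, h2]
    exact h4 x1 ⟨X1, by simp, rfl⟩
  · rw [mul_smul]
    exact h3

/-! ### Two vectors of sum of squares 32 with inner product `-8` -/

theorem std_min (v w : leechLattice) (hv : sqNorm (v : GolayPt → ℤ) = 32)
    (hw : sqNorm (w : GolayPt → ℤ) = 32)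
    (hvw : dotInt (v : GolayPt → ℤ) (w : GolayPt → ℤ) = -8) :
    ∃ g0 : Co0, g0 • v = v0 ∧ g0 • w = w0 := by
  obtain ⟨g1, h1⟩ := Cfsg.Agent.S0400.result v v0 hv v0_norm
  have hd : dotInt (v0 : GolayPt → ℤ) ((g1 • w : leechLattice) : GolayPt → ℤ) = -8 := by
    rw [← h1, smul_dot]
    exact hvw
  obtain ⟨g2, h2, h3⟩ := Cfsg.Agent.S1575.result v0 (g1 • w) w0 v0_norm
    (by rw [smul_norm]; exact hw) w0_norm hd dot_v0_w0
  exact ⟨g2 * g1, by rw [mul_smul, h1, h2], by rw [mul_smul, h3]⟩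

theorem mem_Q (g0 : Co0) {v w : leechLattice} (h1 : g0 • v = v0) (h2 : g0 • w = w0)
    (x : leechLattice) :
    (sqNorm (x : GolayPt → ℤ) = 32 ∧ dotInt (v : GolayPt → ℤ) (x : GolayPt → ℤ) = 0 ∧
        dotInt (w : GolayPt → ℤ) (x : GolayPt → ℤ) = 16) ↔
      ((g0 • x : leechLattice) : GolayPt → ℤ) ∈ Om CertMcL.cQ := by
  constructor
  · rintro ⟨hn, hd1, hd2⟩
    apply mem_om_smul g0 _ x hn
    intro c hc
    simp only [CertMcL.cQ, List.mem_cons, List.not_mem_nil, or_false] at hc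
    rcases hc with rfl | rfl
    · refine ⟨v, by rw [h1]; rfl, ?_⟩
      rw [hd1]
      norm_num
    · refine ⟨w, by rw [h2]; rfl, ?_⟩
      rw [hd2]
      norm_num
  · intro h
    have hn := om_smul_norm g0 h
    have d1 := om_smul_dot g0 h (c := (V0, 0, 0)) (by simp [CertMcL.cQ]) (a := v) (by rw [h1]; rfl)
    have d2 := om_smul_dot g0 h (c := (W0, 16, 0)) (by simp [CertMcL.cQ]) (a := w) (by rw [h2]; rfl)
    refine ⟨hn, ?_, ?_⟩
    · rw [d1]
      norm_num
    · rw [d2]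
      norm_num

theorem std_min_x (v w x : leechLattice) (hv : sqNorm (v : GolayPt → ℤ) = 32)
    (hw : sqNorm (w : GolayPt → ℤ) = 32)
    (hvw : dotInt (v : GolayPt → ℤ) (w : GolayPt → ℤ) = -8)
    (hx : sqNorm (x : GolayPt → ℤ) = 32 ∧ dotInt (v : GolayPt → ℤ) (x : GolayPt → ℤ) = 0 ∧
        dotInt (w : GolayPt → ℤ) (x : GolayPt → ℤ) = 16) :
    ∃ g0 : Co0, g0 • v = v0 ∧ g0 • w = w0 ∧ g0 • x = xB := by
  obtain ⟨g1, h1, h2⟩ := std_min v w hv hw hvw
  obtain ⟨g2, h3, h4⟩ := trans_std CertMcL.transQ ((mem_Q g1 h1 h2 x).mp hx) xB_om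
  refine ⟨g2 * g1, ?_, ?_, ?_⟩
  · rw [mul_smul, h1]
    exact h4 v0 ⟨V0, by simp, rfl⟩
  · rw [mul_smul, h2]
    exact h4 w0 ⟨W0, by simp, rfl⟩
  · rw [mul_smul]
    exact h3

theorem std_ux (u x : leechLattice) (hu : sqNorm (u : GolayPt → ℤ) = 48)
    (hx : sqNorm (x : GolayPt → ℤ) = 32 ∧ dotInt (u : GolayPt → ℤ) (x : GolayPt → ℤ) = -16) :
    ∃ g0 : Co0, g0 • u = u0 ∧ g0 • x = x1 := by
  obtain ⟨g1, h1⟩ := std48 u hu
  obtain ⟨g2, h3, h4⟩ := trans_std CertCo3.transA ((mem_A g1 h1 x).mp hx) x1_om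
  refine ⟨g2 * g1, ?_, ?_⟩
  · rw [mul_smul, h1]
    exact h4 u0 ⟨U0, by simp, rfl⟩
  · rw [mul_smul]
    exact h3

theorem std_vw_w (g0 : Co0) {v w : leechLattice} (h1 : g0 • v = u0) (h2 : g0 • (-(v + w)) = x1) :
    g0 • w = -x1 - u0 := by
  have e : g0 • w = g0 • (-(-(v + w)) - v) := by
    congr 1
    abel
  rw [e, smul_sub_l, smul_neg_l, h2, h1]

theorem fix_of_sum (g : Co0) {v w : leechLattice} (h1 : g • v = v)
    (h2 : g • (-(v + w)) = -(v + w)) : g • w = w := by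
  rw [smul_neg_l, smul_add_l, h1] at h2
  exact add_left_cancel (neg_injective h2)

end Cfsg.Agent.Lib.Helper27.CoStd
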