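import Mathlib
import Cfsg.Prelude.Def_Sporadic_a
import Cfsg.Agent.Lib.Helper27.OrbCert
import Cfsg.Agent.Lib.Helper27.Chunk
import Cfsg.Agent.Lib.Helper27.CertBase
import Cfsg.Agent.Lib.Helper27.CertMcL

/-!
Cover certificate: a vector of the set of 2025 is `XB` or has inner product 0, 16 or 8 with it.
-/

set_option autoImplicit false
set_option maxRecDepth 100000

namespace Cfsg.Agent.Lib.Helper27.CertCovQ

open Cfsg Cfsg.Agent.Lib.Helper27.Bits Cfsg.Agent.Lib.Helper27.Pk
open Cfsg.Agent.Lib.Helper27.MinTab Cfsg.Agent.Lib.Helper27.MinEnum Cfsg.Agent.Lib.Helper27.MinFast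
open Cfsg.Agent.Lib.Helper27.MinAll Cfsg.Agent.Lib.Helper27.LDot Cfsg.Agent.Lib.Helper27.LMat
open Cfsg.Agent.Lib.Helper27.Spread Cfsg.Agent.Lib.Helper27.Co0Act Cfsg.Agent.Lib.Helper27.LApp
open Cfsg.Agent.Lib.Helper27.OrbCert Cfsg.Agent.Lib.Helper27.Chunk
open Cfsg.Agent.Lib.Helper27.CertBase

/-- the root, or one of the listed inner products -/
noncomputable def qQ (k : ℕ) : Bool := Nat.beq k 5 || condOK XB 0 0 (mvB k) || condOK XB 16 0 (mvB k) || condOK XB 8 0 (mvB k)

/-- the test on the rows -/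
noncomputable def qrQ (i : ℕ) : Bool := qQ (rCode (CertMcL.tQT i))

theorem covQ_1 : allB 1024 qrQ = true := by decide +kernel

theorem covQ_2 : allB 2025 qrQ = true :=
  allB_step qrQ 1024 1001 covQ_1 (by decide +kernel)

theorem coverQ : allB 2025 (fun i => qQ (rCode (CertMcL.tQT i))) = true := covQ_2


end Cfsg.Agent.Lib.Helper27.CertCovQ
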