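import Mathlib
import Cfsg.Prelude.Def_Sporadic_a
import Cfsg.Agent.Lib.Helper27.CoGlue

/-!
Faithfulness certificates: an automorphism of the lattice fixing 24 vectors whose matrix has an
inverse over the rationals (given as an integer matrix and a nonzero multiple of the identity) is
the identity.
-/

set_option autoImplicit false

namespace Cfsg.Agent.Lib.Helper27.Faith

open Cfsg Cfsg.Agent.Lib.Helper27.Bits Cfsg.Agent.Lib.Helper27.Pk
open Cfsg.Agent.Lib.Helper27.MinTab Cfsg.Agent.Lib.Helper27.MinEnum Cfsg.Agent.Lib.Helper27.MinFast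
open Cfsg.Agent.Lib.Helper27.MinAll Cfsg.Agent.Lib.Helper27.LDot Cfsg.Agent.Lib.Helper27.LMat
open Cfsg.Agent.Lib.Helper27.Spread Cfsg.Agent.Lib.Helper27.Co0Act Cfsg.Agent.Lib.Helper27.LApp
open Cfsg.Agent.Lib.Helper27.OrbCert Cfsg.Agent.Lib.Helper27.CoGlue

/-- lane width of the packed rows of the inverse matrices -/
def WW : ℕ := 0x10000000000000000000000000000000000000000000000000000000000000000

/-- lane of a packed row -/
def lnW (X i : ℕ) : ℕ := Nat.mod (Nat.div X (Nat.pow WW i)) WW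

/-- a sum by recursion -/
noncomputable def sumN (n : ℕ) (f : ℕ → ℕ) : ℕ := Nat.rec 0 (fun i acc => Nat.add acc (f i)) n

theorem sumN_eq (n : ℕ) (f : ℕ → ℕ) : sumN n f = ∑ i ∈ Finset.range n, f i := sumRec_eq f n

/-- the test that `(Cp - Cm) * (R - 8) = N` as matrices, `R` the matrix of lanes of the packed
vectors `R i` -/
noncomputable def spanOK (R Cp Cm : ℕ → ℕ) (N : ℕ) : Bool :=
  allB 24 (fun j => allB 24 (fun k =>
    Nat.beq (Nat.add (sumN 24 (fun i => Nat.mul (lnW (Cp j) i) (lanesB (R i) k)))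
        (Nat.mul 8 (sumN 24 (fun i => lnW (Cm j) i))))
      (Nat.add (Nat.add (sumN 24 (fun i => Nat.mul (lnW (Cm j) i) (lanesB (R i) k)))
        (Nat.mul 8 (sumN 24 (fun i => lnW (Cp j) i)))) (cond (Nat.beq j k) N 0))))

theorem cond_beq (j k N : ℕ) : cond (Nat.beq j k) N 0 = if j = k then N else 0 := by
  by_cases h : j = k
  · subst h
    rw [Nat.beq_refl, if_pos rfl]
    rfl
  · rw [if_neg h]
    cases hb : Nat.beq j k with
    | false => rfl
    | true => exact absurd (Nat.eq_of_beq_eq_true hb) h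

theorem dot_vecB_any (b : ℕ) (z : GolayPt → ℤ) :
    dotInt (vecB b) z = ∑ k ∈ Finset.range 24, ((lanesB b k : ℤ) - 8) * z (pt k) := by
  rw [← sum_idx (fun k => ((lanesB b k : ℤ) - 8) * z (pt k))]
  unfold dotInt vecB vecL
  apply Finset.sum_congr rfl
  intro p _
  rw [pt_idx]

/-- A vector orthogonal to the 24 vectors of a certificate is zero. -/
theorem span_zero (R Cp Cm : ℕ → ℕ) (N : ℕ) (hN : N ≠ 0) (h : spanOK R Cp Cm N = true)
    (z : GolayPt → ℤ) (hz : ∀ i < 24, dotInt (vecB (R i)) z = 0) : z = 0 := by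
  unfold spanOK at h
  have h1 : ∀ j < 24, ∀ k < 24,
      (∑ i ∈ Finset.range 24, lnW (Cp j) i * lanesB (R i) k)
        + 8 * ∑ i ∈ Finset.range 24, lnW (Cm j) i
      = (∑ i ∈ Finset.range 24, lnW (Cm j) i * lanesB (R i) k)
        + 8 * (∑ i ∈ Finset.range 24, lnW (Cp j) i) + (if j = k then N else 0) := by
    intro j hj k hk
    have := Nat.eq_of_beq_eq_true ((allB_iff _ _).mp ((allB_iff _ _).mp h j hj) k hk)
    rw [← sumN_eq, ← sumN_eq, ← sumN_eq, ← sumN_eq, ← cond_beq]
    exact this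
  have h2 : ∀ j < 24, ∀ k < 24,
      ∑ i ∈ Finset.range 24, ((lnW (Cp j) i : ℤ) - lnW (Cm j) i) * ((lanesB (R i) k : ℤ) - 8)
        = if j = k then (N : ℤ) else 0 := by
    intro j hj k hk
    have e := congrArg (Nat.cast : ℕ → ℤ) (h1 j hj k hk)
    push_cast at e
    have e2 : ∀ i ∈ Finset.range 24,
        ((lnW (Cp j) i : ℤ) - lnW (Cm j) i) * ((lanesB (R i) k : ℤ) - 8)
        = (lnW (Cp j) i : ℤ) * lanesB (R i) k - 8 * lnW (Cp j) i
          - (lnW (Cm j) i : ℤ) * lanesB (R i) k + 8 * lnW (Cm j) i := by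
      intro i _
      ring
    rw [Finset.sum_congr rfl e2, Finset.sum_add_distrib, Finset.sum_sub_distrib,
      Finset.sum_sub_distrib, ← Finset.mul_sum, ← Finset.mul_sum]
    linarith
  have h3 : ∀ i < 24, ∑ k ∈ Finset.range 24, ((lanesB (R i) k : ℤ) - 8) * z (pt k) = 0 := by
    intro i hi
    rw [← dot_vecB_any]
    exact hz i hi
  have h4 : ∀ j < 24, z (pt j) = 0 := by
    intro j hj
    have e : (N : ℤ) * z (pt j) = ∑ k ∈ Finset.range 24,
        (∑ i ∈ Finset.range 24, ((lnW (Cp j) i : ℤ) - lnW (Cm j) i) * ((lanesB (R i) k : ℤ) - 8))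
          * z (pt k) := by
      have e3 : ∀ k ∈ Finset.range 24,
          (∑ i ∈ Finset.range 24, ((lnW (Cp j) i : ℤ) - lnW (Cm j) i) * ((lanesB (R i) k : ℤ) - 8))
            * z (pt k) = if j = k then (N : ℤ) * z (pt k) else 0 := by
        intro k hk
        rw [h2 j hj k (Finset.mem_range.mp hk)]
        split_ifs <;> simp
      rw [Finset.sum_congr rfl e3, Finset.sum_ite_eq, if_pos (Finset.mem_range.mpr hj)]
    have e4 : ∑ k ∈ Finset.range 24,
        (∑ i ∈ Finset.range 24, ((lnW (Cp j) i : ℤ) - lnW (Cm j) i) * ((lanesB (R i) k : ℤ) - 8))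
          * z (pt k) = 0 := by
      simp_rw [Finset.sum_mul]
      rw [Finset.sum_comm]
      apply Finset.sum_eq_zero
      intro i hi
      have e5 : ∀ k ∈ Finset.range 24,
          ((lnW (Cp j) i : ℤ) - lnW (Cm j) i) * ((lanesB (R i) k : ℤ) - 8) * z (pt k)
          = ((lnW (Cp j) i : ℤ) - lnW (Cm j) i) * (((lanesB (R i) k : ℤ) - 8) * z (pt k)) := by
        intro k _
        ring
      rw [Finset.sum_congr rfl e5, ← Finset.mul_sum, h3 i (Finset.mem_range.mp hi), mul_zero]
    rw [e4] at e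
    rcases mul_eq_zero.mp e with h5 | h5
    · exact absurd (by exact_mod_cast h5) hN
    · exact h5
  funext p
  rw [← pt_idx p]
  exact h4 _ (idx_lt p)

/-- An automorphism fixing 24 vectors of a certificate is the identity. -/
theorem eq_one_of_fix (R : ℕ → ℕ)
    (hspan : ∀ z : GolayPt → ℤ, (∀ i < 24, dotInt (vecB (R i)) z = 0) → z = 0) (g : Co0)
    (hfix : ∀ i < 24, ∃ b : leechLattice, (b : GolayPt → ℤ) = vecB (R i) ∧ g • b = b) : g = 1 := by
  have key : ∀ x : leechLattice, g • x = x := by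
    intro x
    have hz : ((g • x : leechLattice) : GolayPt → ℤ) - (x : GolayPt → ℤ) = 0 := by
      apply hspan
      intro i hi
      obtain ⟨b, hb, hgb⟩ := hfix i hi
      rw [dot_sub_right, ← hb]
      have e := smul_dot g b x
      rw [hgb] at e
      rw [e, sub_self]
    exact Subtype.ext (sub_eq_zero.mp hz)
  apply Subtype.ext
  apply Equiv.ext
  intro x
  exact key x

/-- The vectors of a certificate are fixed: the first `nf` by hypothesis, the others as vectors
of a set that is fixed pointwise. -/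
theorem fix_rows {conds : List (ℕ × ℕ × ℕ)} (hc : validConds conds = true) (R K : ℕ → ℕ)
    (nf : ℕ)
    (hrows : allB 24 (fun i => Nat.blt i nf ||
      (Nat.beq (R i) (mvB (K i)) && (Nat.blt (K i) KTOT && inOm conds (K i)))) = true)
    (g : Co0) (hF : ∀ i < nf, ∃ b : leechLattice, (b : GolayPt → ℤ) = vecB (R i) ∧ g • b = b)
    (hS : ∀ x : leechLattice, (x : GolayPt → ℤ) ∈ Om conds → g • x = x) :
    ∀ i < 24, ∃ b : leechLattice, (b : GolayPt → ℤ) = vecB (R i) ∧ g • b = b := by
  intro i hi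
  have h := (allB_iff _ _).mp hrows i hi
  rw [Bool.or_eq_true] at h
  rcases h with h | h
  · exact hF i (Nat.blt_eq.mp h)
  · rw [Bool.and_eq_true, Bool.and_eq_true] at h
    obtain ⟨h1, h2, h3⟩ := h
    have hk : K i < KTOT := Nat.blt_eq.mp h2
    have hm := mem_om hc hk h3
    have e : vecB (R i) = vecL (laneRef (K i)) :=
      vecB_mv (Nat.eq_of_beq_eq_true h1) hk (inOm_valid h3).1
    rw [← e] at hm
    exact ⟨⟨vecB (R i), hm.1⟩, rfl, hS _ hm⟩

end Cfsg.Agent.Lib.Helper27.Faith
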