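import Mathlib

/-!
A simplicity criterion for a transitive faithful permutation group with simple point stabiliser,
in terms of the sizes of the orbits of the stabiliser, and counting by orbits and stabilisers.
-/

set_option autoImplicit false

namespace Cfsg.Agent.Lib.Helper27.SimpleCrit

open MulAction

/-- The number of solutions of `g ^ p = 1` in a finite group of order divisible by the prime `p`
is divisible by `p`. -/
theorem prime_dvd_card_pow_eq_one (G : Type*) [Group G] [Finite G] (p : ℕ) [hp : Fact p.Prime]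
    (hdvd : p ∣ Nat.card G) : p ∣ Nat.card {g : G // g ^ p = 1} := by
  classical
  have := Fintype.ofFinite G
  rw [Nat.card_eq_fintype_card] at hdvd
  have hp' : p - 1 ≠ 0 := mt tsub_eq_zero_iff_le.mp (not_le_of_gt hp.out.one_lt)
  have Scard : p ∣ Fintype.card (Equiv.Perm.vectorsProdEqOne G p) := by
    rw [Equiv.Perm.VectorsProdEqOne.card]
    exact hdvd.trans (dvd_pow (dvd_refl _) hp')
  let f : ℕ → Equiv.Perm.vectorsProdEqOne G p → Equiv.Perm.vectorsProdEqOne G p := fun k v =>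
    Equiv.Perm.VectorsProdEqOne.rotate v k
  have hf1 : ∀ v, f 0 v = v := Equiv.Perm.VectorsProdEqOne.rotate_zero
  have hf2 : ∀ j k v, f k (f j v) = f (j + k) v := fun j k v =>
    Equiv.Perm.VectorsProdEqOne.rotate_rotate v j k
  have hf3 : ∀ v, f p v = v := Equiv.Perm.VectorsProdEqOne.rotate_length
  let σ : Equiv.Perm (Equiv.Perm.vectorsProdEqOne G p) :=
    Equiv.mk (f 1) (f (p - 1)) (fun s => by rw [hf2, add_tsub_cancel_of_le hp.out.one_lt.le, hf3])
      fun s => by rw [hf2, tsub_add_cancel_of_le hp.out.one_lt.le, hf3]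
  have hσ : ∀ k v, (σ ^ k) v = f k v := fun k =>
    Nat.rec (fun v => (hf1 v).symm) (fun k hk v => by
      rw [pow_succ, Equiv.Perm.mul_apply, hk (σ v), Nat.succ_eq_one_add, ← hf2 1 k]
      simp only [σ, Equiv.coe_fn_mk]) k
  replace hσ : σ ^ p ^ 1 = 1 := Equiv.Perm.ext fun v => by
    rw [pow_one, hσ, hf3, Equiv.Perm.one_apply]
  have h1 := Equiv.Perm.card_compl_support_modEq hσ
  have h2 : p ∣ σ.supportᶜ.card :=
    (Nat.modEq_zero_iff_dvd).mp (h1.trans ((Nat.modEq_zero_iff_dvd).mpr Scard))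
  let φ : {g : G // g ^ p = 1} → Equiv.Perm.vectorsProdEqOne G p := fun g =>
    ⟨List.Vector.replicate p g.1, (List.prod_replicate p g.1).trans g.2⟩
  have hφ : Function.Injective φ := by
    intro a b hab
    have e : List.replicate p a.1 = List.replicate p b.1 :=
      congrArg (fun v : Equiv.Perm.vectorsProdEqOne G p => v.1.1) hab
    have hpos : 0 < p := hp.out.pos
    apply Subtype.ext
    have := List.eq_of_mem_replicate (a := b.1) (b := a.1) (n := p)
      (by rw [← e]; exact List.mem_replicate.mpr ⟨hpos.ne', rfl⟩)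
    exact this
  have himg : Finset.univ.image φ = σ.supportᶜ := by
    ext v
    rw [Finset.mem_image, Finset.mem_compl, Equiv.Perm.mem_support, Classical.not_not]
    constructor
    · rintro ⟨g, -, rfl⟩
      exact Subtype.ext (Subtype.ext (List.rotate_replicate g.1 p 1))
    · intro hv
      obtain ⟨g, hg⟩ := List.rotate_one_eq_self_iff_eq_replicate.mp
        (Subtype.ext_iff.mp (Subtype.ext_iff.mp hv))
      have hlen : v.1.1.length = p := v.1.2
      rw [hlen] at hg
      have hgp : g ^ p = 1 := by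
        rw [← List.prod_replicate, ← hg]
        exact v.2
      exact ⟨⟨g, hgp⟩, Finset.mem_univ _, Subtype.ext (Subtype.ext hg.symm)⟩
  rw [Nat.card_eq_fintype_card, ← Finset.card_univ, ← Finset.card_image_of_injective _ hφ, himg]
  exact h2


/-- A normal subgroup of a faithful transitive group with simple point stabiliser is trivial,
the whole group, or regular, provided the sizes of the sets invariant under the stabiliser
satisfy a divisibility condition. -/
theorem normal_cases {H : Type*} [Group H] [Finite H] {Ω : Type*} [Finite Ω] [MulAction H Ω]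
    [FaithfulSMul H Ω] [IsPretransitive H Ω] (ω : Ω) (L : List ℕ)
    (hsimple : IsSimpleGroup (stabilizer H ω))
    (horb : ∀ S : Set Ω, ω ∈ S → (∀ h ∈ stabilizer H ω, ∀ s ∈ S, h • s ∈ S) → S.ncard ∈ L)
    (hdiv : ∀ m ∈ L, m = 1 ∨ m = Nat.card Ω ∨ ¬ m ∣ Nat.card H)
    (K : Subgroup H) (hK : K.Normal) :
    K = ⊥ ∨ K = ⊤ ∨ (Nat.card K = Nat.card Ω ∧ ∀ k ∈ K, k • ω = ω → k = 1) := by
  have hidx : (stabilizer H ω).index = Nat.card Ω := index_stabilizer_of_transitive H ω
  have hcardH : Nat.card (stabilizer H ω) * Nat.card Ω = Nat.card H := by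
    rw [← hidx]
    exact Subgroup.card_mul_index _
  have hSt1 : 1 < Nat.card (stabilizer H ω) :=
    Finite.one_lt_card_iff_nontrivial.2 hsimple.toNontrivial
  have hΩpos : 0 < Nat.card Ω := Nat.card_pos_iff.mpr ⟨⟨ω⟩, inferInstance⟩
  have hinv : ∀ h ∈ stabilizer H ω, ∀ s ∈ orbit K ω, h • s ∈ orbit K ω := by
    rintro h hh _ ⟨k, rfl⟩
    refine ⟨⟨h * k * h⁻¹, hK.conj_mem k k.2 h⟩, ?_⟩
    show (h * (k : H) * h⁻¹) • ω = h • ((k : H) • ω)
    have hω : h⁻¹ • ω = ω := by
      rw [inv_smul_eq_iff]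
      exact (mem_stabilizer_iff.1 hh).symm
    rw [mul_smul, mul_smul, hω]
  have hS := horb (orbit K ω) (mem_orbit_self ω) hinv
  have hos : Nat.card (stabilizer K ω) * (orbit K ω).ncard = Nat.card K := by
    rw [← index_stabilizer]
    exact Subgroup.card_mul_index _
  have hdvd : Nat.card K ∣ Nat.card H := Subgroup.card_subgroup_dvd_card K
  have hnorm : (K.subgroupOf (stabilizer H ω)).Normal := hK.subgroupOf _
  rcases hsimple.eq_bot_or_eq_top_of_normal (K.subgroupOf (stabilizer H ω)) hnorm with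
    hbot | htop
  · rw [Subgroup.subgroupOf_eq_bot, Subgroup.disjoint_def] at hbot
    have hstab : stabilizer K ω = ⊥ := by
      rw [Subgroup.eq_bot_iff_forall]
      intro k hk
      have hk' : (k : H) • ω = ω := mem_stabilizer_iff.1 hk
      exact Subtype.ext (hbot k.2 (mem_stabilizer_iff.2 hk'))
    rw [hstab, Subgroup.card_bot, one_mul] at hos
    rw [hos] at hS
    rcases hdiv _ hS with h | h | h
    · exact Or.inl (Subgroup.eq_bot_of_card_eq K h)
    · exact Or.inr (Or.inr ⟨h, fun k hk hkω => hbot hk (mem_stabilizer_iff.2 hkω)⟩)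
    · exact absurd hdvd h
  · rw [Subgroup.subgroupOf_eq_top] at htop
    have hstab : Nat.card (stabilizer K ω) = Nat.card (stabilizer H ω) :=
      Nat.card_congr ⟨fun k => ⟨k.1.1, k.2⟩, fun s => ⟨⟨s.1, htop s.2⟩, s.2⟩,
        fun _ => rfl, fun _ => rfl⟩
    rw [hstab] at hos
    have hn : (orbit K ω).ncard ∣ Nat.card Ω := by
      rw [← hos, ← hcardH] at hdvd
      exact Nat.dvd_of_mul_dvd_mul_left (by omega) hdvd
    rcases hdiv _ hS with h | h | h
    · exfalso
      rw [h, mul_one] at hos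
      have hKS : stabilizer H ω = K := Subgroup.eq_of_le_of_card_ge htop (by rw [hos])
      have hN : (stabilizer H ω).Normal := by
        rw [hKS]
        exact hK
      have htriv : ∀ h ∈ stabilizer H ω, h = 1 := by
        intro h hh
        apply FaithfulSMul.eq_of_smul_eq_smul (α := Ω)
        intro y
        obtain ⟨g, rfl⟩ := exists_smul_eq H ω y
        have h1 := hN.conj_mem h hh g⁻¹
        rw [inv_inv] at h1
        have h2 : (g⁻¹ * h * g) • ω = ω := mem_stabilizer_iff.1 h1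
        rw [mul_smul, mul_smul, inv_smul_eq_iff] at h2
        rw [h2, one_smul]
      have hbot : stabilizer H ω = ⊥ := (Subgroup.eq_bot_iff_forall _).2 htriv
      rw [hbot, Subgroup.card_bot] at hSt1
      omega
    · rw [h] at hos
      exact Or.inr (Or.inl ((Subgroup.card_eq_iff_eq_top K).1 (by rw [← hos, hcardH])))
    · exfalso
      apply h
      rw [← hcardH]
      exact Dvd.dvd.mul_left hn _

/-- The simplicity criterion. -/
theorem simple_of_suborbits {H : Type*} [Group H] [Finite H] {Ω : Type*} [Finite Ω]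
    [MulAction H Ω] [FaithfulSMul H Ω] [IsPretransitive H Ω] (ω : Ω) (L : List ℕ)
    (hsimple : IsSimpleGroup (stabilizer H ω))
    (horb : ∀ S : Set Ω, ω ∈ S → (∀ h ∈ stabilizer H ω, ∀ s ∈ S, h • s ∈ S) → S.ncard ∈ L)
    (hdiv : ∀ m ∈ L, m = 1 ∨ m = Nat.card Ω ∨ ¬ m ∣ Nat.card H)
    (p q : ℕ) (hp : p.Prime) (hq : q.Prime) (hpq : p ≠ q) (hpΩ : p ∣ Nat.card Ω)
    (hqΩ : q ∣ Nat.card Ω)
    (hreg : ∀ a ∈ L, ∀ b ∈ L, p ∣ a → q ∣ b → Nat.card Ω + 1 < a + b) : IsSimpleGroup H := by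
  have hidx : (stabilizer H ω).index = Nat.card Ω := index_stabilizer_of_transitive H ω
  have hcardH : Nat.card (stabilizer H ω) * Nat.card Ω = Nat.card H := by
    rw [← hidx]
    exact Subgroup.card_mul_index _
  have hSt1 : 1 < Nat.card (stabilizer H ω) :=
    Finite.one_lt_card_iff_nontrivial.2 hsimple.toNontrivial
  have hΩpos : 0 < Nat.card Ω := Nat.card_pos_iff.mpr ⟨⟨ω⟩, inferInstance⟩
  have hnt : Nontrivial H := by
    apply Finite.one_lt_card_iff_nontrivial.1
    rw [← hcardH]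
    exact lt_of_lt_of_le hSt1 (Nat.le_mul_of_pos_right _ hΩpos)
  refine ⟨fun K hK => ?_⟩
  rcases normal_cases ω L hsimple horb hdiv K hK with h | h | ⟨hc, hreg'⟩
  · exact Or.inl h
  · exact Or.inr h
  · exfalso
    -- the map `k ↦ k • ω` is injective on `K`
    have hinj : Function.Injective (fun k : K => (k : H) • ω) := by
      intro a b hab
      have e : ((a⁻¹ * b : K) : H) • ω = ω := by
        show ((a : H)⁻¹ * (b : H)) • ω = ω
        rw [mul_smul, inv_smul_eq_iff]
        exact hab.symm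
      have := hreg' _ (a⁻¹ * b).2 e
      have e2 : a⁻¹ * b = 1 := Subtype.ext this
      exact (inv_mul_eq_one.mp e2)
    -- the sets of images of the solutions of `k ^ r = 1`
    let T : ℕ → Set Ω := fun r => (fun k : K => (k : H) • ω) '' {k : K | k ^ r = 1}
    have hTω : ∀ r, ω ∈ T r := fun r => ⟨1, one_pow r, one_smul _ ω⟩
    have hTinv : ∀ r, ∀ h ∈ stabilizer H ω, ∀ s ∈ T r, h • s ∈ T r := by
      rintro r h hh _ ⟨k, hk, rfl⟩
      refine ⟨⟨h * k * h⁻¹, hK.conj_mem k k.2 h⟩, ?_, ?_⟩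
      · have hk' : (k : H) ^ r = 1 := by
          have := congrArg (Subtype.val) (show k ^ r = 1 from hk)
          simpa using this
        apply Subtype.ext
        show (h * (k : H) * h⁻¹) ^ r = 1
        rw [conj_pow, hk', mul_one, mul_inv_cancel]
      · show (h * (k : H) * h⁻¹) • ω = h • ((k : H) • ω)
        have hω : h⁻¹ • ω = ω := by
          rw [inv_smul_eq_iff]
          exact (mem_stabilizer_iff.1 hh).symm
        rw [mul_smul, mul_smul, hω]
    have hTcard : ∀ r, (T r).ncard = Nat.card {k : K // k ^ r = 1} := by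
      intro r
      rw [Set.ncard_image_of_injective _ hinj]
      exact (Nat.card_coe_set_eq _).symm
    have hTdvd : ∀ r, r.Prime → r ∣ Nat.card Ω → r ∣ (T r).ncard := by
      intro r hr hrΩ
      rw [hTcard]
      have : Fact r.Prime := ⟨hr⟩
      exact prime_dvd_card_pow_eq_one K r (by rw [hc]; exact hrΩ)
    have hTL : ∀ r, (T r).ncard ∈ L := fun r => horb (T r) (hTω r) (hTinv r)
    have hlt := hreg _ (hTL p) _ (hTL q) (hTdvd p hp hpΩ) (hTdvd q hq hqΩ)
    have hint : T p ∩ T q ⊆ {ω} := by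
      rintro x ⟨⟨k, hk, rfl⟩, ⟨k', hk', hkk⟩⟩
      have e : k' = k := hinj hkk
      subst e
      have h1 : orderOf k' ∣ p := orderOf_dvd_of_pow_eq_one hk
      have h2 : orderOf k' ∣ q := orderOf_dvd_of_pow_eq_one hk'
      have h3 : orderOf k' = 1 := by
        have := Nat.dvd_gcd h1 h2
        rw [(Nat.coprime_primes hp hq).mpr hpq] at this
        exact Nat.dvd_one.mp this
      rw [orderOf_eq_one_iff] at h3
      rw [h3]
      show (1 : H) • ω ∈ ({ω} : Set Ω)
      rw [one_smul]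
      exact Set.mem_singleton ω
    have hi : (T p ∩ T q).ncard ≤ 1 := by
      have := Set.ncard_le_ncard hint (Set.finite_singleton ω)
      rwa [Set.ncard_singleton] at this
    have hu : (T p ∪ T q).ncard ≤ Nat.card Ω := by
      have := Set.ncard_le_ncard (Set.subset_univ (T p ∪ T q)) (Set.finite_univ)
      rwa [Set.ncard_univ] at this
    have hsum := Set.ncard_union_add_ncard_inter (T p) (T q)
    omega


/-! ### Sizes of invariant sets -/

/-- the sums of the sublists of a list -/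
def sums : List ℕ → List ℕ
  | [] => [0]
  | n :: l => sums l ++ (sums l).map (· + n)

/-- An invariant set covered by sets on which the group is transitive has, for its size, a sum
of some of their sizes. -/
theorem ncard_mem_sums {G α : Type*} [Group G] [MulAction G α] (K : Subgroup G) :
    ∀ (Os : List (Set α × ℕ)),
    (∀ O ∈ Os, O.1.ncard = O.2 ∧ (∀ k ∈ K, ∀ a ∈ O.1, k • a ∈ O.1) ∧
      ∀ a ∈ O.1, ∀ b ∈ O.1, ∃ k ∈ K, k • a = b) →
    ∀ (T : Set α), T.Finite → (∀ k ∈ K, ∀ s ∈ T, k • s ∈ T) →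
      (∀ t ∈ T, ∃ O ∈ Os, t ∈ O.1) → T.ncard ∈ sums (Os.map Prod.snd) := by
  intro Os
  induction Os with
  | nil =>
    intro _ T _ _ hcov
    have hT : T = ∅ := by
      apply Set.eq_empty_of_forall_notMem
      intro t ht
      obtain ⟨O, hO, _⟩ := hcov t ht
      exact absurd hO (List.not_mem_nil)
    rw [hT, Set.ncard_empty]
    simp [sums]
  | cons O rest ih =>
    intro hO T hT hinv hcov
    have hO1 := hO O (List.mem_cons_self)
    have hrest : ∀ O' ∈ rest, O'.1.ncard = O'.2 ∧ (∀ k ∈ K, ∀ a ∈ O'.1, k • a ∈ O'.1) ∧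
        ∀ a ∈ O'.1, ∀ b ∈ O'.1, ∃ k ∈ K, k • a = b :=
      fun O' h => hO O' (List.mem_cons_of_mem _ h)
    have hT' : (T \ O.1).Finite := hT.subset Set.sdiff_subset
    have hinv' : ∀ k ∈ K, ∀ s ∈ T \ O.1, k • s ∈ T \ O.1 := by
      rintro k hk s ⟨hs1, hs2⟩
      refine ⟨hinv k hk s hs1, fun h => hs2 ?_⟩
      have := hO1.2.1 k⁻¹ (K.inv_mem hk) _ h
      rwa [inv_smul_smul] at this
    have hcov' : ∀ t ∈ T \ O.1, ∃ O' ∈ rest, t ∈ O'.1 := by
      rintro t ⟨ht1, ht2⟩
      obtain ⟨O', hO', ht⟩ := hcov t ht1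
      rcases List.mem_cons.mp hO' with rfl | h
      · exact absurd ht ht2
      · exact ⟨O', h, ht⟩
    have h1 := ih hrest (T \ O.1) hT' hinv' hcov'
    have h2 := Set.ncard_inter_add_ncard_sdiff_eq_ncard T O.1 hT
    show T.ncard ∈ sums (rest.map Prod.snd) ++ (sums (rest.map Prod.snd)).map (· + O.2)
    rw [List.mem_append]
    by_cases hem : T ∩ O.1 = ∅
    · left
      rw [hem, Set.ncard_empty, zero_add] at h2
      rw [← h2]
      exact h1
    · right
      obtain ⟨a, haT, haO⟩ := Set.nonempty_iff_ne_empty.mpr hem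
      have hsub : O.1 ⊆ T := by
        intro b hb
        obtain ⟨k, hk, e⟩ := hO1.2.2 a haO b hb
        rw [← e]
        exact hinv k hk a haT
      rw [Set.inter_eq_right.mpr hsub, hO1.1] at h2
      rw [List.mem_map]
      exact ⟨(T \ O.1).ncard, h1, by omega⟩

/-- The sizes of the invariant sets containing a fixed point. -/
theorem horb_of_suborbits {G α : Type*} [Group G] [MulAction G α] (K : Subgroup G) (S : Set α)
    (hfin : S.Finite) (ω : α) (hKω : ∀ k ∈ K, k • ω = ω) (Os : List (Set α × ℕ))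
    (hO : ∀ O ∈ Os, O.1.ncard = O.2 ∧ (∀ k ∈ K, ∀ a ∈ O.1, k • a ∈ O.1) ∧
      ∀ a ∈ O.1, ∀ b ∈ O.1, ∃ k ∈ K, k • a = b)
    (hcov : ∀ s ∈ S, s = ω ∨ ∃ O ∈ Os, s ∈ O.1)
    (T : Set α) (hTS : T ⊆ S) (hωT : ω ∈ T) (hTinv : ∀ k ∈ K, ∀ s ∈ T, k • s ∈ T) :
    T.ncard ∈ (sums (Os.map Prod.snd)).map (· + 1) := by
  have hT : T.Finite := hfin.subset hTS
  have hinv' : ∀ k ∈ K, ∀ s ∈ T \ {ω}, k • s ∈ T \ {ω} := by
    rintro k hk s ⟨hs1, hs2⟩
    refine ⟨hTinv k hk s hs1, fun h => hs2 ?_⟩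
    have e : k • s = ω := h
    have : s = k⁻¹ • ω := by rw [← e, inv_smul_smul]
    rw [this]
    exact hKω k⁻¹ (K.inv_mem hk)
  have hcov' : ∀ t ∈ T \ {ω}, ∃ O ∈ Os, t ∈ O.1 := by
    rintro t ⟨ht1, ht2⟩
    rcases hcov t (hTS ht1) with h | h
    · exact absurd h ht2
    · exact h
  have h1 := ncard_mem_sums K Os hO (T \ {ω}) (hT.subset Set.sdiff_subset) hinv' hcov'
  have h2 := Set.ncard_sdiff_singleton_add_one hωT hT
  rw [List.mem_map]
  exact ⟨(T \ {ω}).ncard, h1, h2⟩

/-! ### Subgroups acting on invariant subsets -/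

/-- Orbit and stabiliser for a subgroup. -/
theorem card_stab_mul {G α : Type*} [Group G] [MulAction G α] [Finite G] (H : Subgroup G) (x : α)
    (A : Set α) (hx : x ∈ A) (hinv : ∀ h ∈ H, ∀ a ∈ A, h • a ∈ A)
    (htr : ∀ a ∈ A, ∃ h ∈ H, h • x = a) (n : ℕ) (hn : A.ncard = n) :
    Nat.card ↥(H ⊓ stabilizer G x) * n = Nat.card ↥H := by
  have ho : orbit ↥H x = A := by
    ext a
    constructor
    · rintro ⟨h, rfl⟩
      exact hinv h.1 h.2 x hx
    · intro ha
      obtain ⟨h, hh, e⟩ := htr a ha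
      exact ⟨⟨h, hh⟩, e⟩
  have hos : Nat.card (stabilizer ↥H x) * (orbit ↥H x).ncard = Nat.card ↥H := by
    rw [← index_stabilizer]
    exact Subgroup.card_mul_index _
  have he : Nat.card (stabilizer ↥H x) = Nat.card ↥(H ⊓ stabilizer G x) :=
    Nat.card_congr ⟨fun k => ⟨k.1.1, ⟨k.1.2, k.2⟩⟩, fun k => ⟨⟨k.1, k.2.1⟩, k.2.2⟩,
      fun _ => rfl, fun _ => rfl⟩
  rw [ho, he, hn] at hos
  exact hos

/-- Orbit and stabiliser for the whole group. -/
theorem card_top_stab {G α : Type*} [Group G] [MulAction G α] [Finite G] (x : α)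
    (A : Set α) (hx : x ∈ A) (hinv : ∀ g : G, ∀ a ∈ A, g • a ∈ A)
    (htr : ∀ a ∈ A, ∃ g : G, g • x = a) (n : ℕ) (hn : A.ncard = n) :
    Nat.card ↥(stabilizer G x) * n = Nat.card G := by
  have ho : orbit G x = A := by
    ext a
    constructor
    · rintro ⟨h, rfl⟩
      exact hinv h x hx
    · intro ha
      obtain ⟨h, e⟩ := htr a ha
      exact ⟨h, e⟩
  have hos : Nat.card (stabilizer G x) * (orbit G x).ncard = Nat.card G := by
    rw [← index_stabilizer]
    exact Subgroup.card_mul_index _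
  rw [ho, hn] at hos
  exact hos

/-- Conjugate subgroups are isomorphic. -/
def conjEquiv {G : Type*} [Group G] (A B : Subgroup G) (g : G)
    (h : ∀ x, x ∈ A ↔ g * x * g⁻¹ ∈ B) : ↥A ≃* ↥B where
  toFun a := ⟨g * a.1 * g⁻¹, (h a.1).mp a.2⟩
  invFun b := ⟨g⁻¹ * b.1 * g, (h _).mpr (by
    have : g * (g⁻¹ * b.1 * g) * g⁻¹ = b.1 := by group
    rw [this]
    exact b.2)⟩
  left_inv a := Subtype.ext (by show g⁻¹ * (g * a.1 * g⁻¹) * g = a.1; group)
  right_inv b := Subtype.ext (by show g * (g⁻¹ * b.1 * g) * g⁻¹ = b.1; group)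
  map_mul' a b := Subtype.ext (by
    show g * (a.1 * b.1) * g⁻¹ = g * a.1 * g⁻¹ * (g * b.1 * g⁻¹); group)

/-- Simplicity and order pass to a conjugate subgroup. -/
theorem simple_card_conj {G : Type*} [Group G] (A B : Subgroup G) (g : G)
    (h : ∀ x, x ∈ A ↔ g * x * g⁻¹ ∈ B) (N : ℕ) (hB : IsSimpleGroup ↥B ∧ Nat.card ↥B = N) :
    IsSimpleGroup ↥A ∧ Nat.card ↥A = N := by
  obtain ⟨h1, h2⟩ := hB
  exact ⟨(conjEquiv A B g h).isSimpleGroup, by rw [Nat.card_congr (conjEquiv A B g h).toEquiv, h2]⟩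

/-- The simplicity criterion for a subgroup acting on an invariant subset. -/
theorem simple_sub {G α : Type*} [Group G] [MulAction G α] [Finite G]
    (H : Subgroup G) (S : Set α) (hfin : S.Finite)
    (hinv : ∀ h ∈ H, ∀ s ∈ S, h • s ∈ S)
    (htr : ∀ a ∈ S, ∀ b ∈ S, ∃ h ∈ H, h • a = b)
    (hfaith : ∀ h ∈ H, (∀ s ∈ S, h • s = s) → h = 1)
    (ω : α) (hω : ω ∈ S) (hsimple : IsSimpleGroup ↥(H ⊓ stabilizer G ω))
    (L : List ℕ)
    (horb : ∀ T : Set α, T ⊆ S → ω ∈ T → (∀ h ∈ H ⊓ stabilizer G ω, ∀ s ∈ T, h • s ∈ T) →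
      T.ncard ∈ L)
    (n N : ℕ) (hn : S.ncard = n) (hN : Nat.card ↥H = N)
    (hdiv : ∀ m ∈ L, m = 1 ∨ m = n ∨ ¬ m ∣ N)
    (p q : ℕ) (hp : p.Prime) (hq : q.Prime) (hpq : p ≠ q) (hpn : p ∣ n) (hqn : q ∣ n)
    (hreg : ∀ a ∈ L, ∀ b ∈ L, p ∣ a → q ∣ b → n + 1 < a + b) : IsSimpleGroup ↥H := by
  let act : MulAction ↥H ↥S :=
    { smul := fun h x => ⟨(h : G) • (x : α), hinv h.1 h.2 x.1 x.2⟩
      one_smul := fun x => Subtype.ext (one_smul G (x : α))
      mul_smul := fun a b x => Subtype.ext (mul_smul (a : G) (b : G) (x : α)) }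
  have hsm : ∀ (h : ↥H) (x : ↥S), ((h • x : ↥S) : α) = (h : G) • (x : α) := fun _ _ => rfl
  have : Finite ↥S := hfin.to_subtype
  have : FaithfulSMul ↥H ↥S := by
    refine ⟨fun {a b} hab => ?_⟩
    have h1 : (a⁻¹ * b : ↥H) = 1 := by
      apply Subtype.ext
      apply hfaith _ (a⁻¹ * b).2
      intro s hs
      have e := congrArg (Subtype.val) (hab ⟨s, hs⟩)
      rw [hsm, hsm] at e
      show ((a : G)⁻¹ * (b : G)) • s = s
      rw [mul_smul, inv_smul_eq_iff]
      exact e.symm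
    exact (inv_mul_eq_one.mp h1)
  have : IsPretransitive ↥H ↥S := by
    refine ⟨fun x y => ?_⟩
    obtain ⟨h, hh, e⟩ := htr x.1 x.2 y.1 y.2
    exact ⟨⟨h, hh⟩, Subtype.ext e⟩
  have hcΩ : Nat.card ↥S = n := by
    rw [Nat.card_coe_set_eq]
    exact hn
  let e : stabilizer ↥H (⟨ω, hω⟩ : ↥S) ≃* ↥(H ⊓ stabilizer G ω) :=
    { toFun := fun k => ⟨k.1.1, ⟨k.1.2, by
        have := congrArg Subtype.val (mem_stabilizer_iff.mp k.2)
        rw [hsm] at this
        exact mem_stabilizer_iff.mpr this⟩⟩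
      invFun := fun k => ⟨⟨k.1, k.2.1⟩, by
        rw [mem_stabilizer_iff]
        apply Subtype.ext
        rw [hsm]
        exact mem_stabilizer_iff.mp k.2.2⟩
      left_inv := fun _ => rfl
      right_inv := fun _ => rfl
      map_mul' := fun _ _ => rfl }
  have := hsimple
  have hs' : IsSimpleGroup (stabilizer ↥H (⟨ω, hω⟩ : ↥S)) := e.isSimpleGroup
  refine simple_of_suborbits (⟨ω, hω⟩ : ↥S) L hs' ?_ ?_ p q hp hq hpq ?_ ?_ ?_
  · intro T hωT hTinv
    have h1 := horb (Subtype.val '' T) ?_ ⟨⟨ω, hω⟩, hωT, rfl⟩ ?_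
    · rwa [Set.ncard_image_of_injective _ Subtype.val_injective] at h1
    · rintro _ ⟨x, _, rfl⟩
      exact x.2
    · rintro h hh _ ⟨x, hx, rfl⟩
      have hmem : (⟨h, hh.1⟩ : ↥H) ∈ stabilizer ↥H (⟨ω, hω⟩ : ↥S) := by
        rw [mem_stabilizer_iff]
        apply Subtype.ext
        rw [hsm]
        exact mem_stabilizer_iff.mp hh.2
      exact ⟨(⟨h, hh.1⟩ : ↥H) • x, hTinv _ hmem x hx, rfl⟩
  · rw [hcΩ, hN]
    exact hdiv
  · rw [hcΩ]
    exact hpn
  · rw [hcΩ]
    exact hqn
  · rw [hcΩ]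
    exact hreg

end Cfsg.Agent.Lib.Helper27.SimpleCrit
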