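import Mathlib
import Cfsg.Prelude.Def_Sporadic_a
import Cfsg.Agent.Lib.Helper27.CoGlue
import Cfsg.Agent.Lib.Helper27.SimpleCrit
import Cfsg.Agent.Lib.Helper27.Faith

/-!
Orbit sets as sets of lattice vectors: invariance, transitivity and covers, in the form used by
the simplicity criterion.
-/

set_option autoImplicit false

namespace Cfsg.Agent.Lib.Helper27.SimpGlue

open Cfsg Cfsg.Agent.Lib.Helper27.Bits Cfsg.Agent.Lib.Helper27.Pk
open Cfsg.Agent.Lib.Helper27.MinTab Cfsg.Agent.Lib.Helper27.MinEnum Cfsg.Agent.Lib.Helper27.MinFast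
open Cfsg.Agent.Lib.Helper27.MinAll Cfsg.Agent.Lib.Helper27.LDot Cfsg.Agent.Lib.Helper27.LMat
open Cfsg.Agent.Lib.Helper27.Spread Cfsg.Agent.Lib.Helper27.Co0Act Cfsg.Agent.Lib.Helper27.LApp
open Cfsg.Agent.Lib.Helper27.OrbCert Cfsg.Agent.Lib.Helper27.CoGlue

/-- the lattice vectors of an orbit set -/
def OmL (conds : List (ℕ × ℕ × ℕ)) : Set leechLattice := {x | (x : GolayPt → ℤ) ∈ Om conds}

theorem ncard_omL (conds : List (ℕ × ℕ × ℕ)) : (OmL conds).ncard = (Om conds).ncard :=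
  ncard_om_smul 1 conds (fun x => (x : GolayPt → ℤ) ∈ Om conds) (fun x => by rw [one_smul])

theorem omL_finite {conds : List (ℕ × ℕ × ℕ)} {n : ℕ} (h : (Om conds).ncard = n) (hn : n ≠ 0) :
    (OmL conds).Finite :=
  Set.finite_of_ncard_ne_zero (by rw [ncard_omL, h]; exact hn)

/-- An automorphism fixing the base vectors of the conditions preserves the set. -/
theorem omL_inv (conds : List (ℕ × ℕ × ℕ)) (g : Co0)
    (hg : ∀ c ∈ conds, ∃ a : leechLattice, (a : GolayPt → ℤ) = vecB c.1 ∧ g • a = a) :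
    ∀ x ∈ OmL conds, g • x ∈ OmL conds := by
  intro x hx
  refine ⟨(g • x).2, ?_, ?_⟩
  · rw [smul_norm]
    exact hx.2.1
  · intro c hc
    obtain ⟨a, ha, hga⟩ := hg c hc
    have e := smul_dot g a x
    rw [hga] at e
    rw [← ha, e, ha]
    exact hx.2.2 c hc

theorem omL_trans {F : List ℕ} {conds : List (ℕ × ℕ × ℕ)}
    (htr : ∀ x ∈ Om conds, ∀ y ∈ Om conds, Rf (F.map vecB) x y) :
    ∀ x ∈ OmL conds, ∀ y ∈ OmL conds, ∃ g : Co0, g • x = y ∧ ∀ a : leechLattice,
      (∃ b ∈ F, (a : GolayPt → ℤ) = vecB b) → g • a = a :=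
  fun _ hx _ hy => trans_std htr hx hy

theorem omL_cons (b tp tn : ℕ) (c : List (ℕ × ℕ × ℕ)) (x : leechLattice) :
    x ∈ OmL ([(b, tp, tn)] ++ c) ↔
      x ∈ OmL c ∧ dotInt (vecB b) (x : GolayPt → ℤ) = (tp : ℤ) - tn :=
  mem_om_cons b tp tn c (x : GolayPt → ℤ)

/-- the lattice vector of a code in the set -/
theorem omL_code {conds : List (ℕ × ℕ × ℕ)} (hc : validConds conds = true) {X k : ℕ}
    (hX : X = mvB k) (hk : k < KTOT) (h : inOm conds k = true) :
    ∃ x : leechLattice, (x : GolayPt → ℤ) = vecB X ∧ x ∈ OmL conds := by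
  have hm := mem_om hc hk h
  rw [← vecB_mv hX hk (inOm_valid h).1] at hm
  exact ⟨⟨vecB X, hm.1⟩, rfl, hm⟩

/-- A vector of sum of squares zero is zero. -/
theorem eq_zero_of_sqNorm (z : GolayPt → ℤ) (h : sqNorm z = 0) : z = 0 := by
  unfold sqNorm at h
  funext p
  have := (Finset.sum_eq_zero_iff_of_nonneg (fun i _ => sq_nonneg (z i))).mp h p (Finset.mem_univ p)
  exact pow_eq_zero_iff (by norm_num) |>.mp this

/-- A conjugate fixes the image of a vector exactly when the element fixes the vector. -/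
theorem conj_fix (g0 x : Co0) {a b : leechLattice} (h : g0 • a = b) :
    (g0 * x * g0⁻¹) • b = b ↔ x • a = a := by
  rw [← h, mul_smul, mul_smul, inv_smul_smul]
  constructor
  · intro e
    exact smul_left_cancel g0 e
  · intro e
    rw [e]

end Cfsg.Agent.Lib.Helper27.SimpGlue
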