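import Mathlib
import Cfsg.Prelude.Def_Sporadic_a
import Cfsg.Agent.Lib.Helper27.CoStd
import Cfsg.Agent.Lib.Helper27.SimpGlue
import Cfsg.Agent.Lib.Helper27.CertM22
import Cfsg.Agent.Lib.Helper27.CertL34
import Cfsg.Agent.Lib.Helper27.CertSpan
import Cfsg.Agent.Lib.Helper7.SimpleOn
import Cfsg.Agent.S0395
import Cfsg.Agent.S0397

/-!
The orders of the stabilisers of the standard configurations, and the simplicity of the
stabiliser of `u0`, `x1`, `y0`, a group of order 443520 acting doubly transitively on 22 vectors.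
-/

set_option autoImplicit false

namespace Cfsg.Agent.Lib.Helper27.SimpM22

open Cfsg Cfsg.Agent.Lib.Helper27.Bits Cfsg.Agent.Lib.Helper27.Pk
open Cfsg.Agent.Lib.Helper27.MinTab Cfsg.Agent.Lib.Helper27.MinEnum Cfsg.Agent.Lib.Helper27.MinFast
open Cfsg.Agent.Lib.Helper27.MinAll Cfsg.Agent.Lib.Helper27.LDot Cfsg.Agent.Lib.Helper27.LMat
open Cfsg.Agent.Lib.Helper27.Spread Cfsg.Agent.Lib.Helper27.Co0Act Cfsg.Agent.Lib.Helper27.LApp
open Cfsg.Agent.Lib.Helper27.OrbCert Cfsg.Agent.Lib.Helper27.CoGlue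
open Cfsg.Agent.Lib.Helper27.CertBase Cfsg.Agent.Lib.Helper27.CoStd
open Cfsg.Agent.Lib.Helper27.SimpleCrit Cfsg.Agent.Lib.Helper27.Faith
open Cfsg.Agent.Lib.Helper27.SimpGlue
open MulAction

theorem co0_finite : Finite Co0 :=
  Nat.finite_of_card_ne_zero (by rw [Cfsg.Agent.S0397.result]; norm_num)

/-! ### Orders -/

theorem card_co3 : Nat.card ↥(stabilizer Co0 u0) = 495766656000 := by
  have := co0_finite
  have h := card_top_stab (G := Co0) u0 {x : leechLattice | sqNorm (x : GolayPt → ℤ) = 48} u0_norm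
    (fun g a ha => by
      show sqNorm ((g • a : leechLattice) : GolayPt → ℤ) = 48
      rw [smul_norm]
      exact ha)
    (fun a ha => Cfsg.Agent.S0401.result u0 a u0_norm ha) 16773120 (by
      rw [ncard_val (fun w => sqNorm w = 48)]
      exact Cfsg.Agent.S0395.result)
  rw [Cfsg.Agent.S0397.result] at h
  exact Nat.eq_of_mul_eq_mul_right (by norm_num : 0 < 16773120) (h.trans (by norm_num))

theorem hs_inv : ∀ g ∈ stabilizer Co0 u0, ∀ x ∈ OmL CertCo3.cA, g • x ∈ OmL CertCo3.cA := by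
  intro g hg
  apply omL_inv
  intro c hc
  simp only [CertCo3.cA, List.mem_singleton] at hc
  subst hc
  exact ⟨u0, rfl, mem_stabilizer_iff.mp hg⟩

theorem hs_trans : ∀ x ∈ OmL CertCo3.cA, ∀ y ∈ OmL CertCo3.cA,
    ∃ g ∈ stabilizer Co0 u0, g • x = y := by
  intro x hx y hy
  obtain ⟨g, e, hf⟩ := omL_trans CertCo3.transA x hx y hy
  exact ⟨g, mem_stabilizer_iff.mpr (hf u0 ⟨U0, by simp, rfl⟩), e⟩

theorem card_hs : Nat.card ↥(stabilizer Co0 u0 ⊓ stabilizer Co0 x1) = 44352000 := by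
  have := co0_finite
  have h := card_stab_mul (stabilizer Co0 u0) x1 (OmL CertCo3.cA) x1_om hs_inv
    (fun a ha => hs_trans x1 x1_om a ha) 11178 (by rw [ncard_omL]; exact CertCo3.cardA)
  rw [card_co3] at h
  exact Nat.eq_of_mul_eq_mul_right (by norm_num : 0 < 11178) (h.trans (by norm_num))

theorem mem_hs (g : Co0) :
    g ∈ stabilizer Co0 u0 ⊓ stabilizer Co0 x1 ↔ g • u0 = u0 ∧ g • x1 = x1 := by
  simp only [Subgroup.mem_inf, mem_stabilizer_iff]

theorem m22_inv : ∀ g ∈ stabilizer Co0 u0 ⊓ stabilizer Co0 x1, ∀ x ∈ OmL CertHS.cH,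
    g • x ∈ OmL CertHS.cH := by
  intro g hg
  obtain ⟨h1, h2⟩ := (mem_hs g).mp hg
  apply omL_inv
  intro c hc
  simp only [CertHS.cH, List.mem_cons, List.not_mem_nil, or_false] at hc
  rcases hc with rfl | rfl
  · exact ⟨u0, rfl, h1⟩
  · exact ⟨x1, rfl, h2⟩

theorem m22_trans : ∀ x ∈ OmL CertHS.cH, ∀ y ∈ OmL CertHS.cH,
    ∃ g ∈ stabilizer Co0 u0 ⊓ stabilizer Co0 x1, g • x = y := by
  intro x hx y hy
  obtain ⟨g, e, hf⟩ := omL_trans CertHS.transH x hx y hy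
  exact ⟨g, (mem_hs g).mpr ⟨hf u0 ⟨U0, by simp, rfl⟩, hf x1 ⟨X1, by simp, rfl⟩⟩, e⟩

theorem card_m22 :
    Nat.card ↥(stabilizer Co0 u0 ⊓ stabilizer Co0 x1 ⊓ stabilizer Co0 y0) = 443520 := by
  have := co0_finite
  have h := card_stab_mul (stabilizer Co0 u0 ⊓ stabilizer Co0 x1) y0 (OmL CertHS.cH) y0_om m22_inv
    (fun a ha => m22_trans y0 y0_om a ha) 100 (by rw [ncard_omL]; exact CertHS.cardH)
  rw [card_hs] at h
  exact Nat.eq_of_mul_eq_mul_right (by norm_num : 0 < 100) (h.trans (by norm_num))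

theorem mem_m22 (g : Co0) :
    g ∈ stabilizer Co0 u0 ⊓ stabilizer Co0 x1 ⊓ stabilizer Co0 y0 ↔
      g • u0 = u0 ∧ g • x1 = x1 ∧ g • y0 = y0 := by
  simp only [Subgroup.mem_inf, mem_stabilizer_iff, and_assoc]

/-! ### The set of 22 -/

/-- the standard vector of the set of 22 -/
def y1 : leechLattice :=
  ⟨vecB CertL34.Y1, (min_vec CertL34.Y1_eq (by decide) (by decide)).1⟩

theorem y1_om : y1 ∈ OmL CertM22.cM1 := by
  show vecB CertL34.Y1 ∈ Om CertM22.cM1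
  rw [vecB_mv CertL34.Y1_eq (by decide) (by decide)]
  exact mem_om CertM22.hcM1 (by decide) (by decide +kernel)

theorem cover_M1 (z : GolayPt → ℤ) (hz : z ∈ Om CertM22.cM1) :
    z = vecB CertL34.Y1 ∨ dotInt (vecB CertL34.Y1) z = 16 := by
  have hq : ∀ k, CertL34.qM1 k = true → k = 99458 ∨
      ∃ v ∈ [((16 : ℕ), (0 : ℕ))], condOK CertL34.Y1 v.1 v.2 (mvB k) = true := by
    intro k hk
    unfold CertL34.qM1 at hk
    rw [Bool.or_eq_true] at hk
    rcases hk with hk | hk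
    · left
      exact Nat.eq_of_beq_eq_true hk
    · right
      exact ⟨(16, 0), by simp, hk⟩
  rcases cover_of CertM22.tabM1 CertM22.hcM1 CertL34.Y1 99458 CertL34.qM1 [(16, 0)]
    CertL34.valid_Y1 hq CertL34.coverM1 z hz with h | ⟨v, hv, h⟩
  · left
    rw [h, vecB_mv CertL34.Y1_eq (by decide) (by decide)]
  · simp only [List.mem_singleton] at hv
    subst hv
    right
    rw [h]
    norm_num

theorem l34_inv : ∀ g ∈ stabilizer Co0 u0 ⊓ stabilizer Co0 x1 ⊓ stabilizer Co0 y0,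
    ∀ x ∈ OmL CertM22.cM1, g • x ∈ OmL CertM22.cM1 := by
  intro g hg
  obtain ⟨h1, h2, h3⟩ := (mem_m22 g).mp hg
  apply omL_inv
  intro c hc
  simp only [CertM22.cM1, CertM22.eM1, CertHS.cH, List.cons_append, List.nil_append,
    List.mem_cons, List.not_mem_nil, or_false] at hc
  rcases hc with rfl | rfl | rfl
  · exact ⟨y0, rfl, h3⟩
  · exact ⟨u0, rfl, h1⟩
  · exact ⟨x1, rfl, h2⟩

theorem l34_trans : ∀ x ∈ OmL CertM22.cM1, ∀ y ∈ OmL CertM22.cM1,
    ∃ g ∈ stabilizer Co0 u0 ⊓ stabilizer Co0 x1 ⊓ stabilizer Co0 y0, g • x = y := by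
  intro x hx y hy
  obtain ⟨g, e, hf⟩ := omL_trans CertM22.transM1 x hx y hy
  exact ⟨g, (mem_m22 g).mpr ⟨hf u0 ⟨U0, by simp, rfl⟩, hf x1 ⟨X1, by simp, rfl⟩,
    hf y0 ⟨Y0, by simp, rfl⟩⟩, e⟩

theorem arith_m22 : ∀ j, j ∣ 2 * 11 * (11 - 1) → j ∣ 40320 → (40320 / j) % 11 = 1 → j = 5 := by
  have h : ∀ j ≤ 220, j ∣ 220 → j ∣ 40320 → (40320 / j) % 11 = 1 → j = 5 := by decide +kernel
  intro j h1 h2 h3
  exact h j (Nat.le_of_dvd (by norm_num) h1) h1 h2 h3

/-- The stabiliser of `u0`, `x1` and `y0` is simple. -/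
theorem m22_simple :
    IsSimpleGroup ↥(stabilizer Co0 u0 ⊓ stabilizer Co0 x1 ⊓ stabilizer Co0 y0) := by
  classical
  have := co0_finite
  have hfin : (OmL CertM22.cM1).Finite := omL_finite CertM22.cardM1 (by norm_num)
  refine Cfsg.Agent.Lib.Helper7.SimpleOn.simple_two_p_on
    (G := ↥(stabilizer Co0 u0 ⊓ stabilizer Co0 x1 ⊓ stabilizer Co0 y0)) (α := leechLattice)
    hfin.toFinset ?_ (p := 11) (q := 5) (m := 40320) (by norm_num) (by norm_num) ?_ ?_ ?_ ?_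
    (by norm_num) (by norm_num) arith_m22
  · intro g x hx
    rw [Set.Finite.mem_toFinset] at hx ⊢
    exact l34_inv g.1 g.2 x hx
  · rw [← Set.ncard_eq_toFinset_card _ hfin, ncard_omL]
    exact CertM22.cardM1
  · intro g hg
    apply Subtype.ext
    obtain ⟨h1, h2, h3⟩ := (mem_m22 g.1).mp g.2
    apply eq_one_of_fix CertSpan.rH CertSpan.zeroH g.1
    apply fix_rows CertM22.hcM1 CertSpan.rH CertSpan.kH 3 CertSpan.rowsM g.1
    · intro i hi
      interval_cases i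
      · exact ⟨u0, rfl, h1⟩
      · exact ⟨x1, rfl, h2⟩
      · exact ⟨y0, rfl, h3⟩
    · intro x hx
      exact hg x (hfin.mem_toFinset.mpr hx)
  · intro a b c d ha hb hc hd hab hcd
    rw [Set.Finite.mem_toFinset] at ha hb hc hd
    obtain ⟨g1, hg1, e1⟩ := l34_trans a ha y1 y1_om
    obtain ⟨g2, hg2, e2⟩ := l34_trans c hc y1 y1_om
    have key : ∀ (g : Co0) (s t : leechLattice), g ∈ stabilizer Co0 u0 ⊓ stabilizer Co0 x1 ⊓
        stabilizer Co0 y0 → g • s = y1 → t ∈ OmL CertM22.cM1 → s ≠ t →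
        g • t ∈ OmL CertL34.cN1 := by
      intro g s t hg es ht hst
      have h1 := l34_inv g hg t ht
      rcases cover_M1 _ h1 with h | h
      · exfalso
        apply hst
        have : g • t = g • s := by
          rw [es]
          exact Subtype.ext h
        exact (smul_left_cancel g this).symm
      · exact (omL_cons CertL34.Y1 16 0 CertM22.cM1 _).mpr ⟨h1, by rw [h]; norm_num⟩
    have hb' := key g1 a b hg1 e1 hb hab
    have hd' := key g2 c d hg2 e2 hd hcd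
    obtain ⟨k, ek, hk⟩ := omL_trans CertL34.transN1 _ hb' _ hd'
    have hkm : k ∈ stabilizer Co0 u0 ⊓ stabilizer Co0 x1 ⊓ stabilizer Co0 y0 :=
      (mem_m22 k).mpr ⟨hk u0 ⟨U0, by simp, rfl⟩, hk x1 ⟨X1, by simp, rfl⟩,
        hk y0 ⟨Y0, by simp, rfl⟩⟩
    have hky : k • y1 = y1 := hk y1 ⟨CertL34.Y1, by simp, rfl⟩
    refine ⟨⟨g2⁻¹ * k * g1, Subgroup.mul_mem _ (Subgroup.mul_mem _ (Subgroup.inv_mem _ hg2) hkm)
      hg1⟩, ?_, ?_⟩
    · show (g2⁻¹ * k * g1) • a = c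
      rw [mul_smul, mul_smul, e1, hky, inv_smul_eq_iff, e2]
    · show (g2⁻¹ * k * g1) • b = d
      rw [mul_smul, mul_smul, ek, inv_smul_smul]
  · rw [card_m22]

end Cfsg.Agent.Lib.Helper27.SimpM22
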