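import Mathlib
import Cfsg.Prelude.Def_Sporadic_a
import Cfsg.Agent.Lib.Helper27.SimpM22
import Cfsg.Agent.Lib.Helper27.CertM22b
import Cfsg.Agent.Lib.Helper27.CertCovQ
import Cfsg.Agent.S0394
import Cfsg.Agent.S1573

/-!
The simplicity of the stabiliser of `v0` and `w0` (of order 898128000, on 2025 vectors).
-/

set_option autoImplicit false

namespace Cfsg.Agent.Lib.Helper27.SimpMcL

open Cfsg Cfsg.Agent.Lib.Helper27.Bits Cfsg.Agent.Lib.Helper27.Pk
open Cfsg.Agent.Lib.Helper27.MinTab Cfsg.Agent.Lib.Helper27.MinEnum Cfsg.Agent.Lib.Helper27.MinFast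
open Cfsg.Agent.Lib.Helper27.MinAll Cfsg.Agent.Lib.Helper27.LDot Cfsg.Agent.Lib.Helper27.LMat
open Cfsg.Agent.Lib.Helper27.Spread Cfsg.Agent.Lib.Helper27.Co0Act Cfsg.Agent.Lib.Helper27.LApp
open Cfsg.Agent.Lib.Helper27.OrbCert Cfsg.Agent.Lib.Helper27.CoGlue
open Cfsg.Agent.Lib.Helper27.CertBase Cfsg.Agent.Lib.Helper27.CoStd
open Cfsg.Agent.Lib.Helper27.SimpleCrit Cfsg.Agent.Lib.Helper27.Faith
open Cfsg.Agent.Lib.Helper27.SimpGlue Cfsg.Agent.Lib.Helper27.SimpM22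
open MulAction

/-! ### Orders -/

theorem card_co2 : Nat.card ↥(stabilizer Co0 v0) = 42305421312000 := by
  have := co0_finite
  have h := card_top_stab (G := Co0) v0 {x : leechLattice | sqNorm (x : GolayPt → ℤ) = 32} v0_norm
    (fun g a ha => by
      show sqNorm ((g • a : leechLattice) : GolayPt → ℤ) = 32
      rw [smul_norm]
      exact ha)
    (fun a ha => Cfsg.Agent.S0400.result v0 a v0_norm ha) 196560 (by
      rw [ncard_val (fun w => sqNorm w = 32)]
      exact Cfsg.Agent.S0394.result)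
  rw [Cfsg.Agent.S0397.result] at h
  exact Nat.eq_of_mul_eq_mul_right (by norm_num : 0 < 196560) (h.trans (by norm_num))

theorem mem_mcl (g : Co0) :
    g ∈ stabilizer Co0 v0 ⊓ stabilizer Co0 w0 ↔ g • v0 = v0 ∧ g • w0 = w0 := by
  simp only [Subgroup.mem_inf, mem_stabilizer_iff]

theorem card_mcl : Nat.card ↥(stabilizer Co0 v0 ⊓ stabilizer Co0 w0) = 898128000 := by
  have := co0_finite
  have h := card_stab_mul (stabilizer Co0 v0) w0
    {w : leechLattice | sqNorm (w : GolayPt → ℤ) = 32 ∧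
      dotInt (v0 : GolayPt → ℤ) (w : GolayPt → ℤ) = -8} ⟨w0_norm, dot_v0_w0⟩
    (fun g hg a ha => by
      show sqNorm ((g • a : leechLattice) : GolayPt → ℤ) = 32 ∧
        dotInt (v0 : GolayPt → ℤ) ((g • a : leechLattice) : GolayPt → ℤ) = -8
      rw [smul_norm, stab_dot g (mem_stabilizer_iff.mp hg)]
      exact ha)
    (fun a ha => by
      obtain ⟨g, h1, h2⟩ := Cfsg.Agent.S1575.result v0 w0 a v0_norm w0_norm ha.1 dot_v0_w0 ha.2
      exact ⟨g, mem_stabilizer_iff.mpr h1, h2⟩) 47104 (by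
      rw [ncard_val (fun w => sqNorm w = 32 ∧ dotInt (v0 : GolayPt → ℤ) w = -8)]
      exact (Cfsg.Agent.S1573.result (v0 : GolayPt → ℤ) v0.2 v0_norm).2.1)
  rw [card_co2] at h
  exact Nat.eq_of_mul_eq_mul_right (by norm_num : 0 < 47104) (h.trans (by norm_num))

/-! ### Relations between the standard vectors -/

theorem vecB_add {a b c : ℕ}
    (h : allB 24 (fun i => Nat.beq (Nat.add (lanesB a i) 8) (Nat.add (lanesB b i) (lanesB c i)))
      = true) : vecB a = vecB b + vecB c := by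
  funext p
  have e : lanesB a (idx p) + 8 = lanesB b (idx p) + lanesB c (idx p) :=
    Nat.eq_of_beq_eq_true ((allB_iff _ _).mp h (idx p) (idx_lt p))
  show ((lanesB a (idx p) : ℤ) - 8) = ((lanesB b (idx p) : ℤ) - 8) + ((lanesB c (idx p) : ℤ) - 8)
  have e' := congrArg (Nat.cast : ℕ → ℤ) e
  push_cast at e'
  linarith

theorem vecB_neg {a b : ℕ}
    (h : allB 24 (fun i => Nat.beq (Nat.add (lanesB a i) (lanesB b i)) 16) = true) :
    vecB a = -vecB b := by
  funext p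
  have e : lanesB a (idx p) + lanesB b (idx p) = 16 :=
    Nat.eq_of_beq_eq_true ((allB_iff _ _).mp h (idx p) (idx_lt p))
  show ((lanesB a (idx p) : ℤ) - 8) = -((lanesB b (idx p) : ℤ) - 8)
  have e' := congrArg (Nat.cast : ℕ → ℤ) e
  push_cast at e'
  linarith

theorem u0_eq : u0 = v0 + w0 := Subtype.ext (vecB_add (by decide +kernel))

theorem x1_eq : x1 = -xB := Subtype.ext (vecB_neg (by decide +kernel))

theorem y0_eq : y0 = v0 := rfl

theorem mem_m22b (g : Co0) :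
    g ∈ stabilizer Co0 v0 ⊓ stabilizer Co0 w0 ⊓ stabilizer Co0 xB ↔
      g • v0 = v0 ∧ g • w0 = w0 ∧ g • xB = xB := by
  simp only [Subgroup.mem_inf, mem_stabilizer_iff, and_assoc]

/-- The stabiliser of `v0`, `w0`, `xB` is the stabiliser of `u0`, `x1`, `y0`. -/
theorem m22b_eq : stabilizer Co0 v0 ⊓ stabilizer Co0 w0 ⊓ stabilizer Co0 xB
    = stabilizer Co0 u0 ⊓ stabilizer Co0 x1 ⊓ stabilizer Co0 y0 := by
  ext g
  rw [mem_m22b, mem_m22, u0_eq, x1_eq, y0_eq]
  constructor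
  · rintro ⟨h1, h2, h3⟩
    refine ⟨?_, ?_, h1⟩
    · rw [smul_add_l, h1, h2]
    · rw [smul_neg_l, h3]
  · rintro ⟨h1, h2, h3⟩
    refine ⟨h3, ?_, ?_⟩
    · rw [smul_add_l, h3] at h1
      exact add_left_cancel h1
    · rw [smul_neg_l] at h2
      exact neg_injective h2

theorem m22b_simple :
    IsSimpleGroup ↥(stabilizer Co0 v0 ⊓ stabilizer Co0 w0 ⊓ stabilizer Co0 xB) := by
  rw [m22b_eq]
  exact m22_simple

/-! ### The set of 2025 -/

theorem mcl_inv : ∀ g ∈ stabilizer Co0 v0 ⊓ stabilizer Co0 w0, ∀ x ∈ OmL CertMcL.cQ,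
    g • x ∈ OmL CertMcL.cQ := by
  intro g hg
  obtain ⟨h1, h2⟩ := (mem_mcl g).mp hg
  apply omL_inv
  intro c hc
  simp only [CertMcL.cQ, List.mem_cons, List.not_mem_nil, or_false] at hc
  rcases hc with rfl | rfl
  · exact ⟨v0, rfl, h1⟩
  · exact ⟨w0, rfl, h2⟩

theorem mcl_trans : ∀ x ∈ OmL CertMcL.cQ, ∀ y ∈ OmL CertMcL.cQ,
    ∃ g ∈ stabilizer Co0 v0 ⊓ stabilizer Co0 w0, g • x = y := by
  intro x hx y hy
  obtain ⟨g, e, hf⟩ := omL_trans CertMcL.transQ x hx y hy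
  exact ⟨g, (mem_mcl g).mpr ⟨hf v0 ⟨V0, by simp, rfl⟩, hf w0 ⟨W0, by simp, rfl⟩⟩, e⟩

theorem m22b_inv (tp tn : ℕ) : ∀ g ∈ stabilizer Co0 v0 ⊓ stabilizer Co0 w0 ⊓ stabilizer Co0 xB,
    ∀ x ∈ OmL ([(XB, tp, tn)] ++ CertMcL.cQ), g • x ∈ OmL ([(XB, tp, tn)] ++ CertMcL.cQ) := by
  intro g hg
  obtain ⟨h1, h2, h3⟩ := (mem_m22b g).mp hg
  apply omL_inv
  intro c hc
  simp only [CertMcL.cQ, List.cons_append, List.nil_append, List.mem_cons, List.not_mem_nil,
    or_false] at hc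
  rcases hc with rfl | rfl | rfl
  · exact ⟨xB, rfl, h3⟩
  · exact ⟨v0, rfl, h1⟩
  · exact ⟨w0, rfl, h2⟩

theorem m22b_trans {c : List (ℕ × ℕ × ℕ)}
    (htr : ∀ x ∈ Om c, ∀ y ∈ Om c, Rf ([U0, V0, W0, XB].map vecB) x y) :
    ∀ x ∈ OmL c, ∀ y ∈ OmL c,
      ∃ g ∈ stabilizer Co0 v0 ⊓ stabilizer Co0 w0 ⊓ stabilizer Co0 xB, g • x = y := by
  intro x hx y hy
  obtain ⟨g, e, hf⟩ := omL_trans htr x hx y hy
  exact ⟨g, (mem_m22b g).mpr ⟨hf v0 ⟨V0, by simp, rfl⟩, hf w0 ⟨W0, by simp, rfl⟩,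
    hf xB ⟨XB, by simp, rfl⟩⟩, e⟩

theorem cover_Q (z : GolayPt → ℤ) (hz : z ∈ Om CertMcL.cQ) :
    z = vecB XB ∨ dotInt (vecB XB) z = 0 ∨ dotInt (vecB XB) z = 16 ∨ dotInt (vecB XB) z = 8 := by
  have hq : ∀ k, CertCovQ.qQ k = true → k = 5 ∨
      ∃ v ∈ [((0 : ℕ), (0 : ℕ)), (16, 0), (8, 0)], condOK XB v.1 v.2 (mvB k) = true := by
    intro k hk
    unfold CertCovQ.qQ at hk
    rw [Bool.or_eq_true, Bool.or_eq_true, Bool.or_eq_true] at hk
    rcases hk with ((hk | hk) | hk) | hk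
    · left
      exact Nat.eq_of_beq_eq_true hk
    · right
      exact ⟨(0, 0), by simp, hk⟩
    · right
      exact ⟨(16, 0), by simp, hk⟩
    · right
      exact ⟨(8, 0), by simp, hk⟩
  rcases cover_of CertMcL.tabQ CertMcL.hcQ XB 5 CertCovQ.qQ [(0, 0), (16, 0), (8, 0)] valid_XB
    hq CertCovQ.coverQ z hz with h | ⟨v, hv, h⟩
  · left
    rw [h, vecB_mv XB_eq (by decide) (by decide)]
  · simp only [List.mem_cons, List.not_mem_nil, or_false] at hv
    rcases hv with rfl | rfl | rfl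
    · right
      left
      rw [h]
      norm_num
    · right
      right
      left
      rw [h]
      norm_num
    · right
      right
      right
      rw [h]
      norm_num

/-- The stabiliser of `v0` and `w0` is simple. -/
theorem mcl_simple : IsSimpleGroup ↥(stabilizer Co0 v0 ⊓ stabilizer Co0 w0) := by
  have := co0_finite
  have hfin : (OmL CertMcL.cQ).Finite := omL_finite CertMcL.cardQ (by norm_num)
  refine simple_sub (stabilizer Co0 v0 ⊓ stabilizer Co0 w0) (OmL CertMcL.cQ) hfin mcl_inv mcl_trans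
    ?_ xB xB_om m22b_simple ((sums [330, 462, 1232]).map (· + 1)) ?_ 2025 898128000
    (by rw [ncard_omL]; exact CertMcL.cardQ) card_mcl (by decide) 5 3 (by norm_num) (by norm_num)
    (by norm_num) (by norm_num) (by norm_num) (by decide)
  · intro g hg hs
    obtain ⟨h1, h2⟩ := (mem_mcl g).mp hg
    apply eq_one_of_fix CertSpan.rQ CertSpan.zeroQ g
    apply fix_rows CertMcL.hcQ CertSpan.rQ CertSpan.kQ 2 CertSpan.rowsQ g
    · intro i hi
      interval_cases i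
      · exact ⟨v0, rfl, h1⟩
      · exact ⟨w0, rfl, h2⟩
    · exact hs
  · intro T hTS hωT hTinv
    refine horb_of_suborbits (stabilizer Co0 v0 ⊓ stabilizer Co0 w0 ⊓ stabilizer Co0 xB)
      (OmL CertMcL.cQ) hfin xB (fun k hk => ((mem_m22b k).mp hk).2.2)
      [(OmL CertM22b.cS1, 330), (OmL CertM22b.cS2, 462), (OmL CertM22b.cS3, 1232)] ?_ ?_ T hTS
      hωT hTinv
    · intro O hO
      simp only [List.mem_cons, List.not_mem_nil, or_false] at hO
      rcases hO with rfl | rfl | rfl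
      · exact ⟨(ncard_omL _).trans CertM22b.cardS1, m22b_inv 0 0, m22b_trans CertM22b.transS1⟩
      · exact ⟨(ncard_omL _).trans CertM22b.cardS2, m22b_inv 16 0, m22b_trans CertM22b.transS2⟩
      · exact ⟨(ncard_omL _).trans CertM22b.cardS3, m22b_inv 8 0, m22b_trans CertM22b.transS3⟩
    · intro s hs
      rcases cover_Q _ hs with h | h | h | h
      · left
        exact Subtype.ext h
      · right
        exact ⟨(OmL CertM22b.cS1, 330), by simp,
          (omL_cons XB 0 0 CertMcL.cQ s).mpr ⟨hs, by rw [h]; norm_num⟩⟩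
      · right
        exact ⟨(OmL CertM22b.cS2, 462), by simp,
          (omL_cons XB 16 0 CertMcL.cQ s).mpr ⟨hs, by rw [h]; norm_num⟩⟩
      · right
        exact ⟨(OmL CertM22b.cS3, 1232), by simp,
          (omL_cons XB 8 0 CertMcL.cQ s).mpr ⟨hs, by rw [h]; norm_num⟩⟩

end Cfsg.Agent.Lib.Helper27.SimpMcL
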