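import Mathlib
import Cfsg.Prelude.Def_Sporadic_a
import Cfsg.Agent.Lib.Helper27.OrbCert

/-!
Symmetric packed matrices give involutions of the lattice; a kernel test that a matrix moves
every vector of a certified set.
-/

set_option autoImplicit false

namespace Cfsg.Agent.Lib.Helper27.Invol

open Cfsg Cfsg.Agent.Lib.Helper27.Bits Cfsg.Agent.Lib.Helper27.Pk
open Cfsg.Agent.Lib.Helper27.MinTab Cfsg.Agent.Lib.Helper27.MinEnum Cfsg.Agent.Lib.Helper27.MinFast
open Cfsg.Agent.Lib.Helper27.MinAll Cfsg.Agent.Lib.Helper27.LDot Cfsg.Agent.Lib.Helper27.LMat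
open Cfsg.Agent.Lib.Helper27.Spread Cfsg.Agent.Lib.Helper27.Co0Act Cfsg.Agent.Lib.Helper27.LApp
open Cfsg.Agent.Lib.Helper27.OrbCert

/-- the packed matrix is symmetric -/
noncomputable def symB (M : ℕ) : Bool :=
  allB 24 (fun i => allB 24 (fun j => Nat.beq (Nl M i j) (Nl M j i)))

theorem symB_spec {M : ℕ} (h : symB M = true) : ∀ i < 24, ∀ j < 24, Nz M i j = Nz M j i := by
  intro i hi j hj
  unfold Nz
  rw [Nat.eq_of_beq_eq_true ((allB_iff _ _).mp ((allB_iff _ _).mp h i hi) j hj)]

theorem matRaw_smul8 (M : ℕ) (y : GolayPt → ℤ) :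
    matRaw M (fun p => 8 * y p) = fun p => 8 * matRaw M y p := by
  funext p
  unfold matRaw
  rw [Finset.mul_sum]
  apply Finset.sum_congr rfl
  intro q _
  ring

theorem matRaw_sq {M : ℕ} (h : MatOK M) (hs : symB M = true) (x : GolayPt → ℤ) :
    matRaw M (matRaw M x) = fun p => 64 * x p := by
  funext p
  unfold matRaw
  have e1 : ∀ q : GolayPt, Nz M (idx p) (idx q) * ∑ r, Nz M (idx q) (idx r) * x r
      = ∑ r, (Nz M (idx q) (idx p) * Nz M (idx q) (idx r)) * x r := by
    intro q
    rw [Finset.mul_sum, symB_spec hs _ (idx_lt p) _ (idx_lt q)]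
    apply Finset.sum_congr rfl
    intro r _
    ring
  simp_rw [e1]
  rw [Finset.sum_comm]
  have e2 : ∀ r : GolayPt, ∑ q : GolayPt, (Nz M (idx q) (idx p) * Nz M (idx q) (idx r)) * x r
      = (if p = r then 64 else 0) * x r := by
    intro r
    rw [← Finset.sum_mul, orth_pt h]
  simp_rw [e2]
  simp only [ite_mul, zero_mul, Finset.sum_ite_eq, Finset.mem_univ, if_true]

theorem matAct_sq {M : ℕ} (h : MatOK M) (hs : symB M = true) {x : GolayPt → ℤ}
    (hx : x ∈ leechLattice) : matAct M (matAct M x) = x := by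
  have hd := (mat_mem h hx).1
  have hy := (mat_mem h hx).2
  have hd2 := (mat_mem h hy).1
  have e : matRaw M x = fun p => 8 * matAct M x p := by
    funext p
    unfold matAct
    rw [Int.mul_ediv_cancel' (hd p)]
  have h1 := matRaw_sq h hs x
  rw [e, matRaw_smul8] at h1
  funext p
  have h2 : 8 * matRaw M (matAct M x) p = 64 * x p := congrFun h1 p
  have h3 : matRaw M (matAct M x) p = 8 * matAct M (matAct M x) p := by
    show _ = 8 * (matRaw M (matAct M x) p / 8)
    rw [Int.mul_ediv_cancel' (hd2 p)]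
  rw [h3] at h2
  linarith

/-- the automorphism of a packed matrix, as an element of the group -/
noncomputable def matCo (M : ℕ) (h : MatOK M) : Co0 := ⟨matEquiv M h, matEquiv_mem_Co0 M h⟩

theorem matCo_val (M : ℕ) (h : MatOK M) (v : leechLattice) :
    ((matCo M h • v : leechLattice) : GolayPt → ℤ) = matAct M v := rfl

theorem matCo_sq {M : ℕ} (h : MatOK M) (hs : symB M = true) : matCo M h * matCo M h = 1 := by
  apply Subtype.ext
  apply Equiv.ext
  intro v
  apply Subtype.ext
  show matAct M (matAct M v) = v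
  exact matAct_sq h hs v.2

/-- the test that the matrix maps the vector of row `i` to the vector of a different code -/
noncomputable def moveRow (M Cv : ℕ) (T img : ℕ → ℕ) (i : ℕ) : Bool :=
  Nat.blt (img i) KTOT && validKF (img i) && !(Nat.beq (img i) (rCode (T i)))
    && appOK M Cv (mvS (rCode (T i))) (mvB (img i))

theorem move_spec {conds : List (ℕ × ℕ × ℕ)} {T : ℕ → ℕ} {n : ℕ} (htab : TabOK conds T n)
    (hc : validConds conds = true) {M Cv : ℕ} (hM : matChk M Cv = true) (img : ℕ → ℕ)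
    (hmv : allB n (moveRow M Cv T img) = true) : ∀ z ∈ Om conds, matAct M z ≠ z := by
  intro z hz
  obtain ⟨k, hk, hin, rfl⟩ := om_code hc hz
  obtain ⟨i, hi, rfl⟩ := htab.surj hk hin
  have h := (allB_iff _ _).mp hmv i hi
  unfold moveRow at h
  rw [Bool.and_eq_true, Bool.and_eq_true, Bool.and_eq_true] at h
  obtain ⟨⟨⟨h1, h2⟩, h3⟩, h4⟩ := h
  obtain ⟨hm1, hm2, hm3⟩ := matChk_sound hM
  rw [hm3] at h4
  have hp : img i < KTOT := Nat.blt_eq.mp h1
  have hvp : validK (img i) = true := by
    rw [← validKF_eq]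
    exact h2
  have hact := app_mv hm2 hk (inOm_valid hin).1 hp hvp h4
  rw [hact]
  intro heq
  have := mv_inj hp hvp hk (inOm_valid hin).1 heq
  rw [this] at h3
  simp at h3

/-- A single matrix passing `gensOK` passes the matrix test and fixes the base vectors. -/
theorem gens_single {F : List ℕ} {M Cv : ℕ} (h : gensOK F [(M, Cv)] = true) :
    matChk M Cv = true ∧ ∀ b ∈ F, matAct M (vecB b) = vecB b := by
  unfold gensOK at h
  rw [Bool.and_eq_true, List.all_eq_true, List.all_eq_true] at h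
  obtain ⟨hF, hG⟩ := h
  have hg := hG (M, Cv) (List.mem_singleton.mpr rfl)
  rw [Bool.and_eq_true, List.all_eq_true] at hg
  refine ⟨hg.1, ?_⟩
  intro b hb
  obtain ⟨-, hm2, hm3⟩ := matChk_sound hg.1
  have h2 := hg.2 b hb
  have h2' : appOK M (cvOf M) (spreadS b) b = true := by
    rw [← hm3]
    exact h2
  exact app_lanes hm2 (hF b hb) (hF b hb) h2'

end Cfsg.Agent.Lib.Helper27.Invol
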