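import Mathlib
import Cfsg.Prelude.Def_Sporadic_a
import Cfsg.Agent.Lib.Helper27.OrbCert
import Cfsg.Agent.Lib.Helper27.Invol
import Cfsg.Agent.Lib.Helper27.Faith
import Cfsg.Agent.Lib.Helper27.CertSpan2
import Cfsg.Agent.Lib.Helper27.CoGlue

/-!
Products of automorphisms of the lattice given by packed matrices, verified by kernel evaluation
on 24 spanning vectors; and the orbit certificate with all its automorphisms taken in a given
subgroup.
-/

set_option autoImplicit false
set_option maxRecDepth 100000

namespace Cfsg.Agent.Lib.Helper27.SlpLib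

open Cfsg Cfsg.Agent.Lib.Helper27.Bits Cfsg.Agent.Lib.Helper27.Pk
open Cfsg.Agent.Lib.Helper27.MinTab Cfsg.Agent.Lib.Helper27.MinEnum Cfsg.Agent.Lib.Helper27.MinFast
open Cfsg.Agent.Lib.Helper27.MinAll Cfsg.Agent.Lib.Helper27.LDot Cfsg.Agent.Lib.Helper27.LMat
open Cfsg.Agent.Lib.Helper27.Spread Cfsg.Agent.Lib.Helper27.Co0Act Cfsg.Agent.Lib.Helper27.LApp
open Cfsg.Agent.Lib.Helper27.OrbCert Cfsg.Agent.Lib.Helper27.CoGlue
open Cfsg.Agent.Lib.Helper27.Invol Cfsg.Agent.Lib.Helper27.Faith

/-- the automorphism of a checked packed matrix -/
noncomputable def elt (N : ℕ × ℕ) (h : matChk N.1 N.2 = true) : Co0 :=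
  matCo N.1 (matChk_sound h).1

theorem elt_val (N : ℕ × ℕ) (h : matChk N.1 N.2 = true) (v : leechLattice) :
    ((elt N h • v : leechLattice) : GolayPt → ℤ) = matAct N.1 v := rfl

/-- the action on a valid packed vector, from the kernel test -/
theorem elt_app {N : ℕ × ℕ} (h : matChk N.1 N.2 = true) {X Y : ℕ} (hX : validB X = true)
    (hY : validB Y = true) (hok : appOK N.1 N.2 (spreadS X) Y = true) (v : leechLattice)
    (hv : (v : GolayPt → ℤ) = vecB X) : ((elt N h • v : leechLattice) : GolayPt → ℤ) = vecB Y := by
  obtain ⟨-, hm2, hm3⟩ := matChk_sound h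
  rw [elt_val, hv]
  rw [hm3] at hok
  exact app_lanes hm2 hX hY hok

/-- the test on one packed vector that `A * B = C` -/
noncomputable def prodRow (A B C : ℕ × ℕ) (b : ℕ) : Bool :=
  validB b && validB (appY B.1 B.2 (spreadS b)) && validB (appY C.1 C.2 (spreadS b))
    && appOK B.1 B.2 (spreadS b) (appY B.1 B.2 (spreadS b))
    && appOK A.1 A.2 (spreadS (appY B.1 B.2 (spreadS b))) (appY C.1 C.2 (spreadS b))
    && appOK C.1 C.2 (spreadS b) (appY C.1 C.2 (spreadS b))

/-- the test that `A * B = C`, on the 24 vectors of a spanning certificate -/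
noncomputable def prodOK (A B C : ℕ × ℕ) : Bool :=
  allB 24 (fun i => prodRow A B C (CertSpan2.rZ i))

theorem rZ_mem (i : ℕ) (hi : i < 24) : vecB (CertSpan2.rZ i) ∈ leechLattice := by
  have h := (allB_iff _ _).mp CertSpan2.rowsZ i hi
  rw [Bool.or_eq_true] at h
  rcases h with h | h
  · exact absurd (Nat.blt_eq.mp h) (by omega)
  · rw [Bool.and_eq_true, Bool.and_eq_true] at h
    obtain ⟨h1, h2, h3⟩ := h
    have hk : CertSpan2.kZ i < KTOT := Nat.blt_eq.mp h2
    have hm := mem_om (conds := []) (by decide) hk h3
    have e : vecB (CertSpan2.rZ i) = vecL (laneRef (CertSpan2.kZ i)) :=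
      vecB_mv (Nat.eq_of_beq_eq_true h1) hk (inOm_valid h3).1
    rw [e]
    exact hm.1

/-- Two automorphisms agreeing on the 24 vectors of the certificate are equal. -/
theorem eq_of_agree (g h : Co0)
    (hag : ∀ i < 24, ∀ hm : vecB (CertSpan2.rZ i) ∈ leechLattice,
      g • (⟨vecB (CertSpan2.rZ i), hm⟩ : leechLattice) = h • ⟨vecB (CertSpan2.rZ i), hm⟩) :
    g = h := by
  have h1 : h⁻¹ * g = 1 := by
    apply eq_one_of_fix CertSpan2.rZ CertSpan2.zeroZ
    intro i hi
    refine ⟨⟨vecB (CertSpan2.rZ i), rZ_mem i hi⟩, rfl, ?_⟩
    rw [mul_smul, inv_smul_eq_iff]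
    exact hag i hi _
  exact (inv_mul_eq_one.mp h1).symm

theorem elt_mul {A B C : ℕ × ℕ} (hA : matChk A.1 A.2 = true) (hB : matChk B.1 B.2 = true)
    (hC : matChk C.1 C.2 = true) (hp : prodOK A B C = true) : elt A hA * elt B hB = elt C hC := by
  apply eq_of_agree
  intro i hi hm
  have h := (allB_iff _ _).mp hp i hi
  unfold prodRow at h
  simp only [Bool.and_eq_true] at h
  obtain ⟨⟨⟨⟨⟨v1, v2⟩, v3⟩, a1⟩, a2⟩, a3⟩ := h
  apply Subtype.ext
  rw [mul_smul]
  have e1 := elt_app hB v1 v2 a1 ⟨vecB (CertSpan2.rZ i), hm⟩ rfl
  have e2 := elt_app hA v2 v3 a2 (elt B hB • ⟨vecB (CertSpan2.rZ i), hm⟩) e1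
  have e3 := elt_app hC v1 v3 a3 ⟨vecB (CertSpan2.rZ i), hm⟩ rfl
  rw [e2, e3]

/-- the packed identity matrix with its correction vector -/
def nI : ℕ × ℕ :=
  (0x100080008000800080008000800080008000800080008000800080008000800080008000800080008000800080008001000010008000800080008000800080008000800080008000800080008000800080008000800080008000800080008001000080001000800080008000800080008000800080008000800080008000800080008000800080008000800080008001000080008000100080008000800080008000800080008000800080008000800080008000800080008000800080008001000080008000800010008000800080008000800080008000800080008000800080008000800080008000800080008001000080008000800080001000800080008000800080008000800080008000800080008000800080008000800080008001000080008000800080008000100080008000800080008000800080008000800080008000800080008000800080008001000080008000800080008000800010008000800080008000800080008000800080008000800080008000800080008001000080008000800080008000800080001000800080008000800080008000800080008000800080008000800080008001000080008000800080008000800080008000100080008000800080008000800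080008000800080008000800080008001000080008000800080008000800080008000800010008000800080008000800080008000800080008000800080008001000080008000800080008000800080008000800080001000800080008000800080008000800080008000800080008001000080008000800080008000800080008000800080008000100080008000800080008000800080008000800080008001000080008000800080008000800080008000800080008000800010008000800080008000800080008000800080008001000080008000800080008000800080008000800080008000800080001000800080008000800080008000800080008001000080008000800080008000800080008000800080008000800080008000100080008000800080008000800080008001000080008000800080008000800080008000800080008000800080008000800010008000800080008000800080008001000080008000800080008000800080008000800080008000800080008000800080001000800080008000800080008001000080008000800080008000800080008000800080008000800080008000800080008000100080008000800080008001000080008000800080008000800080008000800080008000800080008000800080008000800010008000800080008001000080008000800080008000800080008000800080008000800080008000800080008000800080001000800080008001000080008000800080008000800080008000800080008000800080008000800080008000800080008000100080008001000080008000800080008000800080008000800080008000800080008000800080008000800080008000800010008001000080008000800080008000800080008000800080008000800080008000800080008000800080008000800080001001000080008000800080008000800080008000800080008000800080008000800080008000800080008000800080008,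 0xc800c800c800c800c800c800c800c800c800c800c800c800c800c800c800c800c800c800c800c800c800c800c800c8)

theorem cI : matChk nI.1 nI.2 = true := by decide +kernel

theorem fixI : allB 24 (fun i => validB (CertSpan2.rZ i) &&
    appOK nI.1 nI.2 (spreadS (CertSpan2.rZ i)) (CertSpan2.rZ i)) = true := by decide +kernel

theorem elt_I : elt nI cI = 1 := by
  apply eq_of_agree
  intro i hi hm
  have h := (allB_iff _ _).mp fixI i hi
  rw [Bool.and_eq_true] at h
  apply Subtype.ext
  rw [one_smul]
  exact elt_app cI h.1 h.1 h.2 ⟨vecB (CertSpan2.rZ i), hm⟩ rfl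

/-- A product equal to the identity matrix. -/
theorem elt_mul_one {A B : ℕ × ℕ} (hA : matChk A.1 A.2 = true) (hB : matChk B.1 B.2 = true)
    (hp : prodOK A B nI = true) : elt A hA * elt B hB = 1 := by
  rw [elt_mul hA hB cI hp, elt_I]

/-- The automorphism fixes a valid packed vector of the lattice, from the kernel test. -/
theorem elt_fix {N : ℕ × ℕ} (h : matChk N.1 N.2 = true) {X : ℕ} (hX : validB X = true)
    (hok : appOK N.1 N.2 (spreadS X) X = true) (v : leechLattice)
    (hv : (v : GolayPt → ℤ) = vecB X) : elt N h • v = v := by
  apply Subtype.ext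
  rw [elt_app h hX hX hok v hv, hv]

/-! ### The orbit relation inside a subgroup -/

/-- `y` is the image of `x` under an automorphism in `K` fixing every vector of `F`. -/
def RfK (K : Subgroup Co0) (F : List (GolayPt → ℤ)) (x y : GolayPt → ℤ) : Prop :=
  ∃ f : Co0, f ∈ K ∧ (∀ b ∈ F, ∀ hb : b ∈ leechLattice, f • (⟨b, hb⟩ : leechLattice) = ⟨b, hb⟩) ∧
    ∃ (hx : x ∈ leechLattice) (hy : y ∈ leechLattice), f • (⟨x, hx⟩ : leechLattice) = ⟨y, hy⟩

theorem RfK.refl (K : Subgroup Co0) (F : List (GolayPt → ℤ)) {x : GolayPt → ℤ}
    (hx : x ∈ leechLattice) : RfK K F x x :=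
  ⟨1, K.one_mem, fun _ _ _ => one_smul _ _, hx, hx, one_smul _ _⟩

theorem RfK.symm {K : Subgroup Co0} {F : List (GolayPt → ℤ)} {x y : GolayPt → ℤ}
    (h : RfK K F x y) : RfK K F y x := by
  obtain ⟨f, hf, hF, hx, hy, e⟩ := h
  refine ⟨f⁻¹, K.inv_mem hf, ?_, hy, hx, ?_⟩
  · intro b hb hbl
    rw [inv_smul_eq_iff]
    exact (hF b hb hbl).symm
  · rw [inv_smul_eq_iff]
    exact e.symm

theorem RfK.trans {K : Subgroup Co0} {F : List (GolayPt → ℤ)} {x y z : GolayPt → ℤ}
    (h1 : RfK K F x y) (h2 : RfK K F y z) : RfK K F x z := by
  obtain ⟨f, hf, hF, hx, hy, e⟩ := h1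
  obtain ⟨g, hg, hG, hy', hz, e'⟩ := h2
  refine ⟨g * f, K.mul_mem hg hf, ?_, hx, hz, ?_⟩
  · intro b hb hbl
    rw [mul_smul, hF b hb hbl, hG b hb hbl]
  · rw [mul_smul, e, e']

/-- The certificate: every vector of the set is related to the vector of the root row by an
automorphism of the subgroup, when the subgroup contains the automorphisms of the generators. -/
theorem orb_rfK (K : Subgroup Co0) (F : List ℕ) (G : List (ℕ × ℕ)) (conds : List (ℕ × ℕ × ℕ))
    (T : ℕ → ℕ) (n root : ℕ) (hG : gensOK F G = true)
    (hK : ∀ g ∈ G, ∀ h : matChk g.1 g.2 = true, elt g h ∈ K)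
    (hc : validConds conds = true)
    (htab : TabOK conds T n) (hrows : allB n (linkRow G T n root) = true)
    (hroot : root < n) :
    ∀ x ∈ Om conds, RfK K (F.map vecB) x (vecL (laneRef (rCode (T root)))) := by
  classical
  have hrow := (allB_iff _ _).mp hrows
  unfold gensOK at hG
  rw [Bool.and_eq_true, List.all_eq_true, List.all_eq_true] at hG
  obtain ⟨hF, hG⟩ := hG
  have hlat : ∀ i < n, vecL (laneRef (rCode (T i))) ∈ leechLattice := by
    intro i hi
    exact (mem_om hc (htab.lt i hi) (htab.mem i hi)).1
  have key : ∀ d, ∀ i < n, rDep (T i) ≤ d →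
      RfK K (F.map vecB) (vecL (laneRef (rCode (T i)))) (vecL (laneRef (rCode (T root)))) := by
    intro d
    induction d with
    | zero =>
      intro i hi hd
      have h := hrow i hi
      unfold linkRow at h
      rw [Bool.or_eq_true] at h
      rcases h with h2 | h2
      · have e : i = root := Nat.eq_of_beq_eq_true h2
        rw [e]
        exact RfK.refl K _ (hlat root hroot)
      · rw [Bool.and_eq_true, Bool.and_eq_true] at h2
        have := Nat.blt_eq.mp h2.1.2
        omega
    | succ d ih =>
      intro i hi hd
      have h := hrow i hi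
      unfold linkRow at h
      rw [Bool.or_eq_true] at h
      rcases h with h2 | h2
      · have e : i = root := Nat.eq_of_beq_eq_true h2
        rw [e]
        exact RfK.refl K _ (hlat root hroot)
      · rw [Bool.and_eq_true, Bool.and_eq_true] at h2
        obtain ⟨⟨h3, h4⟩, h5⟩ := h2
        have hj : rPar (T i) < n := Nat.blt_eq.mp h3
        have hdj : rDep (T (rPar (T i))) < rDep (T i) := Nat.blt_eq.mp h4
        have hrec := ih (rPar (T i)) hj (by omega)
        refine RfK.trans ?_ hrec
        cases hg : G[rGen (T i)]? with
        | none =>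
          rw [hg] at h5
          exact absurd h5 (by simp)
        | some g =>
          rw [hg] at h5
          have hgm : g ∈ G := List.mem_of_getElem? hg
          have hgg := hG g hgm
          rw [Bool.and_eq_true, List.all_eq_true] at hgg
          obtain ⟨hm1, hm2, hm3⟩ := matChk_sound hgg.1
          have h5' : appOK g.1 (cvOf g.1) (mvS (rCode (T i))) (mvB (rCode (T (rPar (T i))))) = true := by
            rw [← hm3]
            exact h5
          have hi1 := inOm_valid (htab.mem i hi)
          have hj1 := inOm_valid (htab.mem _ hj)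
          have hact := app_mv hm2 (htab.lt i hi) hi1.1 (htab.lt _ hj) hj1.1 h5'
          refine ⟨elt g hgg.1, hK g hgm hgg.1, ?_, hlat i hi, hlat _ hj, ?_⟩
          · intro b' hb' hbl
            rw [List.mem_map] at hb'
            obtain ⟨b, hb, rfl⟩ := hb'
            apply Subtype.ext
            rw [elt_val]
            have h2 := hgg.2 b hb
            rw [hm3] at h2
            exact app_lanes hm2 (hF b hb) (hF b hb) h2
          · apply Subtype.ext
            rw [elt_val]
            exact hact
  intro x hx
  obtain ⟨k, hk, hin, rfl⟩ := om_code hc hx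
  obtain ⟨i, hi, rfl⟩ := htab.surj hk hin
  exact key _ i hi (le_refl _)

/-- Transitivity inside the subgroup, for elements of the lattice. -/
theorem transK {K : Subgroup Co0} {F : List ℕ} {conds : List (ℕ × ℕ × ℕ)} {r : GolayPt → ℤ}
    (h : ∀ x ∈ Om conds, RfK K (F.map vecB) x r) (x y : leechLattice)
    (hx : (x : GolayPt → ℤ) ∈ Om conds) (hy : (y : GolayPt → ℤ) ∈ Om conds) :
    ∃ g : Co0, g ∈ K ∧ g • x = y ∧ ∀ a : leechLattice,
      (∃ b ∈ F, (a : GolayPt → ℤ) = vecB b) → g • a = a := by
  obtain ⟨f, hf, hfix, hx1, hy1, e⟩ := (h _ hx).trans (h _ hy).symm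
  refine ⟨f, hf, ?_, ?_⟩
  · exact e
  · rintro a ⟨b, hb, hab⟩
    have h1 := hfix (vecB b) (List.mem_map.mpr ⟨b, hb, rfl⟩) (by rw [← hab]; exact a.2)
    have e2 : a = ⟨vecB b, by rw [← hab]; exact a.2⟩ := Subtype.ext hab
    rw [e2]
    exact h1

end Cfsg.Agent.Lib.Helper27.SlpLib
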