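import Mathlib
import Cfsg.Agent.Lib.Helper25.ACStmt
import Cfsg.Agent.Lib.Helper25.ACOddStmt

/-!
S3911 piece BURNA (helper27, second seat): `G = M P`, `P` a cyclic Sylow `p`-subgroup not inside
`M ⊴ G`: `N_G(P) ≤ C_G(P)`.
-/

set_option autoImplicit false

universe u

namespace Cfsg.Agent.Lib.Helper27.AOBURNA

open Cfsg.Agent.Lib.Helper25.ACStmt Cfsg.Agent.Lib.Helper25.ACOddStmt

/-- conjugating `k` times -/
theorem conj_pow_eq {G : Type u} [Group G] (g x : G) (a : ℕ) (h : g * x * g⁻¹ = x ^ a) (k : ℕ) :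
    g ^ k * x * (g ^ k)⁻¹ = x ^ (a ^ k) := by
  induction k with
  | zero => simp
  | succ k ih =>
    have h1 : g ^ (k + 1) * x * (g ^ (k + 1))⁻¹ = g * (g ^ k * x * (g ^ k)⁻¹) * g⁻¹ := by
      rw [pow_succ']
      group
    rw [h1, ih]
    have h2 : g * x ^ (a ^ k) * g⁻¹ = (g * x * g⁻¹) ^ (a ^ k) := by
      rw [conj_pow]
    rw [h2, h, ← pow_mul, pow_succ']

theorem commute_of_pow {G : Type u} [Group G] (h x : G) (c u : ℕ) (hcu : Nat.Coprime c u)
    (hA : Commute (h ^ c) x) (hB : h ^ u = 1) : Commute h x := by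
  obtain ⟨i, j, hij⟩ := Nat.isCoprime_iff_coprime.mpr hcu
  have e : h = (h ^ c) ^ i := by
    have e1 : h ^ ((c : ℤ) * i + (u : ℤ) * j) = (h ^ c) ^ i * (h ^ u) ^ j := by
      rw [zpow_add, zpow_mul, zpow_mul, zpow_natCast, zpow_natCast]
    have e2 : (c : ℤ) * i + (u : ℤ) * j = 1 := by linear_combination hij
    rw [e2, zpow_one, hB, one_zpow, mul_one] at e1
    exact e1
  rw [e]
  exact hA.zpow_left i

theorem main : BurnA.{u} := by
  intro G _ _ p _ P hcyc M hM hPM hsup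
  classical
  have hp : p.Prime := Fact.out
  have := hcyc
  have := hM
  obtain ⟨⟨x, hxP⟩, hgen⟩ := IsCyclic.exists_generator (α := ↥(P : Subgroup G))
  have hPx : ∀ y ∈ (P : Subgroup G), ∃ k : ℤ, x ^ k = y := by
    intro y hy
    obtain ⟨k, hk⟩ := Subgroup.mem_zpowers_iff.mp (hgen ⟨y, hy⟩)
    refine ⟨k, ?_⟩
    have h0 := congrArg Subtype.val hk
    simpa using h0
  have hxM : x ∉ M := by
    intro hx
    apply hPM
    intro y hy
    obtain ⟨k, rfl⟩ := hPx y hy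
    exact M.zpow_mem hx k
  have hord : orderOf x = Nat.card (P : Subgroup G) := by
    have h1 : orderOf (⟨x, hxP⟩ : (P : Subgroup G)) = Nat.card (P : Subgroup G) :=
      orderOf_eq_card_of_forall_mem_zpowers hgen
    rw [← h1, Subgroup.orderOf_mk]
  obtain ⟨m, hm⟩ : ∃ m, Nat.card (P : Subgroup G) = p ^ m := ⟨_, P.card_eq_multiplicity⟩
  have hm1 : m ≠ 0 := by
    rintro rfl
    rw [pow_zero] at hm
    rw [hm, orderOf_eq_one_iff] at hord
    rw [hord] at hxM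
    exact hxM M.one_mem
  obtain ⟨m', rfl⟩ := Nat.exists_eq_add_one_of_ne_zero hm1
  -- commutators with `x` lie in `M`
  have hcomm : ∀ g : G, g * x * g⁻¹ * x⁻¹ ∈ M := by
    intro g
    have hg : g ∈ ((M ⊔ (P : Subgroup G) : Subgroup G) : Set G) := by
      rw [hsup]
      exact Subgroup.mem_top g
    rw [Subgroup.normal_mul] at hg
    obtain ⟨n, hn, y, hy, rfl⟩ := Set.mem_mul.mp hg
    obtain ⟨k, rfl⟩ := hPx y hy
    have hc : Commute (x ^ k) x := (Commute.refl x).zpow_left k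
    have h0 : x ^ k * x * (x ^ k)⁻¹ = x := by
      rw [hc.eq, mul_inv_cancel_right]
    have h1 : n * x ^ k * x * (n * x ^ k)⁻¹ * x⁻¹ = n * (x * n⁻¹ * x⁻¹) := by
      calc n * x ^ k * x * (n * x ^ k)⁻¹ * x⁻¹
          = n * (x ^ k * x * (x ^ k)⁻¹) * n⁻¹ * x⁻¹ := by group
        _ = n * x * n⁻¹ * x⁻¹ := by rw [h0]
        _ = n * (x * n⁻¹ * x⁻¹) := by group
    rw [h1]
    exact M.mul_mem hn (hM.conj_mem _ (M.inv_mem hn) x)
  -- key: `g ^ (p ^ m')` commutes with `x` for `g` in the normalizer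
  have hkey : ∀ g ∈ Subgroup.normalizer ((P : Subgroup G) : Set G),
      Commute (g ^ (p ^ m')) x := by
    intro g hg
    have h1 : g * x * g⁻¹ ∈ (P : Subgroup G) := (Subgroup.mem_normalizer_iff.mp hg x).mp hxP
    obtain ⟨a, ha⟩ : ∃ a : ℕ, x ^ a = g * x * g⁻¹ := by
      obtain ⟨k, hk⟩ := hPx _ h1
      have h2 : g * x * g⁻¹ ∈ Subgroup.zpowers x := ⟨k, hk⟩
      exact (Submonoid.mem_powers_iff _ _).mp (mem_powers_iff_mem_zpowers.mpr h2)
    have hpZ : _root_.Prime (p : ℤ) := Nat.prime_iff_prime_int.mp hp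
    have hdiv : (p : ℤ) ∣ (a : ℤ) - 1 := by
      by_contra hnd
      have hcop : IsCoprime ((a : ℤ) - 1) ((p : ℤ) ^ (m' + 1)) :=
        (IsCoprime.symm (hpZ.coprime_iff_not_dvd.mpr hnd)).pow_right
      obtain ⟨u, v, huv⟩ := hcop
      have hx1 : x ^ ((a : ℤ) - 1) ∈ M := by
        have h3 : x ^ ((a : ℤ) - 1) = g * x * g⁻¹ * x⁻¹ := by
          rw [zpow_sub_one, zpow_natCast, ha]
        rw [h3]
        exact hcomm g
      have hx2 : x ^ ((p : ℤ) ^ (m' + 1)) = 1 := by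
        have h4 : ((p : ℤ) ^ (m' + 1)) = ((p ^ (m' + 1) : ℕ) : ℤ) := by push_cast; rfl
        rw [h4, zpow_natCast, ← hm, ← hord, pow_orderOf_eq_one]
      apply hxM
      have h5 : x = (x ^ ((a : ℤ) - 1)) ^ u * (x ^ ((p : ℤ) ^ (m' + 1))) ^ v := by
        have e2 : ((a : ℤ) - 1) * u + (p : ℤ) ^ (m' + 1) * v = 1 := by linear_combination huv
        rw [← zpow_mul, ← zpow_mul, ← zpow_add, e2, zpow_one]
      rw [h5, hx2, one_zpow, mul_one]
      exact M.zpow_mem hx1 u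
    have hpow : ((p : ℤ) ^ (m' + 1)) ∣ (a : ℤ) ^ (p ^ m') - 1 := by
      have h6 := dvd_sub_pow_of_dvd_sub (R := ℤ) (p := p) (a := (a : ℤ)) (b := 1) hdiv m'
      simpa using h6
    have hc := conj_pow_eq g x a ha.symm (p ^ m')
    have hmod : a ^ (p ^ m') ≡ 1 [MOD p ^ (m' + 1)] := by
      apply Int.natCast_modEq_iff.mp
      push_cast
      exact (Int.modEq_iff_dvd.mpr hpow).symm
    have hmod' : a ^ (p ^ m') ≡ 1 [MOD orderOf x] := by
      rw [hord, hm]
      exact hmod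
    have hx3 : x ^ (a ^ (p ^ m')) = x := by
      have h7 := pow_eq_pow_iff_modEq.mpr hmod'
      rwa [pow_one] at h7
    rw [hx3] at hc
    exact mul_inv_eq_iff_eq_mul.mp hc
  intro g hg
  suffices hgx : Commute g x by
    rw [Subgroup.mem_centralizer_iff]
    intro y hy
    obtain ⟨k, rfl⟩ := hPx y hy
    exact ((hgx.zpow_right k).eq).symm
  have hN : ∀ k : ℕ, g ^ k ∈ Subgroup.normalizer ((P : Subgroup G) : Set G) :=
    fun k => Subgroup.pow_mem _ hg k
  have hnpos : 0 < orderOf g := orderOf_pos g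
  obtain ⟨s, u, hu, hnu⟩ : ∃ s u : ℕ, ¬ p ∣ u ∧ orderOf g = p ^ s * u :=
    Nat.exists_eq_pow_mul_and_not_dvd hnpos.ne' p hp.ne_one
  have hpu : Nat.Coprime p u := (Nat.Prime.coprime_iff_not_dvd hp).mpr hu
  -- the `p'`-part
  have hC1 : Commute (g ^ (p ^ s)) x := by
    apply commute_of_pow (g ^ (p ^ s)) x (p ^ m') u (Nat.Coprime.pow_left m' hpu)
      (hkey _ (hN _))
    rw [← pow_mul, ← hnu]
    exact pow_orderOf_eq_one g
  -- the `p`-part
  have hk1 : (g ^ u) ^ (p ^ s) = 1 := by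
    rw [← pow_mul, mul_comm, ← hnu]
    exact pow_orderOf_eq_one g
  have hkP : g ^ u ∈ (P : Subgroup G) := by
    have hpg : IsPGroup p (Subgroup.zpowers (g ^ u)) := by
      rintro ⟨y, hy⟩
      obtain ⟨z, rfl⟩ := Subgroup.mem_zpowers_iff.mp hy
      refine ⟨s, Subtype.ext ?_⟩
      show ((g ^ u) ^ z) ^ (p ^ s) = 1
      rw [← zpow_natCast, ← zpow_mul, mul_comm, zpow_mul, zpow_natCast, hk1, one_zpow]
    have hle : Subgroup.zpowers (g ^ u) ≤ Subgroup.normalizer ((P : Subgroup G) : Set G) := by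
      rw [Subgroup.zpowers_le]
      exact hN u
    have hsupP : IsPGroup p (Subgroup.zpowers (g ^ u) ⊔ (P : Subgroup G) : Subgroup G) :=
      IsPGroup.to_sup_of_normal_right' hpg P.isPGroup' hle
    have heq := P.is_maximal' hsupP le_sup_right
    rw [← heq]
    exact (le_sup_left : Subgroup.zpowers (g ^ u) ≤ _) (Subgroup.mem_zpowers _)
  have hC2 : Commute (g ^ u) x := by
    obtain ⟨z, hz⟩ := hPx _ hkP
    rw [← hz]
    exact (Commute.refl x).zpow_left z
  obtain ⟨i, j, hij⟩ := Nat.isCoprime_iff_coprime.mpr (Nat.Coprime.pow_left s hpu)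
  have e : g = (g ^ (p ^ s)) ^ i * (g ^ u) ^ j := by
    have e1 : g ^ (((p ^ s : ℕ) : ℤ) * i + (u : ℤ) * j) = (g ^ (p ^ s)) ^ i * (g ^ u) ^ j := by
      rw [zpow_add, zpow_mul, zpow_mul, zpow_natCast, zpow_natCast]
    have e2 : ((p ^ s : ℕ) : ℤ) * i + (u : ℤ) * j = 1 := by linear_combination hij
    rw [e2, zpow_one] at e1
    exact e1
  rw [e]
  exact (hC1.zpow_left i).mul_left (hC2.zpow_left j)

end Cfsg.Agent.Lib.Helper27.AOBURNA
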