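import Mathlib

/-!
Automorphisms of a finite group normalised by Sylow's theorem: for elements `x`, `y` of prime
orders `p`, `q` whose squares do not divide the order of the group, `y` normalising `⟨x⟩`, every
automorphism is, up to an inner one, a map `x ↦ x ^ k`, `y ↦ y ^ j`.  A criterion for all
automorphisms to be inner, and a criterion for a subgroup of small index of a simple group to be
the whole group.
-/

set_option autoImplicit false

namespace Cfsg.Agent.Lib.Helper27.AutSyl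

open Subgroup

/-- Two elements of prime order `p` of a finite group whose order is not divisible by `p ^ 2`:
the second is conjugate to a power of the first. -/
theorem conj_prime {H : Type*} [Group H] [Finite H] (p : ℕ) [hp : Fact p.Prime]
    (hp2 : ¬ p ^ 2 ∣ Nat.card H) (a b : H) (ha : orderOf a = p) (hb : orderOf b = p) :
    ∃ g : H, ∃ k : ℕ, b = g * a ^ k * g⁻¹ := by
  have hcard : Nat.card H ≠ 0 := Nat.card_pos.ne'
  have hdvd : p ∣ Nat.card H := ha ▸ orderOf_dvd_natCard a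
  have hfac : (Nat.card H).factorization p = 1 := by
    have h1 : 1 ≤ (Nat.card H).factorization p :=
      (hp.out.dvd_iff_one_le_factorization hcard).mp hdvd
    have h2 : ¬ 2 ≤ (Nat.card H).factorization p := by
      intro h
      exact hp2 ((hp.out.pow_dvd_iff_le_factorization hcard).mpr h)
    omega
  have ca : Nat.card (zpowers a) = p ^ (Nat.card H).factorization p := by
    rw [Nat.card_zpowers, ha, hfac, pow_one]
  have cb : Nat.card (zpowers b) = p ^ (Nat.card H).factorization p := by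
    rw [Nat.card_zpowers, hb, hfac, pow_one]
  obtain ⟨g, hg⟩ := MulAction.exists_smul_eq H (Sylow.ofCard (zpowers a) ca)
    (Sylow.ofCard (zpowers b) cb)
  have hb' : b ∈ ((g • Sylow.ofCard (zpowers a) ca : Sylow p H) : Subgroup H) := by
    rw [hg]
    exact mem_zpowers b
  rw [Sylow.coe_subgroup_smul, Sylow.coe_ofCard, Subgroup.mem_smul_pointwise_iff_exists] at hb'
  obtain ⟨c, hc, e⟩ := hb'
  have hc' : c ∈ Submonoid.powers a := (isOfFinOrder_of_finite a).mem_powers_iff_mem_zpowers.mpr hc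
  obtain ⟨k, rfl⟩ := (Submonoid.mem_powers_iff _ _).mp hc'
  refine ⟨g, k, ?_⟩
  rw [← e]
  rfl

/-- An element conjugating `x` into `⟨x⟩` normalises `⟨x⟩`. -/
theorem mem_normalizer_zpowers {G : Type*} [Group G] [Finite G] (x n : G)
    (h : n * x * n⁻¹ ∈ zpowers x) : n ∈ Subgroup.normalizer (zpowers x : Set G) := by
  apply Subgroup.mem_normalizer_fintype
  intro m hm
  obtain ⟨k, rfl⟩ := mem_zpowers_iff.mp hm
  have e : n * x ^ k * n⁻¹ = (n * x * n⁻¹) ^ k := (conj_zpow).symm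
  rw [e]
  exact zpow_mem h k

/-- The normal form of an automorphism. -/
theorem aut_normalize {G : Type*} [Group G] [Finite G] (p q : ℕ) [hp : Fact p.Prime]
    [hq : Fact q.Prime] (hp2 : ¬ p ^ 2 ∣ Nat.card G) (hq2 : ¬ q ^ 2 ∣ Nat.card G)
    (x y : G) (hx : orderOf x = p) (hy : orderOf y = q) (r : ℕ) (hyx : y * x * y⁻¹ = x ^ r)
    (α : MulAut G) : ∃ g : G, ∃ k j : ℕ, α x = g * x ^ k * g⁻¹ ∧ α y = g * y ^ j * g⁻¹ := by
  have hαx : orderOf (α x) = p := by rw [MulEquiv.orderOf_eq, hx]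
  obtain ⟨g1, k1, h1⟩ := conj_prime p hp2 x (α x) hx hαx
  -- `x ^ k1` generates `⟨x⟩`
  have hk1 : orderOf (x ^ k1) = p := by
    have e : x ^ k1 = MulAut.conj g1⁻¹ (α x) := by
      rw [MulAut.conj_apply, h1]
      group
    rw [e, MulEquiv.orderOf_eq, hαx]
  have hz : zpowers (x ^ k1) = zpowers x := by
    apply Subgroup.eq_of_le_of_card_ge
    · rw [zpowers_le]
      exact pow_mem (mem_zpowers x) k1
    · rw [Nat.card_zpowers, Nat.card_zpowers, hk1, hx]
  -- the element `y' = g1⁻¹ α(y) g1` normalises `⟨x⟩`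
  have hy' : g1⁻¹ * α y * g1 ∈ Subgroup.normalizer (zpowers x : Set G) := by
    rw [← hz]
    apply mem_normalizer_zpowers
    have e : g1⁻¹ * α y * g1 * x ^ k1 * (g1⁻¹ * α y * g1)⁻¹ = (x ^ k1) ^ r := by
      have e1 : α y * α x * (α y)⁻¹ = (α x) ^ r := by
        rw [← map_inv, ← map_mul, ← map_mul, hyx, map_pow]
      have e2 : x ^ k1 = g1⁻¹ * α x * g1 := by rw [h1]; group
      have e3 : g1⁻¹ * α y * g1 * (g1⁻¹ * α x * g1) * (g1⁻¹ * α y * g1)⁻¹
          = g1⁻¹ * (α y * α x * (α y)⁻¹) * g1 := by group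
      rw [e2, e3, e1]
      have e4 : g1⁻¹ * α x ^ r * g1 = g1⁻¹ * α x ^ r * g1⁻¹⁻¹ := by rw [inv_inv]
      have e5 : g1⁻¹ * α x * g1 = g1⁻¹ * α x * g1⁻¹⁻¹ := by rw [inv_inv]
      rw [e4, e5, ← conj_pow]
    rw [e]
    exact pow_mem (mem_zpowers _) r
  have hyN : y ∈ Subgroup.normalizer (zpowers x : Set G) := by
    apply mem_normalizer_zpowers
    rw [hyx]
    exact pow_mem (mem_zpowers x) r
  -- Sylow's theorem in the normaliser
  have hq2' : ¬ q ^ 2 ∣ Nat.card ↥(Subgroup.normalizer (zpowers x : Set G)) := fun h =>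
    hq2 (h.trans (Subgroup.card_subgroup_dvd_card _))
  have o1 : orderOf (⟨y, hyN⟩ : ↥(Subgroup.normalizer (zpowers x : Set G))) = q := by
    rw [← hy]
    exact (Subgroup.orderOf_mk y hyN)
  have o2 : orderOf (⟨g1⁻¹ * α y * g1, hy'⟩ : ↥(Subgroup.normalizer (zpowers x : Set G))) = q := by
    rw [Subgroup.orderOf_mk]
    have e2 : g1⁻¹ * α y * g1 = MulAut.conj g1⁻¹ (α y) := by
      rw [MulAut.conj_apply, inv_inv]
    rw [e2, MulEquiv.orderOf_eq, MulEquiv.orderOf_eq, hy]
  obtain ⟨n, j, hn⟩ := conj_prime q hq2' _ _ o1 o2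
  have hn' : g1⁻¹ * α y * g1 = (n : G) * y ^ j * (n : G)⁻¹ := by
    have := congrArg Subtype.val hn
    simpa using this
  -- `n⁻¹ x ^ k1 n` is a power of `x`
  have hxn : (n : G)⁻¹ * x ^ k1 * (n : G) ∈ zpowers x := by
    have hninv : (n : G)⁻¹ ∈ Subgroup.normalizer (zpowers x : Set G) := inv_mem n.2
    have := (Subgroup.mem_normalizer_iff.mp hninv (x ^ k1)).mp (pow_mem (mem_zpowers x) k1)
    rwa [inv_inv] at this
  have hxn' : (n : G)⁻¹ * x ^ k1 * (n : G) ∈ Submonoid.powers x :=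
    (isOfFinOrder_of_finite x).mem_powers_iff_mem_zpowers.mpr hxn
  obtain ⟨k, hk⟩ := (Submonoid.mem_powers_iff _ _).mp hxn'
  refine ⟨g1 * n, k, j, ?_, ?_⟩
  · rw [h1, hk]
    group
  · have e : α y = g1 * (g1⁻¹ * α y * g1) * g1⁻¹ := by group
    rw [e, hn']
    group

/-- Conjugation by a power of `y` on `x`. -/
theorem conj_pow_eq {G : Type*} [Group G] (x y : G) (r : ℕ) (hyx : y * x * y⁻¹ = x ^ r) (i : ℕ) :
    y ^ i * x * (y ^ i)⁻¹ = x ^ r ^ i := by
  induction i with
  | zero => simp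
  | succ i ih =>
    have e : y ^ (i + 1) * x * (y ^ (i + 1))⁻¹ = y * (y ^ i * x * (y ^ i)⁻¹) * y⁻¹ := by
      rw [pow_succ']
      group
    rw [e, ih, ← conj_pow, hyx, ← pow_mul, pow_succ, mul_comm]

/-- A criterion for every automorphism to be inner. -/
theorem aut_inner {G : Type*} [Group G] [Finite G] (p q : ℕ) [hp : Fact p.Prime]
    [hq : Fact q.Prime] (hp2 : ¬ p ^ 2 ∣ Nat.card G) (hq2 : ¬ q ^ 2 ∣ Nat.card G)
    (x y t : G) (hx : orderOf x = p) (hy : orderOf y = q) (r : ℕ) (hyx : y * x * y⁻¹ = x ^ r)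
    (hr : ∀ j : ℕ, r ^ j ≡ r [MOD p] → j ≡ 1 [MOD q])
    (hk : ∀ k : ℕ, ¬ p ∣ k → ∃ i : ℕ, k * r ^ i ≡ 1 [MOD p] ∨ k * r ^ i ≡ p - 1 [MOD p])
    (ht : ∀ β : MulAut G, β y = y → β t = t)
    (hgen : ∀ β : MulAut G, β x = x → β y = y → β t = t → β = 1)
    (hrel : ∀ β : MulAut G, β x = x⁻¹ → β y = y → β t = t → False) :
    ∀ α : MulAut G, ∃ g : G, α = MulAut.conj g := by
  intro α
  obtain ⟨g, k, j, h1, h2⟩ := aut_normalize p q hp2 hq2 x y hx hy r hyx α
  -- the automorphism `β = conj g⁻¹ ∘ α`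
  have hβx : ((MulAut.conj g)⁻¹ * α) x = x ^ k := by
    rw [MulAut.mul_apply, h1, MulAut.conj_inv_apply]
    group
  have hβy : ((MulAut.conj g)⁻¹ * α) y = y ^ j := by
    rw [MulAut.mul_apply, h2, MulAut.conj_inv_apply]
    group
  have hkord : orderOf (x ^ k) = p := by
    rw [← hβx, MulEquiv.orderOf_eq, hx]
  have hpk : ¬ p ∣ k := by
    intro hd
    have : x ^ k = 1 := by
      rw [← hx] at hd
      exact orderOf_dvd_iff_pow_eq_one.mp hd
    rw [this, orderOf_one] at hkord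
    exact hp.out.one_lt.ne hkord
  -- `j ≡ 1`
  have hj : y ^ j = y := by
    have e1 : y ^ j * x ^ k * (y ^ j)⁻¹ = (x ^ k) ^ r := by
      have := congrArg ((MulAut.conj g)⁻¹ * α) hyx
      rw [map_mul, map_mul, map_inv, map_pow, hβx, hβy] at this
      exact this
    have e2 : y ^ j * x ^ k * (y ^ j)⁻¹ = (x ^ k) ^ r ^ j := by
      rw [← conj_pow, conj_pow_eq x y r hyx j, ← pow_mul, ← pow_mul, mul_comm]
    rw [e2] at e1
    have e3 : r ^ j ≡ r [MOD p] := by
      rw [← hkord]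
      exact pow_eq_pow_iff_modEq.mp e1
    have e4 := hr j e3
    have e5 : y ^ j = y ^ 1 := by
      rw [pow_eq_pow_iff_modEq, hy]
      exact e4
    rw [e5, pow_one]
  rw [hj] at hβy
  -- adjust by a power of `y`
  obtain ⟨i, hi⟩ := hk k hpk
  have hγy : (MulAut.conj (y ^ i) * ((MulAut.conj g)⁻¹ * α)) y = y := by
    rw [MulAut.mul_apply, hβy, MulAut.conj_apply]
    group
  have hγx : (MulAut.conj (y ^ i) * ((MulAut.conj g)⁻¹ * α)) x = x ^ (k * r ^ i) := by
    rw [MulAut.mul_apply, hβx, MulAut.conj_apply, ← conj_pow, conj_pow_eq x y r hyx i, ← pow_mul,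
      mul_comm]
  have hγt := ht _ hγy
  have hfin : MulAut.conj (y ^ i) * ((MulAut.conj g)⁻¹ * α) = 1 := by
    rcases hi with hi | hi
    · apply hgen _ _ hγy hγt
      rw [hγx]
      have : x ^ (k * r ^ i) = x ^ 1 := by
        rw [pow_eq_pow_iff_modEq, hx]
        exact hi
      rw [this, pow_one]
    · exfalso
      apply hrel _ _ hγy hγt
      rw [hγx]
      have : x ^ (k * r ^ i) = x ^ (p - 1) := by
        rw [pow_eq_pow_iff_modEq, hx]
        exact hi
      rw [this]
      apply eq_inv_of_mul_eq_one_left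
      rw [← pow_succ, Nat.sub_add_cancel hp.out.one_le, ← hx, pow_orderOf_eq_one]
  refine ⟨g * (y ^ i)⁻¹, ?_⟩
  have e : α = MulAut.conj g * (MulAut.conj (y ^ i))⁻¹ := by
    have h3 : (MulAut.conj g)⁻¹ * α = (MulAut.conj (y ^ i))⁻¹ :=
      eq_inv_of_mul_eq_one_right hfin
    rw [← h3]
    group
  rw [e, map_mul, map_inv]

/-- A subgroup of index at most `n` of a finite simple group whose order is divisible by a
prime `p > n` is the whole group. -/
theorem eq_top_of_index_le {G : Type*} [Group G] [Finite G] [IsSimpleGroup G] (H : Subgroup G)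
    (p n : ℕ) (hp : p.Prime) (hpG : p ∣ Nat.card G) (hn : n < p) (hidx : H.index ≤ n) : H = ⊤ := by
  rcases (Subgroup.normalCore_normal H).eq_bot_or_eq_top with h | h
  · exfalso
    have h1 : H.normalCore.index ∣ H.index.factorial := by
      rw [Subgroup.normalCore_eq_ker, Subgroup.index_ker, Subgroup.index_eq_card, ← Nat.card_perm]
      exact Subgroup.card_subgroup_dvd_card (MulAction.toPermHom G (G ⧸ H)).range
    rw [h, Subgroup.index_bot] at h1
    have h2 : p ∣ H.index.factorial := hpG.trans h1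
    have h3 := (hp.dvd_factorial).mp h2
    omega
  · exact top_le_iff.mp (h ▸ Subgroup.normalCore_le H)

end Cfsg.Agent.Lib.Helper27.AutSyl
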