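import Mathlib
import Cfsg.Agent.Lib.Helper27.AutSyl

/-!
The normal form of an automorphism of a finite group with elements `x`, `y` of prime orders `p`,
`q`, where `y` normalises `⟨x⟩`, `p ^ 2` does not divide the order of the group and `q ^ 2` does
not divide the order of the normaliser of `⟨x⟩`: up to an inner automorphism it fixes `y` and
maps `x` to `x` or to its inverse.  Index two for the inner automorphisms.
-/

set_option autoImplicit false

namespace Cfsg.Agent.Lib.Helper27.AutSyl2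

open Subgroup Cfsg.Agent.Lib.Helper27.AutSyl

/-- The normal form of an automorphism, with the hypothesis on `q` in the normaliser. -/
theorem aut_normalize' {G : Type*} [Group G] [Finite G] (p q : ℕ) [hp : Fact p.Prime]
    [hq : Fact q.Prime] (hp2 : ¬ p ^ 2 ∣ Nat.card G) (x y : G)
    (hq2' : ¬ q ^ 2 ∣ Nat.card ↥(Subgroup.normalizer (zpowers x : Set G)))
    (hx : orderOf x = p) (hy : orderOf y = q) (r : ℕ) (hyx : y * x * y⁻¹ = x ^ r)
    (α : MulAut G) : ∃ g : G, ∃ k j : ℕ, α x = g * x ^ k * g⁻¹ ∧ α y = g * y ^ j * g⁻¹ := by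
  have hαx : orderOf (α x) = p := by rw [MulEquiv.orderOf_eq, hx]
  obtain ⟨g1, k1, h1⟩ := conj_prime p hp2 x (α x) hx hαx
  have hk1 : orderOf (x ^ k1) = p := by
    have e : x ^ k1 = MulAut.conj g1⁻¹ (α x) := by
      rw [MulAut.conj_apply, h1]
      group
    rw [e, MulEquiv.orderOf_eq, hαx]
  have hz : zpowers (x ^ k1) = zpowers x := by
    apply Subgroup.eq_of_le_of_card_ge
    · rw [zpowers_le]
      exact pow_mem (mem_zpowers x) k1
    · rw [Nat.card_zpowers, Nat.card_zpowers, hk1, hx]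
  have hy' : g1⁻¹ * α y * g1 ∈ Subgroup.normalizer (zpowers x : Set G) := by
    rw [← hz]
    apply mem_normalizer_zpowers
    have e : g1⁻¹ * α y * g1 * x ^ k1 * (g1⁻¹ * α y * g1)⁻¹ = (x ^ k1) ^ r := by
      have e1 : α y * α x * (α y)⁻¹ = (α x) ^ r := by
        rw [← map_inv, ← map_mul, ← map_mul, hyx, map_pow]
      have e2 : x ^ k1 = g1⁻¹ * α x * g1 := by rw [h1]; group
      have e3 : g1⁻¹ * α y * g1 * (g1⁻¹ * α x * g1) * (g1⁻¹ * α y * g1)⁻¹
          = g1⁻¹ * (α y * α x * (α y)⁻¹) * g1 := by group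
      rw [e2, e3, e1]
      have e4 : g1⁻¹ * α x ^ r * g1 = g1⁻¹ * α x ^ r * g1⁻¹⁻¹ := by rw [inv_inv]
      have e5 : g1⁻¹ * α x * g1 = g1⁻¹ * α x * g1⁻¹⁻¹ := by rw [inv_inv]
      rw [e4, e5, ← conj_pow]
    rw [e]
    exact pow_mem (mem_zpowers _) r
  have hyN : y ∈ Subgroup.normalizer (zpowers x : Set G) := by
    apply mem_normalizer_zpowers
    rw [hyx]
    exact pow_mem (mem_zpowers x) r
  have o1 : orderOf (⟨y, hyN⟩ : ↥(Subgroup.normalizer (zpowers x : Set G))) = q := by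
    rw [← hy]
    exact (Subgroup.orderOf_mk y hyN)
  have o2 : orderOf (⟨g1⁻¹ * α y * g1, hy'⟩ : ↥(Subgroup.normalizer (zpowers x : Set G))) = q := by
    rw [Subgroup.orderOf_mk]
    have e2 : g1⁻¹ * α y * g1 = MulAut.conj g1⁻¹ (α y) := by
      rw [MulAut.conj_apply, inv_inv]
    rw [e2, MulEquiv.orderOf_eq, MulEquiv.orderOf_eq, hy]
  obtain ⟨n, j, hn⟩ := conj_prime q hq2' _ _ o1 o2
  have hn' : g1⁻¹ * α y * g1 = (n : G) * y ^ j * (n : G)⁻¹ := by
    have := congrArg Subtype.val hn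
    simpa using this
  have hxn : (n : G)⁻¹ * x ^ k1 * (n : G) ∈ zpowers x := by
    have hninv : (n : G)⁻¹ ∈ Subgroup.normalizer (zpowers x : Set G) := inv_mem n.2
    have := (Subgroup.mem_normalizer_iff.mp hninv (x ^ k1)).mp (pow_mem (mem_zpowers x) k1)
    rwa [inv_inv] at this
  have hxn' : (n : G)⁻¹ * x ^ k1 * (n : G) ∈ Submonoid.powers x :=
    (isOfFinOrder_of_finite x).mem_powers_iff_mem_zpowers.mpr hxn
  obtain ⟨k, hk⟩ := (Submonoid.mem_powers_iff _ _).mp hxn'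
  refine ⟨g1 * n, k, j, ?_, ?_⟩
  · rw [h1, hk]
    group
  · have e : α y = g1 * (g1⁻¹ * α y * g1) * g1⁻¹ := by group
    rw [e, hn']
    group

/-- Up to an inner automorphism, an automorphism fixes `y` and maps `x` to `x` or `x⁻¹`. -/
theorem aut_reduce {G : Type*} [Group G] [Finite G] (p q : ℕ) [hp : Fact p.Prime]
    [hq : Fact q.Prime] (hp2 : ¬ p ^ 2 ∣ Nat.card G) (x y : G)
    (hq2' : ¬ q ^ 2 ∣ Nat.card ↥(Subgroup.normalizer (zpowers x : Set G)))
    (hx : orderOf x = p) (hy : orderOf y = q) (r : ℕ) (hyx : y * x * y⁻¹ = x ^ r)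
    (hr : ∀ j : ℕ, r ^ j ≡ r [MOD p] → j ≡ 1 [MOD q])
    (hk : ∀ k : ℕ, ¬ p ∣ k → ∃ i : ℕ, k * r ^ i ≡ 1 [MOD p] ∨ k * r ^ i ≡ p - 1 [MOD p])
    (α : MulAut G) :
    ∃ g : G, ∃ β : MulAut G, α = MulAut.conj g * β ∧ β y = y ∧ (β x = x ∨ β x = x⁻¹) := by
  obtain ⟨g, k, j, h1, h2⟩ := aut_normalize' p q hp2 x y hq2' hx hy r hyx α
  have hβx : ((MulAut.conj g)⁻¹ * α) x = x ^ k := by
    rw [MulAut.mul_apply, h1, MulAut.conj_inv_apply]
    group
  have hβy : ((MulAut.conj g)⁻¹ * α) y = y ^ j := by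
    rw [MulAut.mul_apply, h2, MulAut.conj_inv_apply]
    group
  have hkord : orderOf (x ^ k) = p := by
    rw [← hβx, MulEquiv.orderOf_eq, hx]
  have hpk : ¬ p ∣ k := by
    intro hd
    have : x ^ k = 1 := by
      rw [← hx] at hd
      exact orderOf_dvd_iff_pow_eq_one.mp hd
    rw [this, orderOf_one] at hkord
    exact hp.out.one_lt.ne hkord
  have hj : y ^ j = y := by
    have e1 : y ^ j * x ^ k * (y ^ j)⁻¹ = (x ^ k) ^ r := by
      have := congrArg ((MulAut.conj g)⁻¹ * α) hyx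
      rw [map_mul, map_mul, map_inv, map_pow, hβx, hβy] at this
      exact this
    have e2 : y ^ j * x ^ k * (y ^ j)⁻¹ = (x ^ k) ^ r ^ j := by
      rw [← conj_pow, conj_pow_eq x y r hyx j, ← pow_mul, ← pow_mul, mul_comm]
    rw [e2] at e1
    have e3 : r ^ j ≡ r [MOD p] := by
      rw [← hkord]
      exact pow_eq_pow_iff_modEq.mp e1
    have e4 := hr j e3
    have e5 : y ^ j = y ^ 1 := by
      rw [pow_eq_pow_iff_modEq, hy]
      exact e4
    rw [e5, pow_one]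
  rw [hj] at hβy
  obtain ⟨i, hi⟩ := hk k hpk
  have hγy : (MulAut.conj (y ^ i) * ((MulAut.conj g)⁻¹ * α)) y = y := by
    rw [MulAut.mul_apply, hβy, MulAut.conj_apply]
    group
  have hγx : (MulAut.conj (y ^ i) * ((MulAut.conj g)⁻¹ * α)) x = x ^ (k * r ^ i) := by
    rw [MulAut.mul_apply, hβx, MulAut.conj_apply, ← conj_pow, conj_pow_eq x y r hyx i, ← pow_mul,
      mul_comm]
  refine ⟨g * (y ^ i)⁻¹, MulAut.conj (y ^ i) * ((MulAut.conj g)⁻¹ * α), ?_, hγy, ?_⟩
  · rw [map_mul, map_inv]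
    group
  · rw [hγx]
    rcases hi with hi | hi
    · left
      have : x ^ (k * r ^ i) = x ^ 1 := by
        rw [pow_eq_pow_iff_modEq, hx]
        exact hi
      rw [this, pow_one]
    · right
      have : x ^ (k * r ^ i) = x ^ (p - 1) := by
        rw [pow_eq_pow_iff_modEq, hx]
        exact hi
      rw [this]
      apply eq_inv_of_mul_eq_one_left
      rw [← pow_succ, Nat.sub_add_cancel hp.out.one_le, ← hx, pow_orderOf_eq_one]

/-- The version with the hypothesis on `q` in the whole group. -/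
theorem aut_reduce_of_card {G : Type*} [Group G] [Finite G] (p q : ℕ) [hp : Fact p.Prime]
    [hq : Fact q.Prime] (hp2 : ¬ p ^ 2 ∣ Nat.card G) (hq2 : ¬ q ^ 2 ∣ Nat.card G) (x y : G)
    (hx : orderOf x = p) (hy : orderOf y = q) (r : ℕ) (hyx : y * x * y⁻¹ = x ^ r)
    (hr : ∀ j : ℕ, r ^ j ≡ r [MOD p] → j ≡ 1 [MOD q])
    (hk : ∀ k : ℕ, ¬ p ∣ k → ∃ i : ℕ, k * r ^ i ≡ 1 [MOD p] ∨ k * r ^ i ≡ p - 1 [MOD p])
    (α : MulAut G) :
    ∃ g : G, ∃ β : MulAut G, α = MulAut.conj g * β ∧ β y = y ∧ (β x = x ∨ β x = x⁻¹) :=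
  aut_reduce p q hp2 x y (fun h => hq2 (h.trans (Subgroup.card_subgroup_dvd_card _))) hx hy r hyx
    hr hk α

/-- An automorphism fixing `y` maps an element inverting `y` into its coset of the centraliser
of `y`. -/
theorem inverting_coset {G : Type*} [Group G] (β : MulAut G) (y t : G) (hy : β y = y)
    (ht : t * y * t⁻¹ = y⁻¹) : (t⁻¹ * β t) * y = y * (t⁻¹ * β t) := by
  have h1 : β t * y * (β t)⁻¹ = y⁻¹ := by
    have := congrArg β ht
    rw [map_mul, map_mul, map_inv, map_inv, hy] at this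
    exact this
  have h2 : β t * y = y⁻¹ * β t := by
    rw [← h1]
    group
  have h3 : t⁻¹ * y⁻¹ = y * t⁻¹ := by
    have : y⁻¹ = t * y * t⁻¹ := ht.symm
    rw [this]
    group
  calc t⁻¹ * β t * y = t⁻¹ * (β t * y) := by group
    _ = t⁻¹ * (y⁻¹ * β t) := by rw [h2]
    _ = (t⁻¹ * y⁻¹) * β t := by group
    _ = (y * t⁻¹) * β t := by rw [h3]
    _ = y * (t⁻¹ * β t) := by group

/-- For an involution `s`: `(x⁻¹ s) ^ n = 1` if and only if `(x s) ^ n = 1`. -/
theorem inv_mul_pow_eq_one {G : Type*} [Group G] (x s : G) (hs : s * s = 1) (n : ℕ)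
    (h : (x⁻¹ * s) ^ n = 1) : (x * s) ^ n = 1 := by
  have hsi : s⁻¹ = s := inv_eq_of_mul_eq_one_left hs
  have e1 : (x⁻¹ * s)⁻¹ = s * x := by
    rw [mul_inv_rev, inv_inv, hsi]
  have e2 : (s * x) ^ n = 1 := by
    rw [← e1, inv_pow, h, inv_one]
  have e3 : x * s = s⁻¹ * (s * x) * s⁻¹⁻¹ := by
    rw [inv_inv]
    group
  rw [e3, conj_pow, e2]
  group

/-- The product of an element inverting `y` with a power of `y` is an involution. -/
theorem inverting_sq {G : Type*} [Group G] (y t : G) (ht2 : t * t = 1)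
    (ht : t * y * t⁻¹ = y⁻¹) (m : ℕ) : (t * y ^ m) * (t * y ^ m) = 1 := by
  have hti : t⁻¹ = t := inv_eq_of_mul_eq_one_left ht2
  have h1 : t * y ^ m * t⁻¹ = (y ^ m)⁻¹ := by
    rw [← conj_pow, ht, inv_pow]
  calc t * y ^ m * (t * y ^ m) = (t * y ^ m * t) * y ^ m := by group
    _ = (t * y ^ m * t⁻¹) * y ^ m := by rw [hti]
    _ = 1 := by rw [h1]; group

end Cfsg.Agent.Lib.Helper27.AutSyl2
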