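import Cfsg.Agent.Lib.Helper27.M24

set_option autoImplicit false

namespace Cfsg.Agent.Lib.Helper27.Cert

open Cfsg Cfsg.Agent.Lib.Helper27.Bits Cfsg.Agent.Lib.Helper27.Golay Cfsg.Agent.Lib.Helper27.M24
open scoped Pointwise

/-! ### words in generators -/

/-- act on a mask by a word (base 16 digits of `w`, lowest digit applied last) in the
generators stored in `G` (lanes of 120 bits) -/
noncomputable def wact (G : ℕ) (n : ℕ) : ℕ → ℕ → ℕ :=
  Nat.rec (fun _ m => m)
    (fun _ ih w m => cond (Nat.beq w 0) m (pull (tget G 120 (w % 16)) (ih (w / 16) m))) n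

theorem wact_succ (G n w m : ℕ) :
    wact G (n + 1) w m = cond (Nat.beq w 0) m (pull (tget G 120 (w % 16)) (wact G n (w / 16) m)) := rfl

theorem wact_spec (H : Subgroup (Equiv.Perm GolayPt)) (G : ℕ)
    (hG : ∀ d < 16, validT (tget G 120 d) = true ∧ gperm (tget G 120 d) ∈ H) (n w : ℕ) :
    ∃ g ∈ H, ∀ m, g • fsOf m = fsOf (wact G n w m) := by
  induction n generalizing w with
  | zero => exact ⟨1, H.one_mem, fun m => one_smul _ _⟩
  | succ n ih =>
    cases hw : Nat.beq w 0
    · obtain ⟨g', hg', h'⟩ := ih (w / 16)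
      obtain ⟨hv, hm⟩ := hG (w % 16) (Nat.mod_lt _ (by norm_num))
      refine ⟨gperm (tget G 120 (w % 16)) * g', H.mul_mem hm hg', fun m => ?_⟩
      rw [wact_succ, hw, mul_smul, h' m, gperm_smul hv]
      rfl
    · exact ⟨1, H.one_mem, fun m => by rw [wact_succ, hw]; exact one_smul _ _⟩

/-! ### stabilisers of lists of sets -/

/-- the subgroup of the group of the code fixing each of the sets given by a list of masks -/
def stabL (ms : List ℕ) : Subgroup (Equiv.Perm GolayPt) where
  carrier := {g | g ∈ M24 ∧ ∀ m ∈ ms, g • fsOf m = fsOf m}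
  one_mem' := ⟨M24.one_mem, fun m _ => one_smul _ _⟩
  mul_mem' := by
    rintro a b ⟨ha, ha'⟩ ⟨hb, hb'⟩
    exact ⟨M24.mul_mem ha hb, fun m hm => by rw [mul_smul, hb' m hm, ha' m hm]⟩
  inv_mem' := by
    rintro a ⟨ha, ha'⟩
    exact ⟨M24.inv_mem ha, fun m hm => by rw [inv_smul_eq_iff, ha' m hm]⟩

theorem mem_stabL (ms : List ℕ) (g : Equiv.Perm GolayPt) :
    g ∈ stabL ms ↔ g ∈ M24 ∧ ∀ m ∈ ms, g • fsOf m = fsOf m := Iff.rfl

/-- the table fixes all masks of the list -/
noncomputable def fixesB (T : ℕ) (ms : List ℕ) : Bool := ms.all (fun m => Nat.beq (pull T m) m)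

theorem gperm_mem_stabL {T : ℕ} {ms : List ℕ} (h1 : inM24 T = true) (h2 : fixesB T ms = true) :
    gperm T ∈ stabL ms := by
  refine ⟨gperm_mem_M24 h1, fun m hm => ?_⟩
  rw [gperm_smul (inM24_valid h1)]
  unfold fixesB at h2
  rw [List.all_eq_true] at h2
  rw [Nat.eq_of_beq_eq_true (h2 m hm)]

/-- all 16 lanes of `G` are tables of elements of `stabL ms` -/
noncomputable def gensOK (G : ℕ) (ms : List ℕ) : Bool :=
  allB 16 (fun d => inM24 (tget G 120 d) && fixesB (tget G 120 d) ms)

theorem gensOK_spec {G : ℕ} {ms : List ℕ} (h : gensOK G ms = true) :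
    ∀ d < 16, validT (tget G 120 d) = true ∧ gperm (tget G 120 d) ∈ stabL ms := by
  intro d hd
  have h1 := (allB_iff _ _).mp h d hd
  rw [Bool.and_eq_true] at h1
  exact ⟨inM24_valid h1.1, gperm_mem_stabL h1.1 h1.2⟩

/-- certificate of transitivity: every `c < N` with `cond c` has a word carrying `root c` to
`target c` -/
noncomputable def certOK (G n N W : ℕ) (root target : ℕ → ℕ) (cond : ℕ → Bool) : Bool :=
  allB N (fun c => !cond c || Nat.beq (wact G n (tget W 64 c) (root c)) (target c))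

theorem cert_spec {G : ℕ} {ms : List ℕ} (hG : gensOK G ms = true) {n N W : ℕ}
    {root target : ℕ → ℕ} {cond : ℕ → Bool} (h : certOK G n N W root target cond = true)
    (c : ℕ) (hc : c < N) (hcond : cond c = true) :
    ∃ g ∈ stabL ms, g • fsOf (root c) = fsOf (target c) := by
  have h1 := (allB_iff _ _).mp h c hc
  rw [hcond] at h1
  simp only [Bool.not_true, Bool.false_or] at h1
  obtain ⟨g, hg, hg'⟩ := wact_spec (stabL ms) G (gensOK_spec hG) n (tget W 64 c)
  exact ⟨g, hg, by rw [hg', Nat.eq_of_beq_eq_true h1]⟩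

/-! ### points as singletons -/

theorem smul_single_iff (g : Equiv.Perm GolayPt) {i j : ℕ} (hi : i < 24) (hj : j < 24) :
    g • fsOf (2 ^ i) = fsOf (2 ^ j) ↔ g (pt i) = pt j := by
  rw [setOf_two_pow i hi, setOf_two_pow j hj, Finset.smul_finset_singleton, Finset.singleton_inj]
  rfl

end Cfsg.Agent.Lib.Helper27.Cert
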