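import Mathlib
import Cfsg.Prelude.Def_Sporadic_a
import Cfsg.Agent.Lib.Helper27.SlpLib
import Cfsg.Agent.Lib.Helper27.Chunk
import Cfsg.Agent.Lib.Helper27.CertBase
import Cfsg.Agent.Lib.Helper27.Co1FixT

/-!
The test of the vectors of codes 16480 to 32959 for the automorphism `e1`.
-/

set_option autoImplicit false
set_option maxRecDepth 100000

namespace Cfsg.Agent.Lib.Helper27.Co1FixP2

open Cfsg Cfsg.Agent.Lib.Helper27.Bits Cfsg.Agent.Lib.Helper27.Pk
open Cfsg.Agent.Lib.Helper27.MinTab Cfsg.Agent.Lib.Helper27.MinEnum Cfsg.Agent.Lib.Helper27.MinFast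
open Cfsg.Agent.Lib.Helper27.MinAll Cfsg.Agent.Lib.Helper27.LDot Cfsg.Agent.Lib.Helper27.LMat
open Cfsg.Agent.Lib.Helper27.Spread Cfsg.Agent.Lib.Helper27.Co0Act Cfsg.Agent.Lib.Helper27.LApp
open Cfsg.Agent.Lib.Helper27.OrbCert Cfsg.Agent.Lib.Helper27.Chunk Cfsg.Agent.Lib.Helper27.CoGlue
open Cfsg.Agent.Lib.Helper27.Invol Cfsg.Agent.Lib.Helper27.SlpLib Cfsg.Agent.Lib.Helper27.CertBase
open Cfsg.Agent.Lib.Helper27.Co1Slp1
open Cfsg.Agent.Lib.Helper27.Co1Chk
open Cfsg.Agent.Lib.Helper27.Co1FixT

theorem sub0 : allR fY 16480 1030 = true := by decide +kernel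

theorem sub1 : allR fY 17510 1030 = true := by decide +kernel

theorem sub2 : allR fY 18540 1030 = true := by decide +kernel

theorem sub3 : allR fY 19570 1030 = true := by decide +kernel

theorem sub4 : allR fY 20600 1030 = true := by decide +kernel

theorem sub5 : allR fY 21630 1030 = true := by decide +kernel

theorem sub6 : allR fY 22660 1030 = true := by decide +kernel

theorem sub7 : allR fY 23690 1030 = true := by decide +kernel

theorem sub8 : allR fY 24720 1030 = true := by decide +kernel

theorem sub9 : allR fY 25750 1030 = true := by decide +kernel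

theorem sub10 : allR fY 26780 1030 = true := by decide +kernel

theorem sub11 : allR fY 27810 1030 = true := by decide +kernel

theorem sub12 : allR fY 28840 1030 = true := by decide +kernel

theorem sub13 : allR fY 29870 1030 = true := by decide +kernel

theorem sub14 : allR fY 30900 1030 = true := by decide +kernel

theorem sub15 : allR fY 31930 1030 = true := by decide +kernel

theorem acc1 : allR fY 16480 2060 = true :=
  allR_append fY 16480 1030 1030 sub0 sub1

theorem acc2 : allR fY 16480 3090 = true :=
  allR_append fY 16480 2060 1030 acc1 sub2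

theorem acc3 : allR fY 16480 4120 = true :=
  allR_append fY 16480 3090 1030 acc2 sub3

theorem acc4 : allR fY 16480 5150 = true :=
  allR_append fY 16480 4120 1030 acc3 sub4

theorem acc5 : allR fY 16480 6180 = true :=
  allR_append fY 16480 5150 1030 acc4 sub5

theorem acc6 : allR fY 16480 7210 = true :=
  allR_append fY 16480 6180 1030 acc5 sub6

theorem acc7 : allR fY 16480 8240 = true :=
  allR_append fY 16480 7210 1030 acc6 sub7

theorem acc8 : allR fY 16480 9270 = true :=
  allR_append fY 16480 8240 1030 acc7 sub8

theorem acc9 : allR fY 16480 10300 = true :=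
  allR_append fY 16480 9270 1030 acc8 sub9

theorem acc10 : allR fY 16480 11330 = true :=
  allR_append fY 16480 10300 1030 acc9 sub10

theorem acc11 : allR fY 16480 12360 = true :=
  allR_append fY 16480 11330 1030 acc10 sub11

theorem acc12 : allR fY 16480 13390 = true :=
  allR_append fY 16480 12360 1030 acc11 sub12

theorem acc13 : allR fY 16480 14420 = true :=
  allR_append fY 16480 13390 1030 acc12 sub13

theorem acc14 : allR fY 16480 15450 = true :=
  allR_append fY 16480 14420 1030 acc13 sub14

theorem acc15 : allR fY 16480 16480 = true :=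
  allR_append fY 16480 15450 1030 acc14 sub15

theorem part : allR fY 16480 16480 = true := acc15

end Cfsg.Agent.Lib.Helper27.Co1FixP2
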