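import Mathlib
import Cfsg.Prelude.Def_Sporadic_a
import Cfsg.Agent.Lib.Helper27.SlpLib
import Cfsg.Agent.Lib.Helper27.Chunk
import Cfsg.Agent.Lib.Helper27.CertBase
import Cfsg.Agent.Lib.Helper27.Co1FixP1
import Cfsg.Agent.Lib.Helper27.Co1FixP2
import Cfsg.Agent.Lib.Helper27.Co1FixP3
import Cfsg.Agent.Lib.Helper27.Co1FixP4
import Cfsg.Agent.Lib.Helper27.Co1FixP5
import Cfsg.Agent.Lib.Helper27.Co1FixP6
import Cfsg.Agent.Lib.Helper27.Co1FixP7
import Cfsg.Agent.Lib.Helper27.Co1FixP8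
import Cfsg.Agent.Lib.Helper27.Co1FixP9
import Cfsg.Agent.Lib.Helper27.Co1FixP10
import Cfsg.Agent.Lib.Helper27.Co1FixP11
import Cfsg.Agent.Lib.Helper27.Co1FixP12

/-!
The automorphism `e1` of order 11 fixes only twelve vectors of sum of squares 32.
-/

set_option autoImplicit false
set_option maxRecDepth 100000

namespace Cfsg.Agent.Lib.Helper27.Co1Fix

open Cfsg Cfsg.Agent.Lib.Helper27.Bits Cfsg.Agent.Lib.Helper27.Pk
open Cfsg.Agent.Lib.Helper27.MinTab Cfsg.Agent.Lib.Helper27.MinEnum Cfsg.Agent.Lib.Helper27.MinFast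
open Cfsg.Agent.Lib.Helper27.MinAll Cfsg.Agent.Lib.Helper27.LDot Cfsg.Agent.Lib.Helper27.LMat
open Cfsg.Agent.Lib.Helper27.Spread Cfsg.Agent.Lib.Helper27.Co0Act Cfsg.Agent.Lib.Helper27.LApp
open Cfsg.Agent.Lib.Helper27.OrbCert Cfsg.Agent.Lib.Helper27.Chunk Cfsg.Agent.Lib.Helper27.CoGlue
open Cfsg.Agent.Lib.Helper27.Invol Cfsg.Agent.Lib.Helper27.SlpLib Cfsg.Agent.Lib.Helper27.CertBase
open Cfsg.Agent.Lib.Helper27.Co1Slp1
open Cfsg.Agent.Lib.Helper27.Co1Chk
open Cfsg.Agent.Lib.Helper27.Co1FixT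

theorem upto2 : allR fY 0 32960 = true :=
  allR_append fY 0 16480 16480 Co1FixP1.part Co1FixP2.part

theorem upto3 : allR fY 0 49440 = true :=
  allR_append fY 0 32960 16480 upto2 Co1FixP3.part

theorem upto4 : allR fY 0 65920 = true :=
  allR_append fY 0 49440 16480 upto3 Co1FixP4.part

theorem upto5 : allR fY 0 82400 = true :=
  allR_append fY 0 65920 16480 upto4 Co1FixP5.part

theorem upto6 : allR fY 0 98880 = true :=
  allR_append fY 0 82400 16480 upto5 Co1FixP6.part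

theorem upto7 : allR fY 0 115360 = true :=
  allR_append fY 0 98880 16480 upto6 Co1FixP7.part

theorem upto8 : allR fY 0 131840 = true :=
  allR_append fY 0 115360 16480 upto7 Co1FixP8.part

theorem upto9 : allR fY 0 148320 = true :=
  allR_append fY 0 131840 16480 upto8 Co1FixP9.part

theorem upto10 : allR fY 0 164800 = true :=
  allR_append fY 0 148320 16480 upto9 Co1FixP10.part

theorem upto11 : allR fY 0 181280 = true :=
  allR_append fY 0 164800 16480 upto10 Co1FixP11.part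

theorem upto12 : allR fY 0 197760 = true :=
  allR_append fY 0 181280 16480 upto11 Co1FixP12.part

theorem fixY : allB KTOT (fixRowK n1.1 n1.2 iYT ok12) = true :=
  allB_of_allR fY KTOT upto12

end Cfsg.Agent.Lib.Helper27.Co1Fix
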