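import Mathlib
import Cfsg.Prelude.Def_Sporadic_a
import Cfsg.Agent.Lib.Helper27.SimpM22
import Cfsg.Agent.S1584
import Cfsg.Agent.S1641

/-!
The simplicity of the stabiliser of `u0` and `x1` (of order 44352000, on 100 vectors) and of the
stabiliser of `u0` (of order 495766656000, on 11178 vectors).
-/

set_option autoImplicit false

namespace Cfsg.Agent.Lib.Helper27.SimpHS

open Cfsg Cfsg.Agent.Lib.Helper27.Bits Cfsg.Agent.Lib.Helper27.Pk
open Cfsg.Agent.Lib.Helper27.MinTab Cfsg.Agent.Lib.Helper27.MinEnum Cfsg.Agent.Lib.Helper27.MinFast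
open Cfsg.Agent.Lib.Helper27.MinAll Cfsg.Agent.Lib.Helper27.LDot Cfsg.Agent.Lib.Helper27.LMat
open Cfsg.Agent.Lib.Helper27.Spread Cfsg.Agent.Lib.Helper27.Co0Act Cfsg.Agent.Lib.Helper27.LApp
open Cfsg.Agent.Lib.Helper27.OrbCert Cfsg.Agent.Lib.Helper27.CoGlue
open Cfsg.Agent.Lib.Helper27.CertBase Cfsg.Agent.Lib.Helper27.CoStd
open Cfsg.Agent.Lib.Helper27.SimpleCrit Cfsg.Agent.Lib.Helper27.Faith
open Cfsg.Agent.Lib.Helper27.SimpGlue Cfsg.Agent.Lib.Helper27.SimpM22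
open MulAction

/-! ### The stabiliser of `u0` and `x1` -/

theorem m22_inv' (tp tn : ℕ) : ∀ g ∈ stabilizer Co0 u0 ⊓ stabilizer Co0 x1 ⊓ stabilizer Co0 y0,
    ∀ x ∈ OmL ([(Y0, tp, tn)] ++ CertHS.cH), g • x ∈ OmL ([(Y0, tp, tn)] ++ CertHS.cH) := by
  intro g hg
  obtain ⟨h1, h2, h3⟩ := (mem_m22 g).mp hg
  apply omL_inv
  intro c hc
  simp only [CertHS.cH, List.cons_append, List.nil_append, List.mem_cons, List.not_mem_nil,
    or_false] at hc
  rcases hc with rfl | rfl | rfl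
  · exact ⟨y0, rfl, h3⟩
  · exact ⟨u0, rfl, h1⟩
  · exact ⟨x1, rfl, h2⟩

theorem m22_trans' {c : List (ℕ × ℕ × ℕ)}
    (htr : ∀ x ∈ Om c, ∀ y ∈ Om c, Rf ([U0, X1, Y0].map vecB) x y) :
    ∀ x ∈ OmL c, ∀ y ∈ OmL c,
      ∃ g ∈ stabilizer Co0 u0 ⊓ stabilizer Co0 x1 ⊓ stabilizer Co0 y0, g • x = y := by
  intro x hx y hy
  obtain ⟨g, e, hf⟩ := omL_trans htr x hx y hy
  exact ⟨g, (mem_m22 g).mpr ⟨hf u0 ⟨U0, by simp, rfl⟩, hf x1 ⟨X1, by simp, rfl⟩,
    hf y0 ⟨Y0, by simp, rfl⟩⟩, e⟩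

/-- The stabiliser of `u0` and `x1` is simple. -/
theorem hs_simple : IsSimpleGroup ↥(stabilizer Co0 u0 ⊓ stabilizer Co0 x1) := by
  have := co0_finite
  have hfin : (OmL CertHS.cH).Finite := omL_finite CertHS.cardH (by norm_num)
  refine simple_sub (stabilizer Co0 u0 ⊓ stabilizer Co0 x1) (OmL CertHS.cH) hfin m22_inv m22_trans
    ?_ y0 y0_om m22_simple ((sums [22, 77]).map (· + 1)) ?_ 100 44352000
    (by rw [ncard_omL]; exact CertHS.cardH) card_hs (by decide) 5 2 (by norm_num) (by norm_num)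
    (by norm_num) (by norm_num) (by norm_num) (by decide)
  · intro g hg hs
    obtain ⟨h1, h2⟩ := (mem_hs g).mp hg
    apply eq_one_of_fix CertSpan.rH CertSpan.zeroH g
    apply fix_rows CertHS.hcH CertSpan.rH CertSpan.kH 2 CertSpan.rowsH g
    · intro i hi
      interval_cases i
      · exact ⟨u0, rfl, h1⟩
      · exact ⟨x1, rfl, h2⟩
    · exact hs
  · intro T hTS hωT hTinv
    refine horb_of_suborbits (stabilizer Co0 u0 ⊓ stabilizer Co0 x1 ⊓ stabilizer Co0 y0)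
      (OmL CertHS.cH) hfin y0 (fun k hk => ((mem_m22 k).mp hk).2.2)
      [(OmL CertM22.cM1, 22), (OmL CertM22.cM2, 77)] ?_ ?_ T hTS hωT hTinv
    · intro O hO
      simp only [List.mem_cons, List.not_mem_nil, or_false] at hO
      rcases hO with rfl | rfl
      · exact ⟨(ncard_omL _).trans CertM22.cardM1, m22_inv' 8 0, m22_trans' CertM22.transM1⟩
      · exact ⟨(ncard_omL _).trans CertM22.cardM2, m22_inv' 16 0, m22_trans' CertM22.transM2⟩
    · intro s hs
      rcases Cfsg.Agent.S1584.cover _ hs with h | h | h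
      · left
        exact Subtype.ext h
      · right
        exact ⟨(OmL CertM22.cM1, 22), by simp,
          (omL_cons Y0 8 0 CertHS.cH s).mpr ⟨hs, by rw [h]; norm_num⟩⟩
      · right
        exact ⟨(OmL CertM22.cM2, 77), by simp,
          (omL_cons Y0 16 0 CertHS.cH s).mpr ⟨hs, by rw [h]; norm_num⟩⟩

/-! ### The stabiliser of `u0` -/

theorem hs_inv' (tp tn : ℕ) : ∀ g ∈ stabilizer Co0 u0 ⊓ stabilizer Co0 x1,
    ∀ x ∈ OmL ([(X1, tp, tn)] ++ CertCo3.cA), g • x ∈ OmL ([(X1, tp, tn)] ++ CertCo3.cA) := by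
  intro g hg
  obtain ⟨h1, h2⟩ := (mem_hs g).mp hg
  apply omL_inv
  intro c hc
  simp only [CertCo3.cA, List.cons_append, List.nil_append, List.mem_cons, List.not_mem_nil,
    or_false] at hc
  rcases hc with rfl | rfl
  · exact ⟨x1, rfl, h2⟩
  · exact ⟨u0, rfl, h1⟩

theorem hs_trans' {c : List (ℕ × ℕ × ℕ)}
    (htr : ∀ x ∈ Om c, ∀ y ∈ Om c, Rf ([U0, X1].map vecB) x y) :
    ∀ x ∈ OmL c, ∀ y ∈ OmL c, ∃ g ∈ stabilizer Co0 u0 ⊓ stabilizer Co0 x1, g • x = y := by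
  intro x hx y hy
  obtain ⟨g, e, hf⟩ := omL_trans htr x hx y hy
  exact ⟨g, (mem_hs g).mpr ⟨hf u0 ⟨U0, by simp, rfl⟩, hf x1 ⟨X1, by simp, rfl⟩⟩, e⟩

/-- The stabiliser of `u0` is simple. -/
theorem co3_simple : IsSimpleGroup ↥(stabilizer Co0 u0) := by
  have := co0_finite
  have hfin : (OmL CertCo3.cA).Finite := omL_finite CertCo3.cardA (by norm_num)
  refine simple_sub (stabilizer Co0 u0) (OmL CertCo3.cA) hfin hs_inv hs_trans
    ?_ x1 x1_om hs_simple ((sums [352, 1100, 4125, 5600]).map (· + 1)) ?_ 11178 495766656000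
    (by rw [ncard_omL]; exact CertCo3.cardA) card_co3 (by decide) 23 2 (by norm_num) (by norm_num)
    (by norm_num) (by norm_num) (by norm_num) (by decide)
  · intro g hg hs
    have h1 : g • u0 = u0 := mem_stabilizer_iff.mp hg
    apply eq_one_of_fix CertSpan.rA CertSpan.zeroA g
    apply fix_rows CertCo3.hcA CertSpan.rA CertSpan.kA 1 CertSpan.rowsA g
    · intro i hi
      interval_cases i
      exact ⟨u0, rfl, h1⟩
    · exact hs
  · intro T hTS hωT hTinv
    refine horb_of_suborbits (stabilizer Co0 u0 ⊓ stabilizer Co0 x1)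
      (OmL CertCo3.cA) hfin x1 (fun k hk => ((mem_hs k).mp hk).2)
      [(OmL CertHS.cB1, 352), (OmL CertHS.cB2, 1100), (OmL CertHS.cB3, 4125),
        (OmL CertHS.cB4, 5600)] ?_ ?_ T hTS hωT hTinv
    · intro O hO
      simp only [List.mem_cons, List.not_mem_nil, or_false] at hO
      rcases hO with rfl | rfl | rfl | rfl
      · exact ⟨(ncard_omL _).trans CertHS.cardB1, hs_inv' 0 8, hs_trans' CertHS.transB1⟩
      · exact ⟨(ncard_omL _).trans CertHS.cardB2, hs_inv' 16 0, hs_trans' CertHS.transB2⟩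
      · exact ⟨(ncard_omL _).trans CertHS.cardB3, hs_inv' 0 0, hs_trans' CertHS.transB3⟩
      · exact ⟨(ncard_omL _).trans CertHS.cardB4, hs_inv' 8 0, hs_trans' CertHS.transB4⟩
    · intro s hs
      rcases Cfsg.Agent.S1641.cover _ hs with h | h | h | h | h
      · left
        exact Subtype.ext h
      · right
        exact ⟨(OmL CertHS.cB1, 352), by simp,
          (omL_cons X1 0 8 CertCo3.cA s).mpr ⟨hs, by rw [h]; norm_num⟩⟩
      · right
        exact ⟨(OmL CertHS.cB2, 1100), by simp,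
          (omL_cons X1 16 0 CertCo3.cA s).mpr ⟨hs, by rw [h]; norm_num⟩⟩
      · right
        exact ⟨(OmL CertHS.cB3, 4125), by simp,
          (omL_cons X1 0 0 CertCo3.cA s).mpr ⟨hs, by rw [h]; norm_num⟩⟩
      · right
        exact ⟨(OmL CertHS.cB4, 5600), by simp,
          (omL_cons X1 8 0 CertCo3.cA s).mpr ⟨hs, by rw [h]; norm_num⟩⟩

end Cfsg.Agent.Lib.Helper27.SimpHS
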