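import Mathlib
import Cfsg.Prelude.Def_Sporadic_a
import Cfsg.Agent.Lib.Helper27.Co3CentD
import Cfsg.Agent.Lib.Helper27.SimpHS
import Cfsg.Agent.Lib.Helper27.CertSpan

/-!
The centraliser of the automorphism `e1` of order 11 in the stabiliser of `u0`: it consists of
the powers of `e1` and their products with the involution `e2`; so `e2` is the only involution
commuting with `e1`.
-/

set_option autoImplicit false
set_option maxRecDepth 100000

namespace Cfsg.Agent.Lib.Helper27.Co3Cent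

open Cfsg Cfsg.Agent.Lib.Helper27.Bits Cfsg.Agent.Lib.Helper27.Pk
open Cfsg.Agent.Lib.Helper27.MinTab Cfsg.Agent.Lib.Helper27.MinEnum Cfsg.Agent.Lib.Helper27.MinFast
open Cfsg.Agent.Lib.Helper27.MinAll Cfsg.Agent.Lib.Helper27.LDot Cfsg.Agent.Lib.Helper27.LMat
open Cfsg.Agent.Lib.Helper27.Spread Cfsg.Agent.Lib.Helper27.Co0Act Cfsg.Agent.Lib.Helper27.LApp
open Cfsg.Agent.Lib.Helper27.OrbCert Cfsg.Agent.Lib.Helper27.Chunk Cfsg.Agent.Lib.Helper27.CoGlue
open Cfsg.Agent.Lib.Helper27.Invol Cfsg.Agent.Lib.Helper27.SlpLib Cfsg.Agent.Lib.Helper27.CertBase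
open Cfsg.Agent.Lib.Helper27.Co3Slp1 Cfsg.Agent.Lib.Helper27.Co3CentD
open Cfsg.Agent.Lib.Helper27.CoStd Cfsg.Agent.Lib.Helper27.SimpGlue
open Cfsg.Agent.Lib.Helper27.SimpM22 Cfsg.Agent.Lib.Helper27.SimpHS Cfsg.Agent.Lib.Helper27.Faith
open MulAction

/-- A vector of a certified set fixed by the matrix has one of the two listed codes. -/
theorem fix_spec {conds : List (ℕ × ℕ × ℕ)} {T : ℕ → ℕ} {n : ℕ} (htab : TabOK conds T n)
    (hc : validConds conds = true) {M Cv : ℕ} (hM : matChk M Cv = true) (img : ℕ → ℕ) (a b : ℕ)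
    (hmv : allB n (fixRow M Cv T img a b) = true) :
    ∀ z ∈ Om conds, matAct M z = z → z = vecL (laneRef a) ∨ z = vecL (laneRef b) := by
  intro z hz hfix
  obtain ⟨k, hk, hin, rfl⟩ := om_code hc hz
  obtain ⟨i, hi, rfl⟩ := htab.surj hk hin
  have h := (allB_iff _ _).mp hmv i hi
  unfold fixRow at h
  rw [Bool.and_eq_true, Bool.and_eq_true, Bool.and_eq_true] at h
  obtain ⟨⟨⟨h1, h2⟩, h3⟩, h4⟩ := h
  obtain ⟨hm1, hm2, hm3⟩ := matChk_sound hM
  rw [hm3] at h4
  have hp : img i < KTOT := Nat.blt_eq.mp h1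
  have hvp : validK (img i) = true := by
    rw [← validKF_eq]
    exact h2
  have hact := app_mv hm2 (htab.lt i hi) (inOm_valid hin).1 hp hvp h4
  rw [hact] at hfix
  have e := mv_inj hp hvp (htab.lt i hi) (inOm_valid hin).1 hfix
  rw [e] at h3
  rw [Bool.or_eq_true, Bool.or_eq_true] at h3
  rcases h3 with (h3 | h3) | h3
  · simp at h3
  · left
    rw [Nat.eq_of_beq_eq_true h3]
  · right
    rw [Nat.eq_of_beq_eq_true h3]

/-! ### The three automorphisms -/

/-- the second vector of the set of 11178 fixed by `e1` -/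
def p2 : leechLattice := ⟨vecB P2, (min_vec P2_eq (by decide) (by decide)).1⟩

theorem fixes : e0 • u0 = u0 ∧ e1 • u0 = u0 ∧ e2 • u0 = u0 ∧ e1 • x1 = x1 ∧ e1 • y0 = y0 ∧
    e2 • p2 = x1 := by
  have h := chkFix
  simp only [Bool.and_eq_true] at h
  obtain ⟨⟨⟨⟨⟨⟨h1, h2⟩, h3⟩, h4⟩, h5⟩, h6⟩, h7⟩ := h
  exact ⟨elt_fix c0 valid_U0 h1 u0 rfl, elt_fix c1 valid_U0 h2 u0 rfl,
    elt_fix c2 valid_U0 h3 u0 rfl, elt_fix c1 valid_X1 h4 x1 rfl, elt_fix c1 valid_Y0 h5 y0 rfl,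
    Subtype.ext (elt_app c2 h6 valid_X1 h7 p2 rfl)⟩

theorem e1_m22 : e1 ∈ stabilizer Co0 u0 ⊓ stabilizer Co0 x1 ⊓ stabilizer Co0 y0 :=
  (mem_m22 e1).mpr ⟨fixes.2.1, fixes.2.2.2.1, fixes.2.2.2.2.1⟩

/-- A vector of the set of 11178 fixed by `e1` is `x1` or `p2`. -/
theorem fixA_spec (v : leechLattice) (hv : v ∈ OmL CertCo3.cA) (h : e1 • v = v) :
    v = x1 ∨ v = p2 := by
  have h' : matAct n1.1 (v : GolayPt → ℤ) = v := congrArg Subtype.val h
  rcases fix_spec CertCo3.tabA CertCo3.hcA c1 iAT 6 125401 fixA _ hv h' with e | e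
  · left
    apply Subtype.ext
    rw [e]
    exact (vecB_mv X1_eq (by decide) (by decide)).symm
  · right
    apply Subtype.ext
    rw [e]
    exact (vecB_mv P2_eq (by decide) (by decide)).symm

/-- A vector of the set of 100 fixed by `e1` is `y0`. -/
theorem fixH_spec (v : leechLattice) (hv : v ∈ OmL CertHS.cH) (h : e1 • v = v) : v = y0 := by
  have h' : matAct n1.1 (v : GolayPt → ℤ) = v := congrArg Subtype.val h
  have key : (v : GolayPt → ℤ) = vecL (laneRef 4) := by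
    rcases fix_spec CertHS.tabH CertHS.hcH c1 iHT 4 4 fixH _ hv h' with e | e <;> exact e
  apply Subtype.ext
  rw [key]
  exact (vecB_mv Y0_eq (by decide) (by decide)).symm

/-! ### The 22 vectors -/

/-- the vector `(1, ..., 1)` with `-3` at `j` -/
def om (j : ℕ) : GolayPt → ℤ := vecL (laneRef (99456 + j))

/-- the automorphism maps the vector at `j` to the vector at `j'` -/
def Maps (g : Co0) (j j' : ℕ) : Prop :=
  ∀ v : leechLattice, (v : GolayPt → ℤ) = om j → ((g • v : leechLattice) : GolayPt → ℤ) = om j'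

theorem chkY_spec (j : ℕ) (h2 : 2 ≤ j) (h24 : j < 24) :
    2 ≤ pyF j ∧ pyF j < 24 ∧ validK (99456 + j) = true ∧ inOm CertM22.cM1 (99456 + j) = true ∧
      appOK n1.1 n1.2 (mvS (99456 + j)) (mvB (99456 + pyF j)) = true := by
  have h := (allB_iff _ _).mp chkY j h24
  rw [Bool.or_eq_true] at h
  rcases h with h | h
  · exact absurd (Nat.blt_eq.mp h) (by omega)
  · simp only [Bool.and_eq_true] at h
    obtain ⟨⟨⟨⟨a1, a2⟩, a3⟩, a4⟩, a5⟩ := h
    refine ⟨Nat.le_of_ble_eq_true a1, Nat.blt_eq.mp a2, ?_, a4, a5⟩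
    rw [← validKF_eq]
    exact a3

theorem code_lt (j : ℕ) (h24 : j < 24) : 99456 + j < KTOT := by
  have : KTOT = 197760 := by decide
  omega

theorem om_mem (j : ℕ) (h2 : 2 ≤ j) (h24 : j < 24) : om j ∈ Om CertM22.cM1 :=
  mem_om CertM22.hcM1 (code_lt j h24) (chkY_spec j h2 h24).2.2.2.1

theorem y_maps (j : ℕ) (h2 : 2 ≤ j) (h24 : j < 24) : Maps e1 j (pyF j) := by
  intro v hv
  obtain ⟨b1, b2, b3, -, b5⟩ := chkY_spec j h2 h24
  obtain ⟨-, hm2, hm3⟩ := matChk_sound c1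
  rw [hm3] at b5
  have hv' : validK (99456 + pyF j) = true := (chkY_spec (pyF j) b1 b2).2.2.1
  have := app_mv hm2 (code_lt j h24) b3 (code_lt (pyF j) b2) hv' b5
  show matAct n1.1 (v : GolayPt → ℤ) = om (pyF j)
  rw [hv]
  exact this

theorem maps_step (g : Co0) (hc : g * e1 = e1 * g) {j j' : ℕ} (hj : 2 ≤ j ∧ j < 24)
    (hj' : 2 ≤ j' ∧ j' < 24) (h : Maps g j j') : Maps g (pyF j) (pyF j') := by
  intro v hv
  have hv0 : om j ∈ leechLattice := (om_mem j hj.1 hj.2).1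
  have e : v = e1 • (⟨om j, hv0⟩ : leechLattice) := by
    apply Subtype.ext
    rw [hv]
    exact (y_maps j hj.1 hj.2 ⟨om j, hv0⟩ rfl).symm
  rw [e, ← mul_smul, hc, mul_smul]
  exact y_maps j' hj'.1 hj'.2 _ (h ⟨om j, hv0⟩ rfl)

theorem it_range (k a : ℕ) (h : 2 ≤ a ∧ a < 24) : 2 ≤ itF pyF k a ∧ itF pyF k a < 24 := by
  induction k with
  | zero => exact h
  | succ k ih =>
    obtain ⟨b1, b2, -⟩ := chkY_spec _ ih.1 ih.2
    exact ⟨b1, b2⟩

theorem maps_iter (g : Co0) (hc : g * e1 = e1 * g) {j j' : ℕ} (hj : 2 ≤ j ∧ j < 24)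
    (hj' : 2 ≤ j' ∧ j' < 24) (h : Maps g j j') (k : ℕ) :
    Maps g (itF pyF k j) (itF pyF k j') := by
  induction k with
  | zero => exact h
  | succ k ih => exact maps_step g hc (it_range k j hj) (it_range k j' hj') ih

theorem seed_spec (j : ℕ) (h2 : 2 ≤ j) (h24 : j < 24) :
    (sdF j = 2 ∨ sdF j = J1) ∧ itF pyF (kkF j) (sdF j) = j := by
  have h := (allB_iff _ _).mp chkSeed j h24
  rw [Bool.or_eq_true] at h
  rcases h with h | h
  · exact absurd (Nat.blt_eq.mp h) (by omega)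
  · rw [Bool.and_eq_true, Bool.or_eq_true] at h
    refine ⟨?_, Nat.eq_of_beq_eq_true h.2⟩
    rcases h.1 with h1 | h1
    · exact Or.inl (Nat.eq_of_beq_eq_true h1)
    · exact Or.inr (Nat.eq_of_beq_eq_true h1)

theorem J1_range : 2 ≤ J1 ∧ J1 < 24 := by decide

theorem pi_range (a b : ℕ) (ha : 2 ≤ a ∧ a < 24) (hb : 2 ≤ b ∧ b < 24) (j : ℕ) :
    2 ≤ piF a b j ∧ piF a b j < 24 := by
  unfold piF
  apply it_range
  cases Nat.beq (sdF j) 2
  · exact hb
  · exact ha

/-- An automorphism commuting with `e1` acts on the 22 vectors as a candidate permutation. -/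
theorem cand (g : Co0) (hc : g * e1 = e1 * g) (a b : ℕ) (ha : 2 ≤ a ∧ a < 24)
    (hb : 2 ≤ b ∧ b < 24) (h1 : Maps g 2 a) (h2 : Maps g J1 b) :
    ∀ j, 2 ≤ j → j < 24 → Maps g j (piF a b j) := by
  intro j hj2 hj24
  obtain ⟨hs, hit⟩ := seed_spec j hj2 hj24
  rcases hs with hs | hs
  · have key := maps_iter g hc (j := 2) ⟨le_refl 2, by norm_num⟩ ha h1 (kkF j)
    rw [hs] at hit
    rw [hit] at key
    have e : piF a b j = itF pyF (kkF j) a := by
      unfold piF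
      rw [hs]
      rfl
    rw [e]
    exact key
  · have key := maps_iter g hc (j := J1) J1_range hb h2 (kkF j)
    rw [hs] at hit
    rw [hit] at key
    have e : piF a b j = itF pyF (kkF j) b := by
      unfold piF
      rw [hs]
      rfl
    rw [e]
    exact key

theorem wB_eq (j : ℕ) (h2 : 2 ≤ j) (h24 : j < 24) : vecB (wB j) = om j :=
  vecB_mv rfl (code_lt j h24) (chkY_spec j h2 h24).2.2.1

/-- No automorphism fixing `u0`, `x1`, `y0` acts on the 22 vectors as an excluded candidate. -/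
theorem excl (g : Co0) (hg : g ∈ stabilizer Co0 u0 ⊓ stabilizer Co0 x1 ⊓ stabilizer Co0 y0)
    (π : ℕ → ℕ) (hπ : ∀ j, 2 ≤ j → j < 24 → Maps g j (π j))
    (hπr : ∀ j, 2 ≤ π j ∧ π j < 24) (o msk : ℕ)
    (hchk : exclOK π o msk = true) : False := by
  unfold exclOK at hchk
  simp only [Bool.and_eq_true] at hchk
  obtain ⟨⟨⟨ho, hin⟩, hd⟩, hno⟩ := hchk
  have hoK : o < KTOT := Nat.blt_eq.mp ho
  have hom := mem_om CertM22.hcM2 hoK hin
  have hz : g • (⟨vecL (laneRef o), hom.1⟩ : leechLattice) ∈ OmL CertM22.cM2 :=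
    m22_inv' 16 0 g hg ⟨vecL (laneRef o), hom.1⟩ hom
  obtain ⟨k, hk, hink, hvk⟩ := om_code CertM22.hcM2 hz
  obtain ⟨i, hi, hri⟩ := CertM22.tabM2.surj hk hink
  have hrow := (allB_iff _ _).mp hno i hi
  have hall : allB 24 (fun j => Nat.blt j 2 ||
      condOK (wB (π j)) (tpF msk j) 0 (mvB (rCode (CertM22.tM2T i)))) = true := by
    rw [allB_iff]
    intro j hj
    rw [Bool.or_eq_true]
    by_cases h2 : j < 2
    · left
      exact Nat.blt_eq.mpr h2
    · right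
      have hj2 : 2 ≤ j := by omega
      have hdj := (allB_iff _ _).mp hd j hj
      rw [Bool.or_eq_true] at hdj
      rcases hdj with hdj | hdj
      · exact absurd (Nat.blt_eq.mp hdj) h2
      · simp only [Bool.and_eq_true] at hdj
        obtain ⟨⟨w1, w2⟩, w3⟩ := hdj
        rw [hri]
        rw [condOK_mv _ _ w2 hk (inOm_valid hink).1]
        have d1 := (condOK_mv (tpF msk j) 0 w1 hoK (inOm_valid hin).1).mp w3
        have e1' : vecL (lanesB (wB (π j))) = om (π j) := wB_eq (π j) (hπr j).1 (hπr j).2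
        have e2' : vecL (lanesB (wB j)) = om j := wB_eq j hj2 hj
        have hm := hπ j hj2 hj ⟨om j, (om_mem j hj2 hj).1⟩ rfl
        have sd := smul_dot g ⟨om j, (om_mem j hj2 hj).1⟩ ⟨vecL (laneRef o), hom.1⟩
        rw [e1', hvk, ← hm, sd]
        rw [e2'] at d1
        exact d1
  rw [hall] at hrow
  exact absurd hrow (by decide)

theorem e1_pow_maps (k s : ℕ) (hs : 2 ≤ s ∧ s < 24) : Maps (e1 ^ k) s (itF pyF k s) := by
  induction k with
  | zero =>
    intro v hv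
    rw [pow_zero, one_smul]
    exact hv
  | succ k ih =>
    intro v hv
    rw [pow_succ', mul_smul]
    exact y_maps _ (it_range k s hs).1 (it_range k s hs).2 _ (ih v hv)

theorem m1_code (v : leechLattice) (hv : v ∈ OmL CertM22.cM1) :
    ∃ j, 2 ≤ j ∧ j < 24 ∧ (v : GolayPt → ℤ) = om j := by
  obtain ⟨k, hk, hin, e⟩ := om_code CertM22.hcM1 hv
  obtain ⟨i, hi, hri⟩ := CertM22.tabM1.surj hk hin
  have h := (allB_iff _ _).mp chkM1 i hi
  rw [Bool.and_eq_true, hri] at h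
  have h1 := Nat.le_of_ble_eq_true h.1
  have h2 := Nat.blt_eq.mp h.2
  refine ⟨k - 99456, by omega, by omega, ?_⟩
  rw [← e]
  unfold om
  have : 99456 + (k - 99456) = k := by omega
  rw [this]

theorem pi_id (j : ℕ) (h2 : 2 ≤ j) (h24 : j < 24) : piF 2 J1 j = j := by
  have h := (allB_iff _ _).mp chkId j h24
  rw [Bool.or_eq_true] at h
  rcases h with h | h
  · exact absurd (Nat.blt_eq.mp h) (by omega)
  · exact Nat.eq_of_beq_eq_true h

/-- The centraliser of `e1` in the stabiliser of `u0`, `x1`, `y0`. -/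
theorem cent_m22 (g : Co0)
    (hg : g ∈ stabilizer Co0 u0 ⊓ stabilizer Co0 x1 ⊓ stabilizer Co0 y0)
    (hc : g * e1 = e1 * g) : g ∈ Subgroup.zpowers e1 := by
  have h2m : om 2 ∈ Om CertM22.cM1 := om_mem 2 (by norm_num) (by norm_num)
  obtain ⟨j', hj2, hj24, ej'⟩ := m1_code (g • ⟨om 2, h2m.1⟩) (l34_inv g hg _ h2m)
  obtain ⟨hs, hit⟩ := seed_spec j' hj2 hj24
  have hsr : 2 ≤ sdF j' ∧ sdF j' < 24 := by
    rcases hs with h | h
    · rw [h]
      norm_num
    · rw [h]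
      exact J1_range
  have hg'm : (e1 ^ kkF j')⁻¹ * g ∈ stabilizer Co0 u0 ⊓ stabilizer Co0 x1 ⊓ stabilizer Co0 y0 :=
    mul_mem (inv_mem (pow_mem e1_m22 _)) hg
  have hc' : (e1 ^ kkF j')⁻¹ * g * e1 = e1 * ((e1 ^ kkF j')⁻¹ * g) := by
    have hcm : e1 * (e1 ^ kkF j')⁻¹ = (e1 ^ kkF j')⁻¹ * e1 :=
      (((Commute.refl e1).pow_right (kkF j')).inv_right).eq
    rw [mul_assoc, hc, ← mul_assoc, ← mul_assoc, hcm]
  have hm2 : Maps ((e1 ^ kkF j')⁻¹ * g) 2 (sdF j') := by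
    intro v hv
    have ev : v = ⟨om 2, h2m.1⟩ := Subtype.ext hv
    have hsm : om (sdF j') ∈ leechLattice := (om_mem _ hsr.1 hsr.2).1
    have e3 : g • v = e1 ^ kkF j' • (⟨om (sdF j'), hsm⟩ : leechLattice) := by
      apply Subtype.ext
      rw [ev, ej', e1_pow_maps (kkF j') (sdF j') hsr ⟨om (sdF j'), hsm⟩ rfl, hit]
    rw [mul_smul, e3, inv_smul_smul]
  have hJm : om J1 ∈ Om CertM22.cM1 := om_mem J1 J1_range.1 J1_range.2
  obtain ⟨b, hb2, hb24, eb⟩ := m1_code (((e1 ^ kkF j')⁻¹ * g) • ⟨om J1, hJm.1⟩)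
    (l34_inv _ hg'm _ hJm)
  have hmJ : Maps ((e1 ^ kkF j')⁻¹ * g) J1 b := by
    intro v hv
    have ev : v = ⟨om J1, hJm.1⟩ := Subtype.ext hv
    rw [ev]
    exact eb
  have hπ := cand _ hc' (sdF j') b hsr ⟨hb2, hb24⟩ hm2 hmJ
  by_cases hid : sdF j' = 2 ∧ b = J1
  · have hone : (e1 ^ kkF j')⁻¹ * g = 1 := by
      obtain ⟨h1, h2, h3⟩ := (mem_m22 _).mp hg'm
      apply eq_one_of_fix CertSpan.rH CertSpan.zeroH
      apply fix_rows CertM22.hcM1 CertSpan.rH CertSpan.kH 3 CertSpan.rowsM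
      · intro i hi
        interval_cases i
        · exact ⟨u0, rfl, h1⟩
        · exact ⟨x1, rfl, h2⟩
        · exact ⟨y0, rfl, h3⟩
      · intro v hv
        obtain ⟨j, hj2', hj24', ej⟩ := m1_code v hv
        have := hπ j hj2' hj24' v ej
        rw [hid.1, hid.2, pi_id j hj2' hj24'] at this
        exact Subtype.ext (this.trans ej.symm)
    have : g = e1 ^ kkF j' := (inv_mul_eq_one.mp hone).symm
    rw [this]
    exact pow_mem (Subgroup.mem_zpowers e1) _
  · exfalso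
    have hex := chkExcl
    rcases hs with hs | hs
    · have hb : b ≠ J1 := fun h => hid ⟨hs, h⟩
      have h0 := (allB_iff _ _).mp ((allB_iff _ _).mp hex 0 (by norm_num)) b hb24
      rw [Bool.or_eq_true, Bool.or_eq_true] at h0
      rcases h0 with (h0 | h0) | h0
      · exact absurd (Nat.blt_eq.mp h0) (by omega)
      · rw [Bool.and_eq_true] at h0
        exact hb (Nat.eq_of_beq_eq_true h0.2)
      · rw [hs] at hπ
        exact excl _ hg'm (piF 2 b) hπ (pi_range 2 b ⟨le_refl 2, by norm_num⟩ ⟨hb2, hb24⟩)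
          (ocF 0 b) (mkF 0 b) h0
    · have h1 := (allB_iff _ _).mp ((allB_iff _ _).mp hex 1 (by norm_num)) b hb24
      rw [Bool.or_eq_true, Bool.or_eq_true] at h1
      rcases h1 with (h1 | h1) | h1
      · exact absurd (Nat.blt_eq.mp h1) (by omega)
      · rw [Bool.and_eq_true] at h1
        exact absurd h1.1 (by decide)
      · rw [hs] at hπ
        exact excl _ hg'm (piF J1 b) hπ (pi_range J1 b J1_range ⟨hb2, hb24⟩)
          (ocF 1 b) (mkF 1 b) h1

/-- The centraliser of `e1` in the stabiliser of `u0` and `x1`. -/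
theorem cent_hs (g : Co0) (hg : g ∈ stabilizer Co0 u0 ⊓ stabilizer Co0 x1)
    (hc : g * e1 = e1 * g) : g ∈ Subgroup.zpowers e1 := by
  have h1 : e1 • (g • y0) = g • y0 := by
    rw [← mul_smul, ← hc, mul_smul, fixes.2.2.2.2.1]
  have h2 := fixH_spec (g • y0) (m22_inv g hg y0 y0_om) h1
  obtain ⟨a1, a2⟩ := (mem_hs g).mp hg
  exact cent_m22 g ((mem_m22 g).mpr ⟨a1, a2, h2⟩) hc

theorem e2_sq : e2 * e2 = 1 := q2_2

theorem e12_comm : e2 * e1 = e1 * e2 := by rw [← m14, q1_2]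

/-- The centraliser of `e1` in the stabiliser of `u0`. -/
theorem cent_co3 (g : Co0) (hg : g ∈ stabilizer Co0 u0) (hc : g * e1 = e1 * g) :
    g ∈ Subgroup.zpowers e1 ∨ e2 * g ∈ Subgroup.zpowers e1 := by
  have h1 : e1 • (g • x1) = g • x1 := by
    rw [← mul_smul, ← hc, mul_smul, fixes.2.2.2.1]
  rcases fixA_spec (g • x1) (hs_inv g hg x1 x1_om) h1 with h2 | h2
  · left
    exact cent_hs g ((mem_hs g).mpr ⟨mem_stabilizer_iff.mp hg, h2⟩) hc
  · right
    apply cent_hs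
    · refine (mem_hs _).mpr ⟨?_, ?_⟩
      · rw [mul_smul, mem_stabilizer_iff.mp hg, fixes.2.2.1]
      · rw [mul_smul, h2, fixes.2.2.2.2.2]
    · rw [mul_assoc, hc, ← mul_assoc, e12_comm, mul_assoc]

theorem e1_pow : e1 ^ 11 = 1 := by
  have h9 : e9 = e1 ^ 2 := by rw [m9, pow_two]
  have h10 : e10 = e1 ^ 4 := by rw [m10, h9, ← pow_add]
  have h11 : e11 = e1 ^ 8 := by rw [m11, h10, ← pow_add]
  have h12 : e12 = e1 ^ 10 := by rw [m12, h11, h9, ← pow_add]
  have := q12_1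
  rw [h12, ← pow_succ] at this
  exact this

/-- The only involution of the stabiliser of `u0` commuting with `e1` is `e2`. -/
theorem invol_unique (s : Co0) (hs : s ∈ stabilizer Co0 u0) (hc : s * e1 = e1 * s)
    (h2 : s * s = 1) (h1 : s ≠ 1) : s = e2 := by
  have key : ∀ w : Co0, w ∈ Subgroup.zpowers e1 → w * w = 1 → w = 1 := by
    intro w hw hww
    have d1 : orderOf w ∣ 11 :=
      (orderOf_dvd_of_mem_zpowers hw).trans (orderOf_dvd_of_pow_eq_one e1_pow)
    have d2 : orderOf w ∣ 2 := orderOf_dvd_of_pow_eq_one (by rw [pow_two]; exact hww)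
    have d3 : orderOf w ∣ Nat.gcd 11 2 := Nat.dvd_gcd d1 d2
    have d4 : orderOf w = 1 := Nat.eq_one_of_dvd_one (by simpa using d3)
    exact orderOf_eq_one_iff.mp d4
  rcases cent_co3 s hs hc with h | h
  · exact absurd (key s h h2) h1
  · have hcomm : e2 * (e2 * s) = (e2 * s) * e2 := by
      obtain ⟨k, hk⟩ := Subgroup.mem_zpowers_iff.mp h
      rw [← hk]
      exact ((Commute.zpow_right e12_comm k)).eq
    have hsq : (e2 * s) * (e2 * s) = 1 := by
      have e : (e2 * s) * (e2 * s) = (e2 * s) * e2 * s := by group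
      rw [e, ← hcomm, ← mul_assoc, e2_sq, one_mul, h2]
    have hone := key _ h hsq
    have : s = e2⁻¹ := eq_inv_of_mul_eq_one_right hone
    rw [this]
    exact inv_eq_of_mul_eq_one_left e2_sq

end Cfsg.Agent.Lib.Helper27.Co3Cent
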