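import Mathlib
import Cfsg.Prelude.Def_Sporadic_a
import Cfsg.Agent.Lib.Helper27.Co2CentD
import Cfsg.Agent.Lib.Helper27.Co2TabW
import Cfsg.Agent.Lib.Helper27.Co3Cent

/-!
The centraliser of the automorphism `e1` of order 11 in the stabiliser of `w1 = (1, -3, 1, ...)`
consists of the powers of `e1`.
-/

set_option autoImplicit false
set_option maxRecDepth 100000

namespace Cfsg.Agent.Lib.Helper27.Co2Cent

open Cfsg Cfsg.Agent.Lib.Helper27.Bits Cfsg.Agent.Lib.Helper27.Pk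
open Cfsg.Agent.Lib.Helper27.MinTab Cfsg.Agent.Lib.Helper27.MinEnum Cfsg.Agent.Lib.Helper27.MinFast
open Cfsg.Agent.Lib.Helper27.MinAll Cfsg.Agent.Lib.Helper27.LDot Cfsg.Agent.Lib.Helper27.LMat
open Cfsg.Agent.Lib.Helper27.Spread Cfsg.Agent.Lib.Helper27.Co0Act Cfsg.Agent.Lib.Helper27.LApp
open Cfsg.Agent.Lib.Helper27.OrbCert Cfsg.Agent.Lib.Helper27.Chunk Cfsg.Agent.Lib.Helper27.CoGlue
open Cfsg.Agent.Lib.Helper27.Invol Cfsg.Agent.Lib.Helper27.SlpLib Cfsg.Agent.Lib.Helper27.CertBase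
open Cfsg.Agent.Lib.Helper27.Co2Base Cfsg.Agent.Lib.Helper27.Co2Slp1
open Cfsg.Agent.Lib.Helper27.Co2OrbA Cfsg.Agent.Lib.Helper27.Co2TabW
open Cfsg.Agent.Lib.Helper27.Co2CentD
open Cfsg.Agent.Lib.Helper27.CoStd Cfsg.Agent.Lib.Helper27.SimpGlue
open Cfsg.Agent.Lib.Helper27.SimpM22 Cfsg.Agent.Lib.Helper27.SimpHS Cfsg.Agent.Lib.Helper27.Faith
open MulAction

/-- the vector `(1, -3, 1, ..., 1)` -/
def w1 : leechLattice := ⟨vecB W1, (min_vec W1_eq (by decide) (by decide)).1⟩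

/-- a vector with odd coordinates -/
def y0p : leechLattice := ⟨vecB Y0P, (min_vec Y0P_eq (by decide) (by decide)).1⟩

theorem w1_norm : sqNorm (w1 : GolayPt → ℤ) = 32 := (min_vec W1_eq (by decide) (by decide)).2

theorem fixes2 : e0 • w1 = w1 ∧ e1 • w1 = w1 ∧ e2 • w1 = w1 ∧ e2 • x1 = w0 ∧ e2 • y0 = y0p := by
  have h := Co2CentD.chkFix
  simp only [Bool.and_eq_true] at h
  obtain ⟨⟨⟨⟨h1, h2⟩, h3⟩, h4⟩, h5⟩ := h
  exact ⟨elt_fix c0 valid_W1 h1 w1 rfl, elt_fix c1 valid_W1 h2 w1 rfl,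
    elt_fix c2 valid_W1 h3 w1 rfl, Subtype.ext (elt_app c2 valid_X1 valid_W0 h4 x1 rfl),
    Subtype.ext (elt_app c2 valid_Y0 valid_Y0P h5 y0 rfl)⟩

theorem e1_x1 : e1 • x1 = x1 := Co3Cent.fixes.2.2.2.1

theorem e1_y0 : e1 • y0 = y0 := Co3Cent.fixes.2.2.2.2.1

/-! ### The images of `x1` and `y0` -/

theorem x1_omA : (x1 : GolayPt → ℤ) ∈ Om cA := by
  have h := mem_om hcA (k := 6) (by decide) (by decide +kernel)
  rw [← vecB_mv X1_eq (by decide) (by decide)] at h
  exact h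

theorem y0_omW : (y0 : GolayPt → ℤ) ∈ Om cW8 := by
  have h := mem_om hcW8 (k := 4) (by decide) (by decide +kernel)
  rw [← vecB_mv Y0_eq (by decide) (by decide)] at h
  exact h

theorem img_x1 (g : Co0) (hw : g • w1 = w1) (hc : g * e1 = e1 * g) : g • x1 = x1 ∨ g • x1 = w0 := by
  have h1 : e1 • (g • x1) = g • x1 := by
    rw [← mul_smul, ← hc, mul_smul, e1_x1]
  have hin : g • x1 ∈ OmL cA := by
    apply omL_inv cA g _ x1 x1_omA
    intro c hcm
    simp only [cA, List.mem_cons, List.not_mem_nil, or_false] at hcm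
    rw [hcm]
    exact ⟨w1, rfl, hw⟩
  have h' : matAct n1.1 ((g • x1 : leechLattice) : GolayPt → ℤ) = (g • x1 : leechLattice) :=
    congrArg Subtype.val h1
  rcases Co3Cent.fix_spec tabA hcA c1 Co2OrbA.iAT 6 99456 Co2OrbA.fixA _ hin h' with e | e
  · left
    apply Subtype.ext
    rw [e]
    exact (vecB_mv X1_eq (by decide) (by decide)).symm
  · right
    apply Subtype.ext
    rw [e]
    exact (vecB_mv W0_eq (by decide) (by decide)).symm

theorem img_y0 (g : Co0) (hw : g • w1 = w1) (hc : g * e1 = e1 * g) :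
    g • y0 = y0 ∨ g • y0 = y0p := by
  have h1 : e1 • (g • y0) = g • y0 := by
    rw [← mul_smul, ← hc, mul_smul, e1_y0]
  have hin : g • y0 ∈ OmL cW8 := by
    apply omL_inv cW8 g _ y0 y0_omW
    intro c hcm
    simp only [cW8, List.mem_cons, List.not_mem_nil, or_false] at hcm
    rw [hcm]
    exact ⟨w1, rfl, hw⟩
  have h' : matAct n1.1 ((g • y0 : leechLattice) : GolayPt → ℤ) = (g • y0 : leechLattice) :=
    congrArg Subtype.val h1
  rcases Co3Cent.fix_spec tabW8 hcW8 c1 iWT 4 171793 fixW _ hin h' with e | e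
  · left
    apply Subtype.ext
    rw [e]
    exact (vecB_mv Y0_eq (by decide) (by decide)).symm
  · right
    apply Subtype.ext
    rw [e]
    exact (vecB_mv Y0P_eq (by decide) (by decide)).symm

/-! ### Inner products and a relation -/

theorem dot_x1_y0 : dotInt (x1 : GolayPt → ℤ) (y0 : GolayPt → ℤ) = 0 := by
  have h := dot_vecB 0 0 valid_X1 valid_Y0 (by decide +kernel)
  show dotInt (vecB X1) (vecB Y0) = 0
  rw [h]; norm_num

theorem dot_x1_y0p : dotInt (x1 : GolayPt → ℤ) (y0p : GolayPt → ℤ) = -8 := by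
  have h := dot_vecB 0 8 valid_X1 valid_Y0P (by decide +kernel)
  show dotInt (vecB X1) (vecB Y0P) = -8
  rw [h]; norm_num

theorem dot_w0_y0 : dotInt (w0 : GolayPt → ℤ) (y0 : GolayPt → ℤ) = -8 := by
  have h := dot_vecB 0 8 valid_W0 valid_Y0 (by decide +kernel)
  show dotInt (vecB W0) (vecB Y0) = -8
  rw [h]; norm_num

theorem vecB_add2 {a b c d : ℕ}
    (h : allB 24 (fun i => Nat.beq (Nat.add (lanesB a i) (lanesB b i))
      (Nat.add (lanesB c i) (lanesB d i))) = true) : vecB a + vecB b = vecB c + vecB d := by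
  funext p
  have e : lanesB a (idx p) + lanesB b (idx p) = lanesB c (idx p) + lanesB d (idx p) :=
    Nat.eq_of_beq_eq_true ((allB_iff _ _).mp h (idx p) (idx_lt p))
  show ((lanesB a (idx p) : ℤ) - 8) + ((lanesB b (idx p) : ℤ) - 8)
    = ((lanesB c (idx p) : ℤ) - 8) + ((lanesB d (idx p) : ℤ) - 8)
  have e' := congrArg (Nat.cast : ℕ → ℤ) e
  push_cast at e'
  linarith

theorem u0_x1 : u0 + x1 = w1 + y0 := Subtype.ext (vecB_add2 (by decide +kernel))

/-- An automorphism fixing `w1`, `x1`, `y0` fixes `u0`. -/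
theorem fix_u0 (g : Co0) (hw : g • w1 = w1) (hx : g • x1 = x1) (hy : g • y0 = y0) :
    g • u0 = u0 := by
  have h := congrArg (fun v => g • v) u0_x1
  simp only [smul_add_l, hw, hx, hy] at h
  rw [← u0_x1] at h
  exact add_right_cancel h

/-! ### The 22 vectors -/

/-- the automorphism maps the vector at `j` to the vector of row `i` of the table of 22 -/
def Maps2 (g : Co0) (j i : ℕ) : Prop :=
  ∀ v : leechLattice, (v : GolayPt → ℤ) = Co3Cent.om j →
    ((g • v : leechLattice) : GolayPt → ℤ) = vecL (laneRef (rCode (tTT i)))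

theorem chkT_spec (i : ℕ) (hi : i < 22) : p2F i < 22 ∧ validB (mvB (rCode (tTT i))) = true ∧
    appOK n1.1 n1.2 (mvS (rCode (tTT i))) (mvB (rCode (tTT (p2F i)))) = true := by
  have h := (allB_iff _ _).mp chkT i hi
  simp only [Bool.and_eq_true] at h
  exact ⟨Nat.blt_eq.mp h.1.1, h.1.2, h.2⟩

theorem t_maps (i : ℕ) (hi : i < 22) (v : leechLattice)
    (hv : (v : GolayPt → ℤ) = vecL (laneRef (rCode (tTT i)))) :
    ((e1 • v : leechLattice) : GolayPt → ℤ) = vecL (laneRef (rCode (tTT (p2F i)))) := by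
  obtain ⟨b1, -, b3⟩ := chkT_spec i hi
  obtain ⟨-, hm2, hm3⟩ := matChk_sound c1
  rw [hm3] at b3
  have := app_mv hm2 (tabT.lt i hi) (inOm_valid (tabT.mem i hi)).1 (tabT.lt _ b1)
    (inOm_valid (tabT.mem _ b1)).1 b3
  show matAct n1.1 (v : GolayPt → ℤ) = _
  rw [hv]
  exact this

theorem maps2_step (g : Co0) (hc : g * e1 = e1 * g) {j i : ℕ} (hj : 2 ≤ j ∧ j < 24)
    (hi : i < 22) (h : Maps2 g j i) : Maps2 g (Co3CentD.pyF j) (p2F i) := by
  intro v hv
  have hv0 : Co3Cent.om j ∈ leechLattice := (Co3Cent.om_mem j hj.1 hj.2).1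
  have e : v = e1 • (⟨Co3Cent.om j, hv0⟩ : leechLattice) := by
    apply Subtype.ext
    rw [hv]
    exact (Co3Cent.y_maps j hj.1 hj.2 ⟨Co3Cent.om j, hv0⟩ rfl).symm
  rw [e, ← mul_smul, hc, mul_smul]
  exact t_maps i hi _ (h ⟨Co3Cent.om j, hv0⟩ rfl)

theorem it2_range (k a : ℕ) (h : a < 22) : Co3CentD.itF p2F k a < 22 := by
  induction k with
  | zero => exact h
  | succ k ih => exact (chkT_spec _ ih).1

theorem maps2_iter (g : Co0) (hc : g * e1 = e1 * g) {j i : ℕ} (hj : 2 ≤ j ∧ j < 24)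
    (hi : i < 22) (h : Maps2 g j i) (k : ℕ) : Maps2 g (Co3CentD.itF Co3CentD.pyF k j) (Co3CentD.itF p2F k i) := by
  induction k with
  | zero => exact h
  | succ k ih => exact maps2_step g hc (Co3Cent.it_range k j hj) (it2_range k i hi) ih

theorem pi2_range (a b : ℕ) (ha : a < 22) (hb : b < 22) (j : ℕ) : pi2F a b j < 22 := by
  unfold pi2F
  apply it2_range
  cases Nat.beq (Co3CentD.sdF j) 2
  · exact hb
  · exact ha

/-- An automorphism commuting with `e1` maps the 22 vectors as a candidate map. -/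
theorem cand2 (g : Co0) (hc : g * e1 = e1 * g) (a b : ℕ) (ha : a < 22) (hb : b < 22)
    (h1 : Maps2 g 2 a) (h2 : Maps2 g Co3CentD.J1 b) :
    ∀ j, 2 ≤ j → j < 24 → Maps2 g j (pi2F a b j) := by
  intro j hj2 hj24
  obtain ⟨hs, hit⟩ := Co3Cent.seed_spec j hj2 hj24
  rcases hs with hs | hs
  · have key := maps2_iter g hc (j := 2) ⟨le_refl 2, by norm_num⟩ ha h1 (Co3CentD.kkF j)
    rw [hs] at hit
    rw [hit] at key
    have e : pi2F a b j = Co3CentD.itF p2F (Co3CentD.kkF j) a := by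
      unfold pi2F
      rw [hs]
      rfl
    rw [e]
    exact key
  · have key := maps2_iter g hc (j := Co3CentD.J1) Co3Cent.J1_range hb h2 (Co3CentD.kkF j)
    rw [hs] at hit
    rw [hit] at key
    have e : pi2F a b j = Co3CentD.itF p2F (Co3CentD.kkF j) b := by
      unfold pi2F
      rw [hs]
      rfl
    rw [e]
    exact key

/-- No automorphism fixing `w1` and mapping `x1`, `y0` to `w0`, `y0p` maps the 22 vectors as an
excluded candidate. -/
theorem excl2 (g : Co0) (hw : g • w1 = w1) (hx : g • x1 = w0) (hy : g • y0 = y0p)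
    (π : ℕ → ℕ) (hπ : ∀ j, 2 ≤ j → j < 24 → Maps2 g j (π j)) (hπr : ∀ j, π j < 22)
    (o msk : ℕ) (hchk : Co2CentD.exclOK π o msk = true) : False := by
  unfold Co2CentD.exclOK at hchk
  simp only [Bool.and_eq_true] at hchk
  obtain ⟨⟨⟨⟨⟨⟨ho, hv⟩, d1⟩, d2⟩, d3⟩, hd⟩, hno⟩ := hchk
  have hoK : o < KTOT := Nat.blt_eq.mp ho
  have hvK : validK o = true := by
    rw [← validKF_eq]
    exact hv
  have hom := mv_sound hoK hvK
  have e1' := (condOK_mv 16 0 valid_W1 hoK hvK).mp d1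
  have e2' := (condOK_mv 8 0 valid_X1 hoK hvK).mp d2
  have e3' := (condOK_mv 8 0 valid_Y0 hoK hvK).mp d3
  have hz : ((g • (⟨vecL (laneRef o), hom.1⟩ : leechLattice) : leechLattice) : GolayPt → ℤ)
      ∈ Om cH := by
    apply mem_om_smul g cH _ hom.2
    intro c hcm
    simp only [cH, eH, cA, List.cons_append, List.nil_append, List.mem_cons, List.not_mem_nil,
      or_false] at hcm
    rcases hcm with rfl | rfl | rfl
    · exact ⟨x1, congrArg Subtype.val hx, e2'⟩
    · exact ⟨y0, congrArg Subtype.val hy, e3'⟩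
    · exact ⟨w1, congrArg Subtype.val hw, e1'⟩
  obtain ⟨k, hk, hink, hvk⟩ := om_code hcH hz
  obtain ⟨i, hi, hri⟩ := tabH.surj hk hink
  have hrow := (allB_iff _ _).mp hno i hi
  have hall : allB 24 (fun j => Nat.blt j 2 ||
      condOK (mvB (rCode (tTT (π j)))) (Co3CentD.tpF msk j) 0 (mvB (rCode (tHT i)))) = true := by
    rw [allB_iff]
    intro j hj
    rw [Bool.or_eq_true]
    by_cases h2 : j < 2
    · left
      exact Nat.blt_eq.mpr h2
    · right
      have hj2 : 2 ≤ j := by omega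
      have hdj := (allB_iff _ _).mp hd j hj
      rw [Bool.or_eq_true] at hdj
      rcases hdj with hdj | hdj
      · exact absurd (Nat.blt_eq.mp hdj) h2
      · simp only [Bool.and_eq_true] at hdj
        obtain ⟨w1', w3⟩ := hdj
        have hp := hπr j
        obtain ⟨-, hvT, -⟩ := chkT_spec (π j) hp
        rw [hri]
        rw [condOK_mv _ _ hvT hk (inOm_valid hink).1]
        have d1' := (condOK_mv (Co3CentD.tpF msk j) 0 w1' hoK hvK).mp w3
        have ea : vecL (lanesB (mvB (rCode (tTT (π j))))) = vecL (laneRef (rCode (tTT (π j)))) :=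
          vec_mvB (tabT.lt _ hp) (inOm_valid (tabT.mem _ hp)).1
        have eb : vecL (lanesB (Co3CentD.wB j)) = Co3Cent.om j := Co3Cent.wB_eq j hj2 hj
        have hm := hπ j hj2 hj ⟨Co3Cent.om j, (Co3Cent.om_mem j hj2 hj).1⟩ rfl
        have sd := smul_dot g ⟨Co3Cent.om j, (Co3Cent.om_mem j hj2 hj).1⟩
          ⟨vecL (laneRef o), hom.1⟩
        rw [ea, hvk, ← hm, sd]
        rw [eb] at d1'
        exact d1'
  rw [hall] at hrow
  exact absurd hrow (by decide)

theorem chkSeeds : (validB (Co3CentD.wB 2) && condOK W1 16 0 (Co3CentD.wB 2) && condOK X1 0 0 (Co3CentD.wB 2) &&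
    condOK Y0 8 0 (Co3CentD.wB 2) && validB (Co3CentD.wB Co3CentD.J1) && condOK W1 16 0 (Co3CentD.wB Co3CentD.J1) && condOK X1 0 0 (Co3CentD.wB Co3CentD.J1) &&
    condOK Y0 8 0 (Co3CentD.wB Co3CentD.J1)) = true := by decide +kernel

/-- the image of the vector at `j` lies in the table of 22 -/
theorem seed_row (g : Co0) (hw : g • w1 = w1) (hx : g • x1 = w0) (hy : g • y0 = y0p) (j : ℕ)
    (hj2 : 2 ≤ j) (hj24 : j < 24) (hv : validB (Co3CentD.wB j) = true)
    (d1 : condOK W1 16 0 (Co3CentD.wB j) = true) (d2 : condOK X1 0 0 (Co3CentD.wB j) = true)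
    (d3 : condOK Y0 8 0 (Co3CentD.wB j) = true) : ∃ a, a < 22 ∧ Maps2 g j a := by
  have hm := Co3Cent.om_mem j hj2 hj24
  have eb : vecB (Co3CentD.wB j) = Co3Cent.om j := Co3Cent.wB_eq j hj2 hj24
  have e1' := dot_vecB 16 0 valid_W1 hv d1
  have e2' := dot_vecB 0 0 valid_X1 hv d2
  have e3' := dot_vecB 8 0 valid_Y0 hv d3
  rw [eb] at e1' e2' e3'
  have hz : ((g • (⟨Co3Cent.om j, hm.1⟩ : leechLattice) : leechLattice) : GolayPt → ℤ)
      ∈ Om cT := by
    apply mem_om_smul g cT _ hm.2.1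
    intro c hcm
    simp only [cT, eT, cA, List.cons_append, List.nil_append, List.mem_cons, List.not_mem_nil,
      or_false] at hcm
    rcases hcm with rfl | rfl | rfl
    · exact ⟨x1, congrArg Subtype.val hx, e2'⟩
    · exact ⟨y0, congrArg Subtype.val hy, e3'⟩
    · exact ⟨w1, congrArg Subtype.val hw, e1'⟩
  obtain ⟨k, hk, hink, hvk⟩ := om_code hcT hz
  obtain ⟨a, ha, hra⟩ := tabT.surj hk hink
  refine ⟨a, ha, ?_⟩
  intro v hv'
  have ev : v = ⟨Co3Cent.om j, hm.1⟩ := Subtype.ext hv'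
  rw [ev, hra]
  exact hvk.symm

/-- The centraliser of `e1` in the stabiliser of `w1`. -/
theorem cent_co2 (g : Co0) (hw : g • w1 = w1) (hc : g * e1 = e1 * g) :
    g ∈ Subgroup.zpowers e1 := by
  rcases img_x1 g hw hc with hx | hx
  · rcases img_y0 g hw hc with hy | hy
    · exact Co3Cent.cent_m22 g ((mem_m22 g).mpr ⟨fix_u0 g hw hx hy, hx, hy⟩) hc
    · exfalso
      have h := smul_dot g x1 y0
      rw [hx, hy, dot_x1_y0, dot_x1_y0p] at h
      norm_num at h
  · rcases img_y0 g hw hc with hy | hy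
    · exfalso
      have h := smul_dot g x1 y0
      rw [hx, hy, dot_x1_y0, dot_w0_y0] at h
      norm_num at h
    · exfalso
      have hs := chkSeeds
      simp only [Bool.and_eq_true] at hs
      obtain ⟨⟨⟨⟨⟨⟨⟨s1, s2⟩, s3⟩, s4⟩, s5⟩, s6⟩, s7⟩, s8⟩ := hs
      obtain ⟨a, ha, hma⟩ := seed_row g hw hx hy 2 (le_refl 2) (by norm_num) s1 s2 s3 s4
      obtain ⟨b, hb, hmb⟩ := seed_row g hw hx hy Co3CentD.J1 Co3Cent.J1_range.1 Co3Cent.J1_range.2
        s5 s6 s7 s8
      have hπ := cand2 g hc a b ha hb hma hmb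
      have hex := (allB_iff _ _).mp ((allB_iff _ _).mp Co2CentD.chkExcl a ha) b hb
      exact excl2 g hw hx hy (pi2F a b) hπ (pi2_range a b ha hb) (Co2CentD.ocF a b) (Co2CentD.mkF a b) hex

end Cfsg.Agent.Lib.Helper27.Co2Cent
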