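import Mathlib
import Cfsg.Prelude.Def_Sporadic_a
import Cfsg.Agent.Lib.Helper27.SlpLib
import Cfsg.Agent.Lib.Helper27.Co3Cent

/-!
Kernel tests and their meaning, for the centraliser of an automorphism of order 5: the vectors of
a certified set fixed by a matrix, a chain of images of a vector under a product of three
automorphisms, and the comparison of the supports of the vectors of a certified set with their
images under a candidate permutation of the 22 vectors `(1, ..., 1)` with one `-3`.
-/

set_option autoImplicit false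
set_option maxRecDepth 100000

namespace Cfsg.Agent.Lib.Helper27.McLChk

open Cfsg Cfsg.Agent.Lib.Helper27.Bits Cfsg.Agent.Lib.Helper27.Pk
open Cfsg.Agent.Lib.Helper27.MinTab Cfsg.Agent.Lib.Helper27.MinEnum Cfsg.Agent.Lib.Helper27.MinFast
open Cfsg.Agent.Lib.Helper27.MinAll Cfsg.Agent.Lib.Helper27.LDot Cfsg.Agent.Lib.Helper27.LMat
open Cfsg.Agent.Lib.Helper27.Spread Cfsg.Agent.Lib.Helper27.Co0Act Cfsg.Agent.Lib.Helper27.LApp
open Cfsg.Agent.Lib.Helper27.OrbCert Cfsg.Agent.Lib.Helper27.Chunk Cfsg.Agent.Lib.Helper27.CoGlue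
open Cfsg.Agent.Lib.Helper27.Invol Cfsg.Agent.Lib.Helper27.SlpLib Cfsg.Agent.Lib.Helper27.CertBase
open Cfsg.Agent.Lib.Helper27.Co3CentD Cfsg.Agent.Lib.Helper27.Co3Cent
open Cfsg.Agent.Lib.Helper27.SimpGlue
open MulAction

/-! ### Fixed vectors of a certified set -/

/-- the matrix maps the vector of row `i` to the vector of code `img i`, another code unless the
code of the row passes the test `ok` -/
noncomputable def fixRowP (M Cv : ℕ) (T img : ℕ → ℕ) (ok : ℕ → Bool) (i : ℕ) : Bool :=
  Nat.blt (img i) KTOT && validKF (img i) &&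
    (!(Nat.beq (img i) (rCode (T i))) || ok (rCode (T i)))
    && appOK M Cv (mvS (rCode (T i))) (mvB (img i))

/-- A vector of a certified set fixed by the matrix has a code passing the test. -/
theorem fix_specP {conds : List (ℕ × ℕ × ℕ)} {T : ℕ → ℕ} {n : ℕ} (htab : TabOK conds T n)
    (hc : validConds conds = true) {M Cv : ℕ} (hM : matChk M Cv = true) (img : ℕ → ℕ)
    (ok : ℕ → Bool) (hmv : allB n (fixRowP M Cv T img ok) = true) :
    ∀ z ∈ Om conds, matAct M z = z → ∃ c, ok c = true ∧ z = vecL (laneRef c) := by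
  intro z hz hfix
  obtain ⟨k, hk, hin, rfl⟩ := om_code hc hz
  obtain ⟨i, hi, rfl⟩ := htab.surj hk hin
  have h := (allB_iff _ _).mp hmv i hi
  unfold fixRowP at h
  rw [Bool.and_eq_true, Bool.and_eq_true, Bool.and_eq_true] at h
  obtain ⟨⟨⟨h1, h2⟩, h3⟩, h4⟩ := h
  obtain ⟨hm1, hm2, hm3⟩ := matChk_sound hM
  rw [hm3] at h4
  have hp : img i < KTOT := Nat.blt_eq.mp h1
  have hvp : validK (img i) = true := by
    rw [← validKF_eq]
    exact h2
  have hact := app_mv hm2 (htab.lt i hi) (inOm_valid hin).1 hp hvp h4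
  rw [hact] at hfix
  have e := mv_inj hp hvp (htab.lt i hi) (inOm_valid hin).1 hfix
  rw [e] at h3
  rw [Bool.or_eq_true] at h3
  rcases h3 with h3 | h3
  · simp at h3
  · exact ⟨_, h3, rfl⟩

/-! ### Chains of images -/

/-- entry `i` of a packed list of codes -/
def chF (P i : ℕ) : ℕ := Nat.mod (Nat.div P (Nat.pow 262144 i)) 262144

/-- the three matrices map the vector of code `a` to those of codes `b`, `c`, `d` in turn -/
noncomputable def step3 (A B C : ℕ × ℕ) (a b c d : ℕ) : Bool :=
  (Nat.blt a KTOT && validKF a) && (Nat.blt b KTOT && validKF b) && (Nat.blt c KTOT && validKF c) &&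
    (Nat.blt d KTOT && validKF d) && appOK C.1 C.2 (mvS a) (mvB b) &&
    appOK B.1 B.2 (mvS b) (mvB c) && appOK A.1 A.2 (mvS c) (mvB d)

/-- the chain of `n` steps does not come back to its first code -/
noncomputable def chainOK (A B C : ℕ × ℕ) (n P : ℕ) : Bool :=
  allB n (fun i => step3 A B C (chF P (Nat.mul 3 i)) (chF P (Nat.add (Nat.mul 3 i) 1))
      (chF P (Nat.add (Nat.mul 3 i) 2)) (chF P (Nat.add (Nat.mul 3 i) 3))) &&
    !(Nat.beq (chF P (Nat.mul 3 n)) (chF P 0))

theorem step3_spec {A B C : ℕ × ℕ} (hA : matChk A.1 A.2 = true) (hB : matChk B.1 B.2 = true)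
    (hC : matChk C.1 C.2 = true) {a b c d : ℕ} (h : step3 A B C a b c d = true)
    (v : leechLattice) (hv : (v : GolayPt → ℤ) = vecL (laneRef a)) :
    (((elt A hA * (elt B hB * elt C hC)) • v : leechLattice) : GolayPt → ℤ) = vecL (laneRef d) ∧
      (a < KTOT ∧ validK a = true) ∧ (d < KTOT ∧ validK d = true) := by
  unfold step3 at h
  simp only [Bool.and_eq_true] at h
  obtain ⟨⟨⟨⟨⟨⟨⟨a1, a2⟩, b1, b2⟩, c1, c2⟩, d1, d2⟩, hC'⟩, hB'⟩, hA'⟩ := h
  rw [validKF_eq] at a2 b2 c2 d2
  have a1' := Nat.blt_eq.mp a1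
  have b1' := Nat.blt_eq.mp b1
  have c1' := Nat.blt_eq.mp c1
  have d1' := Nat.blt_eq.mp d1
  obtain ⟨-, hmA, hcA⟩ := matChk_sound hA
  obtain ⟨-, hmB, hcB⟩ := matChk_sound hB
  obtain ⟨-, hmC, hcC⟩ := matChk_sound hC
  rw [hcA] at hA'
  rw [hcB] at hB'
  rw [hcC] at hC'
  refine ⟨?_, ⟨a1', a2⟩, ⟨d1', d2⟩⟩
  rw [mul_smul, mul_smul, elt_val, elt_val, elt_val, hv, app_mv hmC a1' a2 b1' b2 hC',
    app_mv hmB b1' b2 c1' c2 hB', app_mv hmA c1' c2 d1' d2 hA']

/-- A power of a product of three automorphisms is not the identity, from a chain of images. -/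
theorem pow_ne_one_of_chain {A B C : ℕ × ℕ} (hA : matChk A.1 A.2 = true)
    (hB : matChk B.1 B.2 = true) (hC : matChk C.1 C.2 = true) (n P : ℕ) (hn : 0 < n)
    (h : chainOK A B C n P = true) : (elt A hA * (elt B hB * elt C hC)) ^ n ≠ 1 := by
  obtain ⟨m, rfl⟩ : ∃ m, n = m + 1 := ⟨n - 1, by omega⟩
  unfold chainOK at h
  rw [Bool.and_eq_true] at h
  obtain ⟨hs, hne⟩ := h
  have hstep := (allB_iff _ _).mp hs
  have h0 := step3_spec hA hB hC (hstep 0 hn)
  have hm := step3_spec hA hB hC (hstep m (Nat.lt_succ_self m))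
  have ha0 : chF P 0 < KTOT ∧ validK (chF P 0) = true := by
    have hmem0 : vecL (laneRef (chF P (Nat.mul 3 0))) ∈ leechLattice := by
      have := hstep 0 hn
      unfold step3 at this
      simp only [Bool.and_eq_true] at this
      obtain ⟨⟨⟨⟨⟨⟨⟨a1, a2⟩, -⟩, -⟩, -⟩, -⟩, -⟩, -⟩ := this
      rw [validKF_eq] at a2
      exact (mv_sound (Nat.blt_eq.mp a1) a2).1
    exact (h0 ⟨_, hmem0⟩ rfl).2.1
  have hmem : vecL (laneRef (chF P 0)) ∈ leechLattice := (mv_sound ha0.1 ha0.2).1
  have key : ∀ i, i ≤ m + 1 →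
      (((elt A hA * (elt B hB * elt C hC)) ^ i • (⟨_, hmem⟩ : leechLattice) : leechLattice) :
        GolayPt → ℤ) = vecL (laneRef (chF P (Nat.mul 3 i))) := by
    intro i
    induction i with
    | zero =>
      intro _
      rw [pow_zero, one_smul]
    | succ i ih =>
      intro hi
      have hprev := ih (by omega)
      have hst := hstep i (by omega)
      rw [pow_succ', mul_smul]
      exact (step3_spec hA hB hC hst _ hprev).1
  have hdn : chF P (Nat.mul 3 (m + 1)) < KTOT ∧ validK (chF P (Nat.mul 3 (m + 1))) = true := by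
    have hmem' := key m (Nat.le_succ m)
    exact (hm _ hmem').2.2
  intro hone
  have hk := key (m + 1) le_rfl
  rw [hone, one_smul] at hk
  have e := mv_inj ha0.1 ha0.2 hdn.1 hdn.2 hk
  rw [← e] at hne
  simp at hne

/-! ### Supports and candidate permutations -/

/-- the inner product of a vector of the set with the vector at `j`, negated: `8` on the support,
`16` off it -/
def tnF (m j : ℕ) : ℕ := cond (bitF m j) 8 16

/-- the candidate permutation given by the images `sel` of the seeds of the cycles of `p` -/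
noncomputable def piS (p kk sd sel : ℕ → ℕ) (j : ℕ) : ℕ := itF p (kk j) (sel (sd j))

/-- the support `mi` is the image of the support `mr` -/
noncomputable def rowMatch (π : ℕ → ℕ) (mi mr : ℕ) : Bool :=
  allB 24 (fun j => Nat.blt j 2 || cond (bitF mi (π j)) (bitF mr j) (!(bitF mr j)))

/-- no support of the table is the image of the support of row `r` -/
noncomputable def exclM (msk : ℕ → ℕ) (n : ℕ) (π : ℕ → ℕ) (r : ℕ) : Bool :=
  Nat.blt r n && allB n (fun i => !(rowMatch π (msk i) (msk r)))

/-- An automorphism preserving a certified set with supports `msk` which permutes the 22 vectors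
as `π`: the image of a row of the table is a row, and its support is the image of the support. -/
theorem row_image {conds : List (ℕ × ℕ × ℕ)} {T : ℕ → ℕ} {n : ℕ} (htab : TabOK conds T n)
    (hc : validConds conds = true) (msk : ℕ → ℕ)
    (hwb : allB 24 (fun j => Nat.blt j 2 || validB (wB j)) = true)
    (hmsk : allB n (fun i => allB 24 (fun j => Nat.blt j 2 ||
      condOK (wB j) 0 (tnF (msk i) j) (mvB (rCode (T i))))) = true)
    (g : Co0) (hinv : ∀ x ∈ OmL conds, g • x ∈ OmL conds)
    (π : ℕ → ℕ) (hπ : ∀ j, 2 ≤ j → j < 24 → Maps g j (π j))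
    (hπr : ∀ j, 2 ≤ j → j < 24 → 2 ≤ π j ∧ π j < 24) (r : ℕ) (hrn : r < n) :
    ∃ i < n, (∀ v : leechLattice, (v : GolayPt → ℤ) = vecL (laneRef (rCode (T r))) →
        ((g • v : leechLattice) : GolayPt → ℤ) = vecL (laneRef (rCode (T i)))) ∧
      rowMatch π (msk i) (msk r) = true := by
  have hrK := htab.lt r hrn
  have hrin := htab.mem r hrn
  have hom := mem_om hc hrK hrin
  have hz : g • (⟨vecL (laneRef (rCode (T r))), hom.1⟩ : leechLattice) ∈ OmL conds :=
    hinv ⟨vecL (laneRef (rCode (T r))), hom.1⟩ hom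
  obtain ⟨k, hk, hink, hvk⟩ := om_code hc hz
  obtain ⟨i, hi, hri⟩ := htab.surj hk hink
  refine ⟨i, hi, ?_, ?_⟩
  · intro v hv
    have ev : v = ⟨vecL (laneRef (rCode (T r))), hom.1⟩ := Subtype.ext hv
    rw [ev, hri, hvk]
  · unfold rowMatch
    rw [allB_iff]
    intro j hj
    rw [Bool.or_eq_true]
    by_cases h2 : j < 2
    · left
      exact Nat.blt_eq.mpr h2
    · right
      have hj2 : 2 ≤ j := by omega
      obtain ⟨hp2, hp24⟩ := hπr j hj2 hj
      have hw1 : validB (wB j) = true := by
        have := (allB_iff _ _).mp hwb j hj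
        rw [Bool.or_eq_true] at this
        rcases this with h | h
        · exact absurd (Nat.blt_eq.mp h) h2
        · exact h
      have hw2 : validB (wB (π j)) = true := by
        have := (allB_iff _ _).mp hwb (π j) hp24
        rw [Bool.or_eq_true] at this
        rcases this with h | h
        · exact absurd (Nat.blt_eq.mp h) (by omega)
        · exact h
      have m1 : condOK (wB j) 0 (tnF (msk r) j) (mvB (rCode (T r))) = true := by
        have := (allB_iff _ _).mp ((allB_iff _ _).mp hmsk r hrn) j hj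
        rw [Bool.or_eq_true] at this
        rcases this with h | h
        · exact absurd (Nat.blt_eq.mp h) h2
        · exact h
      have m2 : condOK (wB (π j)) 0 (tnF (msk i) (π j)) (mvB (rCode (T i))) = true := by
        have := (allB_iff _ _).mp ((allB_iff _ _).mp hmsk i hi) (π j) hp24
        rw [Bool.or_eq_true] at this
        rcases this with h | h
        · exact absurd (Nat.blt_eq.mp h) (by omega)
        · exact h
      have d1 := (condOK_mv 0 (tnF (msk r) j) hw1 hrK (inOm_valid hrin).1).mp m1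
      have d2 := (condOK_mv 0 (tnF (msk i) (π j)) hw2 (htab.lt i hi)
        (inOm_valid (htab.mem i hi)).1).mp m2
      have e1' : vecL (lanesB (wB (π j))) = om (π j) := wB_eq (π j) hp2 hp24
      have e2' : vecL (lanesB (wB j)) = om j := wB_eq j hj2 hj
      rw [e1'] at d2
      rw [e2'] at d1
      have hm := hπ j hj2 hj ⟨om j, (om_mem j hj2 hj).1⟩ rfl
      have sd := smul_dot g ⟨om j, (om_mem j hj2 hj).1⟩ ⟨vecL (laneRef (rCode (T r))), hom.1⟩
      rw [hm, ← hvk, ← hri] at sd
      have hsd : dotInt (om (π j)) (vecL (laneRef (rCode (T i))))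
          = dotInt (om j) (vecL (laneRef (rCode (T r)))) := sd
      have ht : tnF (msk i) (π j) = tnF (msk r) j := by
        have h3 : ((tnF (msk i) (π j) : ℕ) : ℤ) = ((tnF (msk r) j : ℕ) : ℤ) := by
          rw [d2, d1] at hsd
          linarith
        exact_mod_cast h3
      unfold tnF at ht
      rcases Bool.eq_false_or_eq_true (bitF (msk i) (π j)) with hb1 | hb1 <;>
        rcases Bool.eq_false_or_eq_true (bitF (msk r) j) with hb2 | hb2 <;>
        rw [hb1, hb2] at ht <;> rw [hb1, hb2] <;>
        first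
          | rfl
          | exact absurd ht (by decide)

/-- No automorphism preserving the certified set acts on the 22 vectors as an excluded
candidate. -/
theorem exclM_sound {conds : List (ℕ × ℕ × ℕ)} {T : ℕ → ℕ} {n : ℕ} (htab : TabOK conds T n)
    (hc : validConds conds = true) (msk : ℕ → ℕ)
    (hwb : allB 24 (fun j => Nat.blt j 2 || validB (wB j)) = true)
    (hmsk : allB n (fun i => allB 24 (fun j => Nat.blt j 2 ||
      condOK (wB j) 0 (tnF (msk i) j) (mvB (rCode (T i))))) = true)
    (g : Co0) (hinv : ∀ x ∈ OmL conds, g • x ∈ OmL conds)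
    (π : ℕ → ℕ) (hπ : ∀ j, 2 ≤ j → j < 24 → Maps g j (π j))
    (hπr : ∀ j, 2 ≤ j → j < 24 → 2 ≤ π j ∧ π j < 24) (r : ℕ)
    (hchk : exclM msk n π r = true) : False := by
  unfold exclM at hchk
  rw [Bool.and_eq_true] at hchk
  obtain ⟨hr, hno⟩ := hchk
  obtain ⟨i, hi, -, hmatch⟩ := row_image htab hc msk hwb hmsk g hinv π hπ hπr r (Nat.blt_eq.mp hr)
  have hrow := (allB_iff _ _).mp hno i hi
  rw [hmatch] at hrow
  exact absurd hrow (by decide)

end Cfsg.Agent.Lib.Helper27.McLChk
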