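import Mathlib
import Cfsg.Prelude.Def_Sporadic_a
import Cfsg.Agent.Lib.Helper27.Co3OrbA
import Cfsg.Agent.Lib.Helper27.Co3OrbB
import Cfsg.Agent.Lib.Helper27.SimpHS
import Cfsg.Agent.Lib.Helper27.AutSyl

/-!
The stabiliser of `u0` is generated by the three automorphisms `e0`, `e1`, `e2`: a subgroup
containing them has index at most 12 in it, by four orbit certificates inside the subgroup, and
the stabiliser is simple of order divisible by 23.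
-/

set_option autoImplicit false
set_option maxRecDepth 100000

namespace Cfsg.Agent.Lib.Helper27.Co3Gen

open Cfsg Cfsg.Agent.Lib.Helper27.Bits Cfsg.Agent.Lib.Helper27.Pk
open Cfsg.Agent.Lib.Helper27.MinTab Cfsg.Agent.Lib.Helper27.MinEnum Cfsg.Agent.Lib.Helper27.MinFast
open Cfsg.Agent.Lib.Helper27.MinAll Cfsg.Agent.Lib.Helper27.LDot Cfsg.Agent.Lib.Helper27.LMat
open Cfsg.Agent.Lib.Helper27.Spread Cfsg.Agent.Lib.Helper27.Co0Act Cfsg.Agent.Lib.Helper27.LApp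
open Cfsg.Agent.Lib.Helper27.OrbCert Cfsg.Agent.Lib.Helper27.Chunk Cfsg.Agent.Lib.Helper27.CoGlue
open Cfsg.Agent.Lib.Helper27.Invol Cfsg.Agent.Lib.Helper27.SlpLib Cfsg.Agent.Lib.Helper27.CertBase
open Cfsg.Agent.Lib.Helper27.Co3Slp1
open Cfsg.Agent.Lib.Helper27.CoStd Cfsg.Agent.Lib.Helper27.SimpGlue
open Cfsg.Agent.Lib.Helper27.SimpleCrit
open Cfsg.Agent.Lib.Helper27.SimpM22 Cfsg.Agent.Lib.Helper27.SimpHS
open MulAction

theorem z0_mem : vecL (laneRef 102511) ∈ Om Co3OrbB.cZ :=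
  mem_om Co3OrbB.hcZ (by decide) (by decide +kernel)

/-- a vector of the set `Z` -/
def z0 : leechLattice := ⟨vecL (laneRef 102511), z0_mem.1⟩

theorem z0_om : z0 ∈ OmL Co3OrbB.cZ := z0_mem

theorem z_inv (g : Co0) (h1 : g • u0 = u0) (h2 : g • x1 = x1) (h3 : g • y0 = y0)
    (h4 : g • y1 = y1) : ∀ x ∈ OmL Co3OrbB.cZ, g • x ∈ OmL Co3OrbB.cZ := by
  apply omL_inv
  intro c hc
  simp only [Co3OrbB.cZ, Co3OrbB.eZ, CertHS.cB3, CertHS.eB3, CertCo3.cA, List.cons_append,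
    List.nil_append, List.mem_cons, List.not_mem_nil, or_false] at hc
  rcases hc with rfl | rfl | rfl | rfl
  · exact ⟨y0, rfl, h3⟩
  · exact ⟨y1, rfl, h4⟩
  · exact ⟨x1, rfl, h2⟩
  · exact ⟨u0, rfl, h1⟩

/-- A subgroup containing `e0`, `e1`, `e2` contains the stabiliser of `u0`. -/
theorem gen_le (K : Subgroup Co0) (h0 : e0 ∈ K) (h1 : e1 ∈ K) (h2 : e2 ∈ K) :
    stabilizer Co0 u0 ≤ K := by
  classical
  have := co0_finite
  have cA := card_stab_mul (K ⊓ stabilizer Co0 u0) x1 (OmL CertCo3.cA) x1_om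
    (fun h hh a ha => hs_inv h hh.2 a ha)
    (fun a ha => by
      obtain ⟨g, hg, e, hf⟩ := transK (Co3OrbA.rfA K h0 h1 h2) x1 a x1_om ha
      exact ⟨g, ⟨hg, mem_stabilizer_iff.mpr (hf u0 ⟨U0, by simp, rfl⟩)⟩, e⟩)
    11178 (by rw [ncard_omL]; exact CertCo3.cardA)
  have cH := card_stab_mul (K ⊓ stabilizer Co0 u0 ⊓ stabilizer Co0 x1) y0 (OmL CertHS.cH) y0_om
    (fun h hh a ha => m22_inv h ⟨hh.1.2, hh.2⟩ a ha)
    (fun a ha => by
      obtain ⟨g, hg, e, hf⟩ := transK (Co3OrbB.rfH K h0 h1 h2) y0 a y0_om ha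
      exact ⟨g, ⟨⟨hg, mem_stabilizer_iff.mpr (hf u0 ⟨U0, by simp, rfl⟩)⟩,
        mem_stabilizer_iff.mpr (hf x1 ⟨X1, by simp, rfl⟩)⟩, e⟩)
    100 (by rw [ncard_omL]; exact CertHS.cardH)
  have cM := card_stab_mul (K ⊓ stabilizer Co0 u0 ⊓ stabilizer Co0 x1 ⊓ stabilizer Co0 y0) y1
    (OmL CertM22.cM1) y1_om
    (fun h hh a ha => l34_inv h ⟨⟨hh.1.1.2, hh.1.2⟩, hh.2⟩ a ha)
    (fun a ha => by
      obtain ⟨g, hg, e, hf⟩ := transK (Co3OrbB.rfM K h0 h1 h2) y1 a y1_om ha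
      exact ⟨g, ⟨⟨⟨hg, mem_stabilizer_iff.mpr (hf u0 ⟨U0, by simp, rfl⟩)⟩,
        mem_stabilizer_iff.mpr (hf x1 ⟨X1, by simp, rfl⟩)⟩,
        mem_stabilizer_iff.mpr (hf y0 ⟨Y0, by simp, rfl⟩)⟩, e⟩)
    22 (by rw [ncard_omL]; exact CertM22.cardM1)
  have cZ := card_stab_mul
    (K ⊓ stabilizer Co0 u0 ⊓ stabilizer Co0 x1 ⊓ stabilizer Co0 y0 ⊓ stabilizer Co0 y1) z0
    (OmL Co3OrbB.cZ) z0_om
    (fun h hh a ha => z_inv h (mem_stabilizer_iff.mp hh.1.1.1.2) (mem_stabilizer_iff.mp hh.1.1.2)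
      (mem_stabilizer_iff.mp hh.1.2) (mem_stabilizer_iff.mp hh.2) a ha)
    (fun a ha => by
      obtain ⟨g, hg, e, hf⟩ := transK (Co3OrbB.rfZ K h0 h1 h2) z0 a z0_om ha
      exact ⟨g, ⟨⟨⟨⟨hg, mem_stabilizer_iff.mpr (hf u0 ⟨U0, by simp, rfl⟩)⟩,
        mem_stabilizer_iff.mpr (hf x1 ⟨X1, by simp, rfl⟩)⟩,
        mem_stabilizer_iff.mpr (hf y0 ⟨Y0, by simp, rfl⟩)⟩,
        mem_stabilizer_iff.mpr (hf y1 ⟨CertL34.Y1, by simp, rfl⟩)⟩, e⟩)
    1680 (by rw [ncard_omL]; exact Co3OrbB.cardZ)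
  have hpos : 0 < Nat.card ↥(K ⊓ stabilizer Co0 u0 ⊓ stabilizer Co0 x1 ⊓ stabilizer Co0 y0 ⊓
      stabilizer Co0 y1 ⊓ stabilizer Co0 z0) := Nat.card_pos
  have hbig : 41313888000 ≤ Nat.card ↥(K ⊓ stabilizer Co0 u0) := by
    rw [← cA, ← cH, ← cM, ← cZ]
    omega
  have hsimple := co3_simple
  have hcardH' : Nat.card ↥((K ⊓ stabilizer Co0 u0).subgroupOf (stabilizer Co0 u0))
      = Nat.card ↥(K ⊓ stabilizer Co0 u0) :=
    Nat.card_congr (Subgroup.subgroupOfEquivOfLe inf_le_right).toEquiv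
  have hidx : ((K ⊓ stabilizer Co0 u0).subgroupOf (stabilizer Co0 u0)).index ≤ 12 := by
    have h := ((K ⊓ stabilizer Co0 u0).subgroupOf (stabilizer Co0 u0)).card_mul_index
    rw [hcardH', card_co3] at h
    by_contra hlt
    push_neg at hlt
    have h13 : 41313888000 * 13 ≤ Nat.card ↥(K ⊓ stabilizer Co0 u0) *
        ((K ⊓ stabilizer Co0 u0).subgroupOf (stabilizer Co0 u0)).index :=
      Nat.mul_le_mul hbig hlt
    omega
  have htop := Cfsg.Agent.Lib.Helper27.AutSyl.eq_top_of_index_le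
    ((K ⊓ stabilizer Co0 u0).subgroupOf (stabilizer Co0 u0)) 23 12 (by norm_num)
    (by rw [card_co3]; norm_num) (by norm_num) hidx
  intro g hg
  have hm : (⟨g, hg⟩ : ↥(stabilizer Co0 u0)) ∈
      (K ⊓ stabilizer Co0 u0).subgroupOf (stabilizer Co0 u0) := by
    rw [htop]
    trivial
  exact (Subgroup.mem_subgroupOf.mp hm).1

end Cfsg.Agent.Lib.Helper27.Co3Gen
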