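import Mathlib
import Cfsg.Prelude.Def_Sporadic_a
import Cfsg.Prelude.Def_Spor_Conway
import Cfsg.Agent.Lib.Helper27.Co3Cent
import Cfsg.Agent.Lib.Helper27.Co3Gen
import Cfsg.Agent.Lib.Helper27.AutSyl

/-!
Every automorphism of the stabiliser of a vector of sum of squares 48 is inner.  The stabiliser
of `u0` is generated by `e0` of order 23, `e1` of order 11 normalising it and the only involution
`e2` commuting with `e1`; the relation `(e0⁻¹ e1 e2) ^ 15 = 1` fails for `e0` in place of `e0⁻¹`.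
-/

set_option autoImplicit false
set_option maxRecDepth 100000

namespace Cfsg.Agent.Lib.Helper27.Co3Out

open Cfsg Cfsg.Agent.Lib.Helper27.Bits Cfsg.Agent.Lib.Helper27.Pk
open Cfsg.Agent.Lib.Helper27.MinTab Cfsg.Agent.Lib.Helper27.MinEnum Cfsg.Agent.Lib.Helper27.MinFast
open Cfsg.Agent.Lib.Helper27.MinAll Cfsg.Agent.Lib.Helper27.LDot Cfsg.Agent.Lib.Helper27.LMat
open Cfsg.Agent.Lib.Helper27.Spread Cfsg.Agent.Lib.Helper27.Co0Act Cfsg.Agent.Lib.Helper27.LApp
open Cfsg.Agent.Lib.Helper27.OrbCert Cfsg.Agent.Lib.Helper27.Chunk Cfsg.Agent.Lib.Helper27.CoGlue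
open Cfsg.Agent.Lib.Helper27.Invol Cfsg.Agent.Lib.Helper27.SlpLib Cfsg.Agent.Lib.Helper27.CertBase
open Cfsg.Agent.Lib.Helper27.Co3Slp1 Cfsg.Agent.Lib.Helper27.Co3CentD
open Cfsg.Agent.Lib.Helper27.CoStd Cfsg.Agent.Lib.Helper27.SimpGlue
open Cfsg.Agent.Lib.Helper27.SimpleCrit
open Cfsg.Agent.Lib.Helper27.SimpM22 Cfsg.Agent.Lib.Helper27.SimpHS Cfsg.Agent.Lib.Helper27.Faith
open Cfsg.Agent.Lib.Helper27.Co3Cent Cfsg.Agent.Lib.Helper27.Co3Gen
open Cfsg.Agent.Lib.Helper27.AutSyl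
open MulAction

/-- An automorphism moving one of the listed vectors to another is not the identity. -/
theorem elt_ne_one {N : ℕ × ℕ} (h : matChk N.1 N.2 = true) {k p : ℕ} (hk : k < KTOT)
    (hvk : validK k = true) (hp : p < KTOT) (hvp : validK p = true) (hne : k ≠ p)
    (hok : appOK N.1 N.2 (mvS k) (mvB p) = true) : elt N h ≠ 1 := by
  intro e
  obtain ⟨-, hm2, hm3⟩ := matChk_sound h
  rw [hm3] at hok
  have hact := app_mv hm2 hk hvk hp hvp hok
  have h1 : ((elt N h • (⟨vecL (laneRef k), (mv_sound hk hvk).1⟩ : leechLattice) : leechLattice) :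
      GolayPt → ℤ) = matAct N.1 (vecL (laneRef k)) := rfl
  rw [e, one_smul, hact] at h1
  exact hne (mv_inj hk hvk hp hvp h1)

theorem moves : e0 ≠ 1 ∧ e1 ≠ 1 ∧ e2 ≠ 1 ∧ e29 ≠ 1 := by
  have h := chkMove
  simp only [Bool.and_eq_true] at h
  obtain ⟨⟨⟨h0, h1⟩, h2⟩, h3⟩ := h
  exact ⟨elt_ne_one c0 (by decide) (by decide) (by decide) (by decide) (by decide) h0,
    elt_ne_one c1 (by decide) (by decide) (by decide) (by decide) (by decide) h1,
    elt_ne_one c2 (by decide) (by decide) (by decide) (by decide) (by decide) h2,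
    elt_ne_one c29 (by decide) (by decide) (by decide) (by decide) (by decide) h3⟩

theorem e0_pow : e0 ^ 23 = 1 := by
  have h : e0 ^ 23 = e8 * e0 := by
    rw [m8, m7, m6, m5, m4, m3]
    simp only [pow_succ, pow_zero, one_mul, mul_assoc]
  rw [h, q8_0]

theorem rel_co0 : e1 * e0 * e1⁻¹ = e0 ^ 2 := by
  have h : e1 * e0 = e0 * e0 * e1 := by rw [← m13, ← q3_1, m3]
  rw [h, pow_two]
  group

theorem b15 : (e0⁻¹ * e1 * e2) ^ 15 = 1 := by
  have h8 : e8 = e0⁻¹ := eq_inv_of_mul_eq_one_left q8_0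
  have h16 : e0⁻¹ * e1 * e2 = e16 := by rw [m16, m15, h8]
  have h : e16 ^ 15 = e19 * e21 := by
    rw [m19, m21, m18, m20, m17]
    simp only [pow_succ, pow_zero, one_mul, mul_assoc]
  rw [h16, h, q19_21]

theorem a15 : (e0 * e1 * e2) ^ 15 = e29 := by
  have h23 : e0 * e1 * e2 = e23 := by rw [m23, m22]
  rw [h23, m29, m28, m26, m27, m25, m24]
  simp only [pow_succ, pow_zero, one_mul, mul_assoc]

/-! ### Arithmetic modulo 23 -/

theorem hr23 : ∀ j : ℕ, 2 ^ j ≡ 2 [MOD 23] → j ≡ 1 [MOD 11] := by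
  intro j h
  have h11 : (2 : ℕ) ^ 11 ≡ 1 [MOD 23] := by decide
  have e : 2 ^ j ≡ 2 ^ (j % 11) [MOD 23] := by
    have h1 := (h11.pow (j / 11)).mul_right (2 ^ (j % 11))
    rw [← pow_mul, ← pow_add, Nat.div_add_mod, one_pow, one_mul] at h1
    exact h1
  have h2 : 2 ^ (j % 11) % 23 = 2 % 23 := e.symm.trans h
  have key : ∀ b : Fin 11, 2 ^ b.1 % 23 = 2 % 23 → b.1 = 1 := by decide
  have h3 := key ⟨j % 11, Nat.mod_lt _ (by norm_num)⟩ h2
  show j % 11 = 1 % 11
  exact h3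

theorem hk23 : ∀ k : ℕ, ¬ 23 ∣ k →
    ∃ i : ℕ, k * 2 ^ i ≡ 1 [MOD 23] ∨ k * 2 ^ i ≡ 23 - 1 [MOD 23] := by
  intro k hk
  have key : ∀ m : Fin 23, m.1 ≠ 0 →
      ∃ i : Fin 11, (m.1 * 2 ^ i.1) % 23 = 1 % 23 ∨ (m.1 * 2 ^ i.1) % 23 = (23 - 1) % 23 := by
    decide
  obtain ⟨i, hi⟩ := key ⟨k % 23, Nat.mod_lt _ (by norm_num)⟩
    (fun h => hk (Nat.dvd_of_mod_eq_zero h))
  refine ⟨i.1, ?_⟩
  have e : k * 2 ^ i.1 ≡ (k % 23) * 2 ^ i.1 [MOD 23] := (Nat.mod_modEq k 23).symm.mul_right _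
  rcases hi with hi | hi
  · left
    exact e.trans hi
  · right
    exact e.trans hi

/-! ### The three generators in the stabiliser -/

/-- the automorphism of order 23 -/
noncomputable def xg : ↥(stabilizer Co0 u0) := ⟨e0, mem_stabilizer_iff.mpr fixes.1⟩

/-- the automorphism of order 11 -/
noncomputable def yg : ↥(stabilizer Co0 u0) := ⟨e1, mem_stabilizer_iff.mpr fixes.2.1⟩

/-- the involution -/
noncomputable def tg : ↥(stabilizer Co0 u0) := ⟨e2, mem_stabilizer_iff.mpr fixes.2.2.1⟩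

theorem ox : orderOf xg = 23 := by
  have : Fact (Nat.Prime 23) := ⟨by norm_num⟩
  unfold xg
  rw [Subgroup.orderOf_mk]
  exact orderOf_eq_prime e0_pow moves.1

theorem oy : orderOf yg = 11 := by
  have : Fact (Nat.Prime 11) := ⟨by norm_num⟩
  unfold yg
  rw [Subgroup.orderOf_mk]
  exact orderOf_eq_prime e1_pow moves.2.1

theorem relg : yg * xg * yg⁻¹ = xg ^ 2 := Subtype.ext rel_co0

theorem htg (β : MulAut ↥(stabilizer Co0 u0)) (hy : β yg = yg) : β tg = tg := by
  have hc : β tg * yg = yg * β tg := by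
    have h : tg * yg = yg * tg := Subtype.ext e12_comm
    have := congrArg β h
    rw [map_mul, map_mul, hy] at this
    exact this
  have h2 : β tg * β tg = 1 := by
    have h : tg * tg = 1 := Subtype.ext e2_sq
    have := congrArg β h
    rw [map_mul, map_one] at this
    exact this
  have h1 : β tg ≠ 1 := by
    intro h
    have h' : tg = 1 := by
      apply β.injective
      rw [h, map_one]
    exact moves.2.2.1 (congrArg Subtype.val h')
  apply Subtype.ext
  exact invol_unique (β tg).1 (β tg).2 (congrArg Subtype.val hc) (congrArg Subtype.val h2)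
    (fun h => h1 (Subtype.ext h))

theorem hgeng (β : MulAut ↥(stabilizer Co0 u0)) (hx : β xg = xg) (hy : β yg = yg)
    (ht : β tg = tg) : β = 1 := by
  let K' : Subgroup ↥(stabilizer Co0 u0) :=
    MonoidHom.eqLocus β.toMonoidHom (MonoidHom.id ↥(stabilizer Co0 u0))
  have hle := gen_le (K'.map (Subgroup.subtype _))
    (Subgroup.mem_map.mpr ⟨xg, hx, rfl⟩) (Subgroup.mem_map.mpr ⟨yg, hy, rfl⟩)
    (Subgroup.mem_map.mpr ⟨tg, ht, rfl⟩)
  ext g
  obtain ⟨g', hg', e⟩ := Subgroup.mem_map.mp (hle g.2)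
  have e' : g' = g := Subtype.ext e
  rw [e'] at hg'
  have h : β g = g := hg'
  rw [h]
  rfl

theorem hrelg (β : MulAut ↥(stabilizer Co0 u0)) (hx : β xg = xg⁻¹) (hy : β yg = yg)
    (ht : β tg = tg) : False := by
  have h1 : (xg⁻¹ * yg * tg) ^ 15 = 1 := Subtype.ext b15
  have h2 := congrArg β h1
  rw [map_pow, map_mul, map_mul, map_inv, hx, hy, ht, inv_inv, map_one] at h2
  have h3 : (e0 * e1 * e2) ^ 15 = 1 := congrArg Subtype.val h2
  rw [a15] at h3
  exact moves.2.2.2 h3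

/-- Every automorphism of the stabiliser of `u0` is inner. -/
theorem u0_inner : ∀ α : MulAut ↥(stabilizer Co0 u0), ∃ g, α = MulAut.conj g := by
  have := co0_finite
  have : Fact (Nat.Prime 23) := ⟨by norm_num⟩
  have : Fact (Nat.Prime 11) := ⟨by norm_num⟩
  exact aut_inner 23 11 (by rw [card_co3]; norm_num) (by rw [card_co3]; norm_num) xg yg tg ox oy 2
    relg hr23 hk23 htg hgeng hrelg

/-! ### Transport -/

/-- Having only inner automorphisms passes along an isomorphism. -/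
theorem inner_of_equiv {A B : Type*} [Group A] [Group B] (e : A ≃* B)
    (h : ∀ α : MulAut B, ∃ g, α = MulAut.conj g) : ∀ α : MulAut A, ∃ g, α = MulAut.conj g := by
  intro α
  obtain ⟨g, hg⟩ := h ((e.symm.trans α).trans e)
  refine ⟨e.symm g, ?_⟩
  ext a
  have h1 := congrArg (fun f : MulAut B => e.symm (f (e a))) hg
  simp only [MulEquiv.trans_apply, MulEquiv.symm_apply_apply, MulAut.conj_apply, map_mul,
    map_inv] at h1
  rw [MulAut.conj_apply]
  exact h1

theorem leechV_norm : sqNorm (Cfsg.Spor.leechV : GolayPt → ℤ) = 48 := by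
  show sqNorm Cfsg.Spor.vecV = 48
  unfold sqNorm
  rw [Fintype.sum_option]
  simp [Cfsg.Spor.vecV]

/-- The third Conway group as a subgroup of the automorphism group of the lattice. -/
def co3Equiv : ↥Cfsg.Spor.Co3 ≃* ↥(stabilizer Co0 Cfsg.Spor.leechV) where
  toFun a := ⟨⟨a.1, a.2.1⟩, mem_stabilizer_iff.mpr (mem_stabilizer_iff.mp a.2.2)⟩
  invFun b := ⟨b.1.1, ⟨b.1.2, mem_stabilizer_iff.mpr (mem_stabilizer_iff.mp b.2)⟩⟩
  left_inv _ := rfl
  right_inv _ := rfl
  map_mul' _ _ := rfl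

/-- Every automorphism of the third Conway group is inner. -/
theorem co3_inner : ∀ α : MulAut ↥Cfsg.Spor.Co3, ∃ g, α = MulAut.conj g := by
  obtain ⟨g0, h1⟩ := std48 Cfsg.Spor.leechV leechV_norm
  apply inner_of_equiv co3Equiv
  apply inner_of_equiv (conjEquiv (stabilizer Co0 Cfsg.Spor.leechV) (stabilizer Co0 u0) g0
    (fun x => by rw [mem_stabilizer_iff, mem_stabilizer_iff, conj_fix g0 x h1]))
  exact u0_inner

end Cfsg.Agent.Lib.Helper27.Co3Out
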