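import Mathlib
import Cfsg.Prelude.Def_Sporadic_a
import Cfsg.Agent.Lib.Helper27.SlpLib
import Cfsg.Agent.Lib.Helper27.Chunk
import Cfsg.Agent.Lib.Helper27.CertBase
import Cfsg.Agent.Lib.Helper27.McLSlp1
import Cfsg.Agent.Lib.Helper27.McLSlp2
import Cfsg.Agent.Lib.Helper27.McLChk
import Cfsg.Agent.Lib.Helper27.Co3Out

/-!
Relations between the automorphisms `e0` (of order 11), `e2` and `e3` (of order 5) fixing `V0`
and `W0`, and the involution `e1` interchanging `V0` and `W0`; and products of `e0` or its inverse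
with elements of the group generated by `e2` and `e3` whose seventh or ninth power is not the
identity.
-/

set_option autoImplicit false
set_option maxRecDepth 100000

namespace Cfsg.Agent.Lib.Helper27.McLRel

open Cfsg Cfsg.Agent.Lib.Helper27.Bits Cfsg.Agent.Lib.Helper27.Pk
open Cfsg.Agent.Lib.Helper27.MinTab Cfsg.Agent.Lib.Helper27.MinEnum Cfsg.Agent.Lib.Helper27.MinFast
open Cfsg.Agent.Lib.Helper27.MinAll Cfsg.Agent.Lib.Helper27.LDot Cfsg.Agent.Lib.Helper27.LMat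
open Cfsg.Agent.Lib.Helper27.Spread Cfsg.Agent.Lib.Helper27.Co0Act Cfsg.Agent.Lib.Helper27.LApp
open Cfsg.Agent.Lib.Helper27.OrbCert Cfsg.Agent.Lib.Helper27.Chunk Cfsg.Agent.Lib.Helper27.CoGlue
open Cfsg.Agent.Lib.Helper27.Invol Cfsg.Agent.Lib.Helper27.SlpLib Cfsg.Agent.Lib.Helper27.CertBase
open Cfsg.Agent.Lib.Helper27.McLSlp1
open Cfsg.Agent.Lib.Helper27.McLSlp2
open Cfsg.Agent.Lib.Helper27.McLChk

theorem pow7 {G : Type*} [Group G] (a a2 a4 a6 : G) (h2 : a2 = a * a) (h4 : a4 = a2 * a2)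
    (h6 : a6 = a4 * a2) : a ^ 7 = a6 * a := by
  subst h2 h4 h6
  simp only [pow_succ, pow_zero, one_mul, mul_assoc]

theorem pow9 {G : Type*} [Group G] (a a2 a4 a8 : G) (h2 : a2 = a * a) (h4 : a4 = a2 * a2)
    (h8 : a8 = a4 * a4) : a ^ 9 = a8 * a := by
  subst h2 h4 h8
  simp only [pow_succ, pow_zero, one_mul, mul_assoc]

theorem x_inv : e8 = e0⁻¹ := eq_inv_of_mul_eq_one_left q8_0

theorem y_inv : e11 = e2⁻¹ := eq_inv_of_mul_eq_one_left q11_2

theorem z_inv : e14 = e3⁻¹ := eq_inv_of_mul_eq_one_left q14_3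

theorem yp_0 : elt nI cI = e2 ^ 0 := by rw [pow_zero, elt_I]

theorem yp_1 : e2 = e2 ^ 1 := (pow_one e2).symm

theorem yp_2 : e9 = e2 ^ 2 := by rw [m9, pow_two]

theorem yp_3 : e10 = e2 ^ 3 := by
  rw [m10, yp_2]
  exact (pow_succ e2 2).symm

theorem yp_4 : e11 = e2 ^ 4 := by rw [m11, yp_2, ← pow_add]

theorem zp_1 : e3 = e3 ^ 1 := (pow_one e3).symm

theorem zp_2 : e12 = e3 ^ 2 := by rw [m12, pow_two]

theorem zp_3 : e13 = e3 ^ 3 := by
  rw [m13, zp_2]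
  exact (pow_succ e3 2).symm

theorem zp_4 : e14 = e3 ^ 4 := by rw [m14, zp_2, ← pow_add]

theorem x_pow : e0 ^ 11 = 1 := by
  rw [e0_eq]
  exact Co3Cent.e1_pow

theorem y_pow : e2 ^ 5 = 1 := by
  have h := q11_2
  rw [yp_4, ← pow_succ] at h
  exact h

theorem z_pow : e3 ^ 5 = 1 := by
  have h := q14_3
  rw [zp_4, ← pow_succ] at h
  exact h

theorem x_ne_one : e0 ≠ 1 := by
  rw [e0_eq]
  exact Co3Out.moves.2.1

theorem chkMoveY : appOK n2.1 n2.2 (mvS 99459) (mvB 99476) = true := by decide +kernel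

theorem chkMoveZ : appOK n3.1 n3.2 (mvS 5) (mvB 3842) = true := by decide +kernel

theorem y_ne_one : e2 ≠ 1 :=
  Co3Out.elt_ne_one c2 (by decide) (by decide) (by decide) (by decide) (by decide) chkMoveY

theorem z_ne_one : e3 ≠ 1 :=
  Co3Out.elt_ne_one c3 (by decide) (by decide) (by decide) (by decide) (by decide) chkMoveZ

theorem rel_yx : e2 * e0 * e2⁻¹ = e0 ^ 3 := by
  have h3 : e5 = e0 ^ 3 := by
    rw [m5, m4]
    simp only [pow_succ, pow_zero, one_mul]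
  have h : e2 * e0 = e0 ^ 3 * e2 := by rw [← m15, ← h3, q5_2]
  rw [h]
  group

theorem comm_yz : e2 * e3 = e3 * e2 := by rw [q2_3, m16]

theorem t_sq : e1 * e1 = 1 := q1_1

theorem comm_tx : e1 * e0 = e0 * e1 := by rw [← m25, q0_1]

theorem comm_ty : e1 * e2 = e2 * e1 := by rw [← m26, q2_1]

theorem rel_tz : e1 * e3 = e3 ^ 4 * e1 := by rw [← m27, ← zp_4, q14_1]

theorem relA : (e0 * e3) ^ 7 = 1 := by
  rw [← m17, pow7 e17 e18 e19 e20 m18 m19 m20]
  exact q20_17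

theorem relB : (e0 * (e3 * e2)) ^ 9 = 1 := by
  rw [← m16, ← m21, pow9 e21 e22 e23 e24 m22 m23 m24]
  exact q24_21

/-! ### Fixed and moved vectors -/

theorem chkFixX : (appOK n0.1 n0.2 (spreadS V0) V0 && appOK n0.1 n0.2 (spreadS W0) W0 &&
    appOK n0.1 n0.2 (spreadS XB) XB) = true := by decide +kernel

theorem chkFixY : (appOK n2.1 n2.2 (spreadS V0) V0 && appOK n2.1 n2.2 (spreadS W0) W0 &&
    appOK n2.1 n2.2 (spreadS XB) XB) = true := by decide +kernel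

theorem chkFixZ : (appOK n3.1 n3.2 (spreadS V0) V0 && appOK n3.1 n3.2 (spreadS W0) W0) = true := by
  decide +kernel

theorem chkT : (appOK n1.1 n1.2 (spreadS V0) W0 && appOK n1.1 n1.2 (spreadS W0) V0) = true := by
  decide +kernel

/-- the images of the vector of code 5 under the powers of `e3` -/
theorem chkZorb : (appOK n3.1 n3.2 (mvS 5) (mvB 3842) && appOK n12.1 n12.2 (mvS 5) (mvB 107271) &&
    appOK n13.1 n13.2 (mvS 5) (mvB 107258) && appOK n14.1 n14.2 (mvS 5) (mvB 86304)) = true := by decide +kernel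

/-! ### Excluded products -/

theorem bad7_p_1_1 : (e0 * (e3 ^ 1 * e2 ^ 1)) ^ 7 ≠ 1 := by
  rw [← zp_1, ← yp_1]
  exact pow_ne_one_of_chain c0 c3 c2 7 0x242012a801a600170010a010d880ce110e883b60907a0206817a0054a014b005cc003e804a0007b0805a400f02000140005 (by decide) (by decide +kernel)

theorem bad7_p_1_2 : (e0 * (e3 ^ 1 * e2 ^ 2)) ^ 7 ≠ 1 := by
  rw [← zp_1, ← yp_2]
  exact pow_ne_one_of_chain c0 c3 c9 7 0x6d2b18c8d4b020a1900850115202e6102c4068a91a36b673e89d005b0017c8012800340058400110405a400f02000140005 (by decide) (by decide +kernel)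

theorem bad7_p_1_3 : (e0 * (e3 ^ 1 * e2 ^ 3)) ^ 7 ≠ 1 := by
  rw [← zp_1, ← yp_3]
  exact pow_ne_one_of_chain c0 c3 c10 7 0x47a00ac00a7a79c6a99a9fc2fa02f210c908a940e90016d5b922001f000bd002b801100020800c90205a400f02000140005 (by decide) (by decide +kernel)

theorem bad7_p_1_4 : (e0 * (e3 ^ 1 * e2 ^ 4)) ^ 7 ≠ 1 := by
  rw [← zp_1, ← yp_4]
  exact pow_ne_one_of_chain c0 c3 c11 7 0x7da9e64db30f007da00f620b9823f7012f2086491945f9398d3d8043400ef8039e0116001d401669005a400f02000140005 (by decide) (by decide +kernel)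

theorem bad7_p_2_0 : (e0 * (e3 ^ 2 * e2 ^ 0)) ^ 7 ≠ 1 := by
  rw [← zp_2, ← yp_0]
  exact pow_ne_one_of_chain c0 c12 cI 7 0x98181b7a92100084003a60176005d8008e00038080e020904260639818db7a18b2962ca57928a33028cc09a307000140005 (by decide) (by decide +kernel)

theorem bad7_p_2_1 : (e0 * (e3 ^ 2 * e2 ^ 1)) ^ 7 ≠ 1 := by
  rw [← zp_2, ← yp_1]
  exact pow_ne_one_of_chain c0 c12 c2 7 0x5d8008e0003808a44014c80ef8027c00ba0018400c28039a00c3a046010a19079e8a05a868175c3fd8cc09a307000140005 (by decide) (by decide +kernel)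

theorem bad7_p_2_2 : (e0 * (e3 ^ 2 * e2 ^ 2)) ^ 7 ≠ 1 := by
  rw [← zp_2, ← yp_2]
  exact pow_ne_one_of_chain c0 c12 c9 7 0x981bdb7a469679fca07d0249580610015180ac89e192762d6d8e088241a47ac61415ebbb6759a57068cc09a307000140005 (by decide) (by decide +kernel)

theorem bad7_p_2_3 : (e0 * (e3 ^ 2 * e2 ^ 3)) ^ 7 ≠ 1 := by
  rw [← zp_2, ← yp_3]
  exact pow_ne_one_of_chain c0 c12 c10 7 0x2fa00630076e819b1e98c01861c7f5898f270ce204fa006c208d800f0010d0079a31e80a630726a7c8cc09a307000140005 (by decide) (by decide +kernel)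

theorem bad7_p_2_4 : (e0 * (e3 ^ 2 * e2 ^ 4)) ^ 7 ≠ 1 := by
  rw [← zp_2, ← yp_4]
  exact pow_ne_one_of_chain c0 c12 c11 7 0x68be9a96f864759466939b1ea9e75cb9fcab4bd000a08336419faa702b6516a8529a191c62da275088cc09a307000140005 (by decide) (by decide +kernel)

theorem bad7_p_3_0 : (e0 * (e3 ^ 3 * e2 ^ 0)) ^ 7 ≠ 1 := by
  rw [← zp_3, ← yp_0]
  exact pow_ne_one_of_chain c0 c13 cI 7 0x6e47587a566679999eb2e80170005c0042807cfe9f3fa9473c1d8007600ce004604118102860a330b8cc2da2fa000140005 (by decide) (by decide +kernel)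

theorem bad7_p_3_1 : (e0 * (e3 ^ 3 * e2 ^ 1)) ^ 7 ≠ 1 := by
  rw [← zp_3, ← yp_1]
  exact pow_ne_one_of_chain c0 c13 c2 7 0x1a001080006c40dd040280949803f201318091ce9957aa92bc9a000a600e600180101b100c681c4018cc2da2fa000140005 (by decide) (by decide +kernel)

theorem bad7_p_3_2 : (e0 * (e3 ^ 3 * e2 ^ 2)) ^ 7 ≠ 1 := by
  rw [← zp_3, ← yp_2]
  exact pow_ne_one_of_chain c0 c13 c9 7 0x624bd91041b00099004d20264de67e818d495980045805060251cf6d72598df43a103b824b08257048cc2da2fa000140005 (by decide) (by decide +kernel)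

theorem bad7_p_3_3 : (e0 * (e3 ^ 3 * e2 ^ 3)) ^ 7 ≠ 1 := by
  rw [← zp_3, ← yp_3]
  exact pow_ne_one_of_chain c0 c13 c10 7 0x38608d790500008680388028d6071d7ac2a07b09aa7a870e7648bd9d9f21aa852440902041e226a7f8cc2da2fa000140005 (by decide) (by decide +kernel)

theorem bad7_p_3_4 : (e0 * (e3 ^ 3 * e2 ^ 4)) ^ 7 ≠ 1 := by
  rw [← zp_3, ← yp_4]
  exact pow_ne_one_of_chain c0 c13 c11 7 0x68c1da95b3361127c052481a17c82422479d2c808bcc03250248036742d927a10c092f203b70275038cc2da2fa000140005 (by decide) (by decide +kernel)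

theorem bad7_p_4_1 : (e0 * (e3 ^ 4 * e2 ^ 1)) ^ 7 ≠ 1 := by
  rw [← zp_4, ← yp_1]
  exact pow_ne_one_of_chain c0 c14 c2 7 0x68c01a9691a001358026001c75f6d2918c7e92aba9e9ea32817b0011201758070e85e56b7aee93b025b4115120000140005 (by decide) (by decide +kernel)

theorem bad7_p_4_2 : (e0 * (e3 ^ 4 * e2 ^ 2)) ^ 7 ≠ 1 := by
  rw [← zp_4, ← yp_2]
  exact pow_ne_one_of_chain c0 c14 c9 7 0xb558dbaa120e213e0250c201682324816684840b5d7257f28a64e467ead8d3a6519214ab628e89b885b4115120000140005 (by decide) (by decide +kernel)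

theorem bad7_p_4_3 : (e0 * (e3 ^ 4 * e2 ^ 3)) ^ 7 ≠ 1 := by
  rw [← zp_4, ← yp_3]
  exact pow_ne_one_of_chain c0 c14 c10 7 0x68195f1629a2a5be6f6771160881d2102aa0abe0a1686642b1b2bf6352e08fa7d47e01eb613e887825b4115120000140005 (by decide) (by decide +kernel)

theorem bad7_p_4_4 : (e0 * (e3 ^ 4 * e2 ^ 4)) ^ 7 ≠ 1 := by
  rw [← zp_4, ← yp_4]
  exact pow_ne_one_of_chain c0 c14 c11 7 0x5da00ad80922e9c1ba9143e5228add8a900706800798004e016a80252010b00a928dedab7f9e86ea05b4115120000140005 (by decide) (by decide +kernel)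

theorem bad7p (k m : ℕ) (hk1 : 1 ≤ k) (hk : k < 5) (hm : m < 5)
    (h : (e0 * (e3 ^ k * e2 ^ m)) ^ 7 = 1) : (k = 1 ∨ k = 4) ∧ m = 0 := by
  interval_cases k
  · interval_cases m
    · exact ⟨Or.inl rfl, rfl⟩
    · exact absurd h bad7_p_1_1
    · exact absurd h bad7_p_1_2
    · exact absurd h bad7_p_1_3
    · exact absurd h bad7_p_1_4
  · interval_cases m
    · exact absurd h bad7_p_2_0
    · exact absurd h bad7_p_2_1
    · exact absurd h bad7_p_2_2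
    · exact absurd h bad7_p_2_3
    · exact absurd h bad7_p_2_4
  · interval_cases m
    · exact absurd h bad7_p_3_0
    · exact absurd h bad7_p_3_1
    · exact absurd h bad7_p_3_2
    · exact absurd h bad7_p_3_3
    · exact absurd h bad7_p_3_4
  · interval_cases m
    · exact ⟨Or.inr rfl, rfl⟩
    · exact absurd h bad7_p_4_1
    · exact absurd h bad7_p_4_2
    · exact absurd h bad7_p_4_3
    · exact absurd h bad7_p_4_4

theorem bad7_m_1_1 : (e0⁻¹ * (e3 ^ 1 * e2 ^ 1)) ^ 7 ≠ 1 := by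
  rw [← x_inv, ← zp_1, ← yp_1]
  exact pow_ne_one_of_chain c8 c3 c2 7 0x4e00798061a1e9007add898d3e9143dc1ba4f000ad805da00598038c006200a7abda96068bf82f902d5000f02000140005 (by decide) (by decide +kernel)

theorem bad7_m_1_2 : (e0⁻¹ * (e3 ^ 1 * e2 ^ 2)) ^ 7 ≠ 1 := by
  rw [← x_inv, ← zp_1, ← yp_2]
  exact pow_ne_one_of_chain c8 c3 c9 7 0x823e98d4b67ea990ac85a1853080aa80748498c0d9dc46f9bd85667c589a06592a91a96b68c38b2402d5000f02000140005 (by decide) (by decide +kernel)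

theorem bad7_m_1_3 : (e0⁻¹ * (e3 ^ 1 * e2 ^ 3)) ^ 7 ≠ 1 := by
  rw [← x_inv, ← zp_1, ← yp_3]
  exact pow_ne_one_of_chain c8 c3 c10 7 0x7f289d72504441668432481678450c213e02af28dbaa1b558deda561bb59d6c71a85a95f68c24bca02d5000f02000140005 (by decide) (by decide +kernel)

theorem bad7_m_1_4 : (e0⁻¹ * (e3 ^ 1 * e2 ^ 4)) ^ 7 ≠ 1 := by
  rw [← x_inv, ← zp_1, ← yp_4]
  exact pow_ne_one_of_chain c8 c3 c11 7 0x7aee9e56b5bc01758011201c6a9a32829e9e6ec3d8c7e6d2901880260013580a32b9a96968c0055842d5000f02000140005 (by decide) (by decide +kernel)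

theorem bad7_m_2_0 : (e0⁻¹ * (e3 ^ 2 * e2 ^ 0)) ^ 7 ≠ 1 := by
  rw [← x_inv, ← zp_2, ← yp_0]
  exact pow_ne_one_of_chain c8 c12 cI 7 0x666a5a18065a7d969f61ba4170005c00ff00706fdc1bf915a5198046600910046021180833611a95b6a56da307000140005 (by decide) (by decide +kernel)

theorem bad7_m_2_1 : (e0⁻¹ * (e3 ^ 2 * e2 ^ 1)) ^ 7 ≠ 1 := by
  rw [← x_inv, ← zp_2, ← yp_1]
  exact pow_ne_one_of_chain c8 c12 c2 7 0x68bea330b28608edc04bc8262fa649e99d0b59a08c9402f301aea691e76090809009492049f029eac6a56da307000140005 (by decide) (by decide +kernel)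

theorem bad7_m_2_2 : (e0⁻¹ * (e3 ^ 2 * e2 ^ 2)) ^ 7 ≠ 1 := by
  rw [← x_inv, ← zp_2, ← yp_2]
  exact pow_ne_one_of_chain c8 c12 c9 7 0x35e40e1825be00ef8043401e68c65635886c61b6dedaa61eb5eda56ab6d8f270ce20ec88582424aa56a56da307000140005 (by decide) (by decide +kernel)

theorem bad7_m_2_3 : (e0⁻¹ * (e3 ^ 2 * e2 ^ 3)) ^ 7 ≠ 1 := by
  rw [← x_inv, ← zp_2, ← yp_3]
  exact pow_ne_one_of_chain c8 c12 c10 7 0xaddad922e1b000c48002a01ec1ea9ea5aae01a600c0002f401910a922ed90a706c20130420681c6aa6a56da307000140005 (by decide) (by decide +kernel)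

theorem bad7_m_2_4 : (e0⁻¹ * (e3 ^ 2 * e2 ^ 4)) ^ 7 ≠ 1 := by
  rw [← x_inv, ← zp_2, ← yp_4]
  exact pow_ne_one_of_chain c8 c12 c11 7 0x4c600fc804bc800a0237410918042000680067401cf4f92be81380306005880386802a881d3028cad6a56da307000140005 (by decide) (by decide +kernel)

theorem bad7_m_3_0 : (e0⁻¹ * (e3 ^ 3 * e2 ^ 0)) ^ 7 ≠ 1 := by
  rw [← x_inv, ← zp_3, ← yp_0]
  exact pow_ne_one_of_chain c8 c13 cI 7 0x888ae480e19000640018e005980166008600030400c1026e820906824198d3b62d958b6586475a96f6a5bda2fa000140005 (by decide) (by decide +kernel)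

theorem bad7_m_3_1 : (e0⁻¹ * (e3 ^ 3 * e2 ^ 1)) ^ 7 ≠ 1 := by
  rw [← x_inv, ← zp_3, ← yp_1]
  exact pow_ne_one_of_chain c8 c13 c2 7 0x68c1e3302792898b688647250ad945a9c0ad49e40cd90028222fa17f2add72e618964e6c6519a9e9e6a5bda2fa000140005 (by decide) (by decide +kernel)

theorem bad7_m_3_2 : (e0⁻¹ * (e3 ^ 3 * e2 ^ 2)) ^ 7 ≠ 1 := by
  rw [← x_inv, ← zp_3, ← yp_2]
  exact pow_ne_one_of_chain c8 c13 c9 7 0x18c00be80852a2b2267c56eb75f768864b6310808a9824ed00bc000fa00da0070e767568ac8724aae6a5bda2fa000140005 (by decide) (by decide +kernel)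

theorem bad7_m_3_3 : (e0⁻¹ * (e3 ^ 3 * e2 ^ 3)) ^ 7 ≠ 1 := by
  rw [← x_inv, ← zp_3, ← yp_3]
  exact pow_ne_one_of_chain c8 c13 c10 7 0x61895b85d7943e450e70704cd00358002d00922ea767a94eae221f7c2adb56e91d2218bd924a1c6a96a5bda2fa000140005 (by decide) (by decide +kernel)

theorem bad7_m_3_4 : (e0⁻¹ * (e3 ^ 3 * e2 ^ 4)) ^ 7 ≠ 1 := by
  rw [← x_inv, ← zp_3, ← yp_4]
  exact pow_ne_one_of_chain c8 c13 c11 7 0x2e8009f00084105320291010c002380176003a6014e80570004b04386402c207af1d8a478528a8ca06a5bda2fa000140005 (by decide) (by decide +kernel)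

theorem bad7_m_4_1 : (e0⁻¹ * (e3 ^ 4 * e2 ^ 1)) ^ 7 ≠ 1 := by
  rw [← x_inv, ← zp_4, ← yp_1]
  exact pow_ne_one_of_chain c8 c14 c2 7 0x9398d945f028092f203f70143040f6207da0642b264db7da9d2c800d4000e8010e014c005b6000c20534115120000140005 (by decide) (by decide +kernel)

theorem bad7_m_4_2 : (e0⁻¹ * (e3 ^ 4 * e2 ^ 2)) ^ 7 ≠ 1 := by
  rw [← x_inv, ← zp_4, ← yp_2]
  exact pow_ne_one_of_chain c8 c14 c9 7 0x2f4007c006a281b56ea400416c032420bc848cc2e6a7f71aa444802b0011e802b201828055600a9a0534115120000140005 (by decide) (by decide +kernel)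

theorem bad7_m_4_3 : (e0⁻¹ * (e3 ^ 4 * e2 ^ 3)) ^ 7 ≠ 1 := by
  rw [← x_inv, ← zp_4, ← yp_3]
  exact pow_ne_one_of_chain c8 c14 c10 7 0x673e9a36b13e402c402e610e1c008500a190680158c8d6d2b124003fc011c004fe00880050e0130a0534115120000140005 (by decide) (by decide +kernel)

theorem bad7_m_4_4 : (e0⁻¹ * (e3 ^ 4 * e2 ^ 4)) ^ 7 ≠ 1 := by
  rw [← x_inv, ← zp_4, ← yp_4]
  exact pow_ne_one_of_chain c8 c14 c11 7 0x4a0003e80352014b0054a0160902068107a04f8110e880ce11310010a0017001c2012a80242004220534115120000140005 (by decide) (by decide +kernel)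

theorem bad7m (k m : ℕ) (hk1 : 1 ≤ k) (hk : k < 5) (hm : m < 5)
    (h : (e0⁻¹ * (e3 ^ k * e2 ^ m)) ^ 7 = 1) : (k = 1 ∨ k = 4) ∧ m = 0 := by
  interval_cases k
  · interval_cases m
    · exact ⟨Or.inl rfl, rfl⟩
    · exact absurd h bad7_m_1_1
    · exact absurd h bad7_m_1_2
    · exact absurd h bad7_m_1_3
    · exact absurd h bad7_m_1_4
  · interval_cases m
    · exact absurd h bad7_m_2_0
    · exact absurd h bad7_m_2_1
    · exact absurd h bad7_m_2_2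
    · exact absurd h bad7_m_2_3
    · exact absurd h bad7_m_2_4
  · interval_cases m
    · exact absurd h bad7_m_3_0
    · exact absurd h bad7_m_3_1
    · exact absurd h bad7_m_3_2
    · exact absurd h bad7_m_3_3
    · exact absurd h bad7_m_3_4
  · interval_cases m
    · exact ⟨Or.inr rfl, rfl⟩
    · exact absurd h bad7_m_4_1
    · exact absurd h bad7_m_4_2
    · exact absurd h bad7_m_4_3
    · exact absurd h bad7_m_4_4

theorem bad9_m_1 : (e0⁻¹ * (e3 ^ 1 * e2 ^ 1)) ^ 9 ≠ 1 := by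
  rw [← x_inv, ← zp_1, ← yp_1]
  exact pow_ne_one_of_chain c8 c3 c2 9 0x7f9e9edab3b0010b0025200c18004e00798061a1e9007add898d3e9143dc1ba4f000ad805da00598038c006200a7abda96068bf82f902d5000f02000140005 (by decide) (by decide +kernel)

theorem bad9_m_4 : (e0⁻¹ * (e3 ^ 4 * e2 ^ 1)) ^ 9 ≠ 1 := by
  rw [← x_inv, ← zp_4, ← yp_1]
  exact pow_ne_one_of_chain c8 c14 c2 9 0x1d401160035400ef8043401862b9398d945f028092f203f70143040f6207da0642b264db7da9d2c800d4000e8010e014c005b6000c20534115120000140005 (by decide) (by decide +kernel)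


end Cfsg.Agent.Lib.Helper27.McLRel
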