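import Mathlib
import Cfsg.Prelude.Def_Sporadic_a
import Cfsg.Agent.Lib.Helper27.McLChk
import Cfsg.Agent.Lib.Helper27.McLOrb
import Cfsg.Agent.Lib.Helper27.McLHep
import Cfsg.Agent.Lib.Helper27.McLRel
import Cfsg.Agent.Lib.Helper27.SimpMcL

/-!
Centralisers in the joint stabiliser of `v0 = (4, 4, 0, ..., 0)` and `w0 = (-3, 1, ..., 1)`: the
centraliser of the automorphism `e0` of order 11 consists of its powers, and the centraliser of
the automorphism `e2` of order 5 consists of the products of the powers of `e3` and `e2`.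
-/

set_option autoImplicit false
set_option maxRecDepth 100000

namespace Cfsg.Agent.Lib.Helper27.McLCent

open Cfsg Cfsg.Agent.Lib.Helper27.Bits Cfsg.Agent.Lib.Helper27.Pk
open Cfsg.Agent.Lib.Helper27.MinTab Cfsg.Agent.Lib.Helper27.MinEnum Cfsg.Agent.Lib.Helper27.MinFast
open Cfsg.Agent.Lib.Helper27.MinAll Cfsg.Agent.Lib.Helper27.LDot Cfsg.Agent.Lib.Helper27.LMat
open Cfsg.Agent.Lib.Helper27.Spread Cfsg.Agent.Lib.Helper27.Co0Act Cfsg.Agent.Lib.Helper27.LApp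
open Cfsg.Agent.Lib.Helper27.OrbCert Cfsg.Agent.Lib.Helper27.Chunk Cfsg.Agent.Lib.Helper27.CoGlue
open Cfsg.Agent.Lib.Helper27.Invol Cfsg.Agent.Lib.Helper27.SlpLib Cfsg.Agent.Lib.Helper27.CertBase
open Cfsg.Agent.Lib.Helper27.McLSlp1 Cfsg.Agent.Lib.Helper27.McLSlp2
open Cfsg.Agent.Lib.Helper27.McLChk Cfsg.Agent.Lib.Helper27.McLHep Cfsg.Agent.Lib.Helper27.McLRel
open Cfsg.Agent.Lib.Helper27.McLOrb
open Cfsg.Agent.Lib.Helper27.Co3CentD Cfsg.Agent.Lib.Helper27.Co3Cent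
open Cfsg.Agent.Lib.Helper27.CoStd Cfsg.Agent.Lib.Helper27.SimpGlue
open Cfsg.Agent.Lib.Helper27.SimpM22 Cfsg.Agent.Lib.Helper27.SimpHS Cfsg.Agent.Lib.Helper27.Faith
open Cfsg.Agent.Lib.Helper27.SimpMcL
open MulAction

/-! ### The four automorphisms -/

theorem fix_x : e0 • v0 = v0 ∧ e0 • w0 = w0 ∧ e0 • xB = xB := by
  have h := chkFixX
  simp only [Bool.and_eq_true] at h
  obtain ⟨⟨h1, h2⟩, h3⟩ := h
  exact ⟨elt_fix c0 valid_V0 h1 v0 rfl, elt_fix c0 valid_W0 h2 w0 rfl,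
    elt_fix c0 valid_XB h3 xB rfl⟩

theorem fix_y : e2 • v0 = v0 ∧ e2 • w0 = w0 ∧ e2 • xB = xB := by
  have h := chkFixY
  simp only [Bool.and_eq_true] at h
  obtain ⟨⟨h1, h2⟩, h3⟩ := h
  exact ⟨elt_fix c2 valid_V0 h1 v0 rfl, elt_fix c2 valid_W0 h2 w0 rfl,
    elt_fix c2 valid_XB h3 xB rfl⟩

theorem fix_z : e3 • v0 = v0 ∧ e3 • w0 = w0 := by
  have h := chkFixZ
  simp only [Bool.and_eq_true] at h
  obtain ⟨h1, h2⟩ := h
  exact ⟨elt_fix c3 valid_V0 h1 v0 rfl, elt_fix c3 valid_W0 h2 w0 rfl⟩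

theorem swap_t : e1 • v0 = w0 ∧ e1 • w0 = v0 := by
  have h := chkT
  simp only [Bool.and_eq_true] at h
  obtain ⟨h1, h2⟩ := h
  exact ⟨Subtype.ext (elt_app c1 valid_V0 valid_W0 h1 v0 rfl),
    Subtype.ext (elt_app c1 valid_W0 valid_V0 h2 w0 rfl)⟩

theorem mem_M_of (g : Co0) (h1 : g • v0 = v0) (h2 : g • w0 = w0) (h3 : g • xB = xB) :
    g ∈ stabilizer Co0 u0 ⊓ stabilizer Co0 x1 ⊓ stabilizer Co0 y0 := by
  rw [← m22b_eq]
  exact (mem_m22b g).mpr ⟨h1, h2, h3⟩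

theorem ey_m22 : e2 ∈ stabilizer Co0 u0 ⊓ stabilizer Co0 x1 ⊓ stabilizer Co0 y0 :=
  mem_M_of e2 fix_y.1 fix_y.2.1 fix_y.2.2

/-- the action of an automorphism on a vector given by its code, from the kernel test -/
theorem app_code {N : ℕ × ℕ} (h : matChk N.1 N.2 = true) {a b : ℕ} (ha : a < KTOT)
    (hva : validK a = true) (hb : b < KTOT) (hvb : validK b = true)
    (hok : appOK N.1 N.2 (mvS a) (mvB b) = true) (v : leechLattice)
    (hv : (v : GolayPt → ℤ) = vecL (laneRef a)) :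
    ((elt N h • v : leechLattice) : GolayPt → ℤ) = vecL (laneRef b) := by
  obtain ⟨-, hm2, hm3⟩ := matChk_sound h
  rw [hm3] at hok
  rw [elt_val, hv]
  exact app_mv hm2 ha hva hb hvb hok

/-! ### The action of `e2` on the 22 vectors -/

theorem chkY5_spec (j : ℕ) (h2 : 2 ≤ j) (h24 : j < 24) :
    2 ≤ p5F j ∧ p5F j < 24 ∧
      appOK n2.1 n2.2 (mvS (99456 + j)) (mvB (99456 + p5F j)) = true := by
  have h := (allB_iff _ _).mp chkY5 j h24
  rw [Bool.or_eq_true] at h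
  rcases h with h | h
  · exact absurd (Nat.blt_eq.mp h) (by omega)
  · simp only [Bool.and_eq_true] at h
    obtain ⟨⟨a1, a2⟩, a3⟩ := h
    exact ⟨Nat.le_of_ble_eq_true a1, Nat.blt_eq.mp a2, a3⟩

theorem validJ (j : ℕ) (h2 : 2 ≤ j) (h24 : j < 24) : validK (99456 + j) = true :=
  (chkY_spec j h2 h24).2.2.1

theorem y5_maps (j : ℕ) (h2 : 2 ≤ j) (h24 : j < 24) : Maps e2 j (p5F j) := by
  intro v hv
  obtain ⟨b1, b2, b5⟩ := chkY5_spec j h2 h24
  exact app_code c2 (code_lt j h24) (validJ j h2 h24) (code_lt (p5F j) b2)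
    (validJ (p5F j) b1 b2) b5 v hv

theorem maps5_step (g : Co0) (hc : g * e2 = e2 * g) {j j' : ℕ} (hj : 2 ≤ j ∧ j < 24)
    (hj' : 2 ≤ j' ∧ j' < 24) (h : Maps g j j') : Maps g (p5F j) (p5F j') := by
  intro v hv
  have hv0 : om j ∈ leechLattice := (om_mem j hj.1 hj.2).1
  have e : v = e2 • (⟨om j, hv0⟩ : leechLattice) := by
    apply Subtype.ext
    rw [hv]
    exact (y5_maps j hj.1 hj.2 ⟨om j, hv0⟩ rfl).symm
  rw [e, ← mul_smul, hc, mul_smul]
  exact y5_maps j' hj'.1 hj'.2 _ (h ⟨om j, hv0⟩ rfl)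

theorem it5_range (k a : ℕ) (h : 2 ≤ a ∧ a < 24) : 2 ≤ itF p5F k a ∧ itF p5F k a < 24 := by
  induction k with
  | zero => exact h
  | succ k ih =>
    obtain ⟨b1, b2, -⟩ := chkY5_spec _ ih.1 ih.2
    exact ⟨b1, b2⟩

theorem maps5_iter (g : Co0) (hc : g * e2 = e2 * g) {j j' : ℕ} (hj : 2 ≤ j ∧ j < 24)
    (hj' : 2 ≤ j' ∧ j' < 24) (h : Maps g j j') (k : ℕ) :
    Maps g (itF p5F k j) (itF p5F k j') := by
  induction k with
  | zero => exact h
  | succ k ih => exact maps5_step g hc (it5_range k j hj) (it5_range k j' hj') ih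

theorem seed5_spec (j : ℕ) (h2 : 2 ≤ j) (h24 : j < 24) :
    sd5F j < 6 ∧ itF p5F (kk5F j) (seedF (sd5F j)) = j := by
  have h := (allB_iff _ _).mp chkSeed5 j h24
  rw [Bool.or_eq_true] at h
  rcases h with h | h
  · exact absurd (Nat.blt_eq.mp h) (by omega)
  · rw [Bool.and_eq_true] at h
    exact ⟨Nat.blt_eq.mp h.1, Nat.eq_of_beq_eq_true h.2⟩

theorem seed_range (s : ℕ) (hs : s < 6) : 2 ≤ seedF s ∧ seedF s < 24 := by
  have h := (allB_iff _ _).mp chkSeedR s hs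
  rw [Bool.and_eq_true] at h
  exact ⟨Nat.le_of_ble_eq_true h.1, Nat.blt_eq.mp h.2⟩

/-- An automorphism commuting with `e2` permutes the 22 vectors as given by the images of the
six seeds. -/
theorem cand5 (g : Co0) (hc : g * e2 = e2 * g) (sel : ℕ → ℕ)
    (hr : ∀ s < 6, 2 ≤ sel s ∧ sel s < 24) (h : ∀ s < 6, Maps g (seedF s) (sel s)) :
    ∀ j, 2 ≤ j → j < 24 → Maps g j (piS p5F kk5F sd5F sel j) := by
  intro j hj2 hj24
  obtain ⟨hs, hit⟩ := seed5_spec j hj2 hj24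
  have key := maps5_iter g hc (seed_range _ hs) (hr _ hs) (h _ hs) (kk5F j)
  rw [hit] at key
  exact key

theorem pi5_range (sel : ℕ → ℕ) (hr : ∀ s < 6, 2 ≤ sel s ∧ sel s < 24) (j : ℕ) (hj2 : 2 ≤ j)
    (hj24 : j < 24) : 2 ≤ piS p5F kk5F sd5F sel j ∧ piS p5F kk5F sd5F sel j < 24 :=
  it5_range _ _ (hr _ (seed5_spec j hj2 hj24).1)

theorem om_inj {j j' : ℕ} (hj : 2 ≤ j ∧ j < 24) (hj' : 2 ≤ j' ∧ j' < 24) (h : om j = om j') :
    j = j' := by
  have := mv_inj (code_lt j hj.2) (validJ j hj.1 hj.2) (code_lt j' hj'.2)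
    (validJ j' hj'.1 hj'.2) h
  omega

theorem maps_fun (g : Co0) {j a b : ℕ} (hj : 2 ≤ j ∧ j < 24) (ha : 2 ≤ a ∧ a < 24)
    (hb : 2 ≤ b ∧ b < 24) (h1 : Maps g j a) (h2 : Maps g j b) : a = b := by
  have hv0 : om j ∈ leechLattice := (om_mem j hj.1 hj.2).1
  exact om_inj ha hb ((h1 ⟨om j, hv0⟩ rfl).symm.trans (h2 ⟨om j, hv0⟩ rfl))

theorem maps_inj (g : Co0) {j j' a : ℕ} (hj : 2 ≤ j ∧ j < 24) (hj' : 2 ≤ j' ∧ j' < 24)
    (h1 : Maps g j a) (h2 : Maps g j' a) : j = j' := by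
  have hv0 : om j ∈ leechLattice := (om_mem j hj.1 hj.2).1
  have hv1 : om j' ∈ leechLattice := (om_mem j' hj'.1 hj'.2).1
  have e : g • (⟨om j, hv0⟩ : leechLattice) = g • (⟨om j', hv1⟩ : leechLattice) :=
    Subtype.ext ((h1 ⟨om j, hv0⟩ rfl).trans (h2 ⟨om j', hv1⟩ rfl).symm)
  have e2' := smul_left_cancel g e
  exact om_inj hj hj' (congrArg Subtype.val e2')

theorem fixed_of (g : Co0) (hc : g * e2 = e2 * g) {j j' : ℕ} (hj : 2 ≤ j ∧ j < 24)
    (hj' : 2 ≤ j' ∧ j' < 24) (h : Maps g j j') (hf : p5F j = j) : p5F j' = j' := by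
  have h2 := maps5_step g hc hj hj' h
  rw [hf] at h2
  obtain ⟨b1, b2, -⟩ := chkY5_spec j' hj'.1 hj'.2
  exact maps_fun g hj ⟨b1, b2⟩ hj' h2 h

theorem moved_of (g : Co0) (hc : g * e2 = e2 * g) {j j' : ℕ} (hj : 2 ≤ j ∧ j < 24)
    (hj' : 2 ≤ j' ∧ j' < 24) (h : Maps g j j') (hf : p5F j ≠ j) : p5F j' ≠ j' := by
  intro hf'
  have h2 := maps5_step g hc hj hj' h
  rw [hf'] at h2
  obtain ⟨b1, b2, -⟩ := chkY5_spec j hj.1 hj.2
  exact hf (maps_inj g ⟨b1, b2⟩ hj h2 h)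

theorem y5_pow_maps (k s : ℕ) (hs : 2 ≤ s ∧ s < 24) : Maps (e2 ^ k) s (itF p5F k s) := by
  induction k with
  | zero =>
    intro v hv
    rw [pow_zero, one_smul]
    exact hv
  | succ k ih =>
    intro v hv
    rw [pow_succ', mul_smul]
    exact y5_maps _ (it5_range k s hs).1 (it5_range k s hs).2 _ (ih v hv)

theorem img_ex (g : Co0) (hg : g ∈ stabilizer Co0 u0 ⊓ stabilizer Co0 x1 ⊓ stabilizer Co0 y0)
    (j : ℕ) (h2 : 2 ≤ j) (h24 : j < 24) : ∃ j', (2 ≤ j' ∧ j' < 24) ∧ Maps g j j' := by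
  have hm := om_mem j h2 h24
  obtain ⟨j', hj2, hj24, ej'⟩ := m1_code (g • ⟨om j, hm.1⟩) (l34_inv g hg _ hm)
  refine ⟨j', ⟨hj2, hj24⟩, ?_⟩
  intro v hv
  have ev : v = ⟨om j, hm.1⟩ := Subtype.ext hv
  rw [ev]
  exact ej'

/-! ### The set of 176 -/

theorem hp_inv (g : Co0) (hg : g ∈ stabilizer Co0 u0 ⊓ stabilizer Co0 x1 ⊓ stabilizer Co0 y0) :
    ∀ x ∈ OmL cHp, g • x ∈ OmL cHp := by
  obtain ⟨h1, h2, h3⟩ := (mem_m22 g).mp hg
  apply omL_inv
  intro c hc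
  simp only [cHp, eHp, CertCo3.cA, List.cons_append, List.nil_append, List.mem_cons,
    List.not_mem_nil, or_false] at hc
  rcases hc with rfl | rfl | rfl
  · exact ⟨x1, rfl, h2⟩
  · exact ⟨y0, rfl, h3⟩
  · exact ⟨u0, rfl, h1⟩

theorem h0_in : inOm cHp 23807 = true := by decide +kernel

theorem h0_mem : vecL (laneRef 23807) ∈ Om cHp := mem_om hcHp (by decide) h0_in

/-- the vector of the set of 176 fixed by `e2` -/
def h0v : leechLattice := ⟨vecL (laneRef 23807), h0_mem.1⟩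

theorem y_h0 : e2 • h0v = h0v :=
  Subtype.ext (app_code c2 (by decide) (by decide) (by decide) (by decide) fixH0 h0v rfl)

theorem fix_h0 (g : Co0) (hg : g ∈ stabilizer Co0 u0 ⊓ stabilizer Co0 x1 ⊓ stabilizer Co0 y0)
    (hc : g * e2 = e2 * g) : g • h0v = h0v := by
  have h1 : e2 • (g • h0v) = g • h0v := by
    rw [← mul_smul, ← hc, mul_smul, y_h0]
  have hin : g • h0v ∈ OmL cHp := hp_inv g hg h0v h0_mem
  have h' : matAct n2.1 ((g • h0v : leechLattice) : GolayPt → ℤ) = (g • h0v : leechLattice) :=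
    congrArg Subtype.val h1
  have key : ((g • h0v : leechLattice) : GolayPt → ℤ) = vecL (laneRef 23807) := by
    rcases fix_spec tabHp hcHp c2 iHpT 23807 23807 fixHp _ hin h' with e | e <;> exact e
  exact Subtype.ext key

theorem wb_valid (j : ℕ) (h2 : 2 ≤ j) (h24 : j < 24) : validB (wB j) = true := by
  have := (allB_iff _ _).mp chkWB j h24
  rw [Bool.or_eq_true] at this
  rcases this with h | h
  · exact absurd (Nat.blt_eq.mp h) (by omega)
  · exact h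

/-- the inner products of the fixed vector with the 22 vectors -/
theorem dot_h0 (j : ℕ) (h2 : 2 ≤ j) (h24 : j < 24) :
    dotInt (om j) (vecL (laneRef 23807)) = ((0 : ℕ) : ℤ) - ((tnF MH0 j : ℕ) : ℤ) := by
  have hc := chkH0
  simp only [Bool.and_eq_true] at hc
  obtain ⟨⟨hr, hcode⟩, hmsk⟩ := hc
  have hr' : R0 < 176 := Nat.blt_eq.mp hr
  have hcode' : rCode (tHpT R0) = 23807 := Nat.eq_of_beq_eq_true hcode
  have hmsk' : mskF R0 = MH0 := Nat.eq_of_beq_eq_true hmsk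
  have m1 : condOK (wB j) 0 (tnF (mskF R0) j) (mvB (rCode (tHpT R0))) = true := by
    have := (allB_iff _ _).mp ((allB_iff _ _).mp chkMsk R0 hr') j h24
    rw [Bool.or_eq_true] at this
    rcases this with h | h
    · exact absurd (Nat.blt_eq.mp h) (by omega)
    · exact h
  rw [hcode', hmsk'] at m1
  have d1 := (condOK_mv 0 (tnF MH0 j) (wb_valid j h2 h24) (by decide) (inOm_valid h0_in).1).mp m1
  have e2' : vecL (lanesB (wB j)) = om j := wB_eq j h2 h24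
  rw [e2'] at d1
  exact d1

/-- An automorphism fixing the fixed vector preserves its support. -/
theorem h0_bit (g : Co0) (hh : g • h0v = h0v) {j j' : ℕ} (hj : 2 ≤ j ∧ j < 24)
    (hj' : 2 ≤ j' ∧ j' < 24) (h : Maps g j j') : bitF MH0 j' = bitF MH0 j := by
  have d1 := dot_h0 j hj.1 hj.2
  have d2 := dot_h0 j' hj'.1 hj'.2
  have hm := h ⟨om j, (om_mem j hj.1 hj.2).1⟩ rfl
  have sd := smul_dot g ⟨om j, (om_mem j hj.1 hj.2).1⟩ h0v
  rw [hm, hh] at sd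
  have hsd : dotInt (om j') (vecL (laneRef 23807)) = dotInt (om j) (vecL (laneRef 23807)) := sd
  have ht : tnF MH0 j' = tnF MH0 j := by
    have h3 : ((tnF MH0 j' : ℕ) : ℤ) = ((tnF MH0 j : ℕ) : ℤ) := by
      rw [d2, d1] at hsd
      linarith
    exact_mod_cast h3
  unfold tnF at ht
  rcases Bool.eq_false_or_eq_true (bitF MH0 j') with hb1 | hb1 <;>
    rcases Bool.eq_false_or_eq_true (bitF MH0 j) with hb2 | hb2 <;>
    rw [hb1, hb2] at ht <;> rw [hb1, hb2] <;>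
    exact absurd ht (by decide)

/-! ### The centraliser of `e2` among the automorphisms fixing `u0`, `x1`, `y0` -/

theorem all3 {f : ℕ → ℕ → ℕ → Bool}
    (h : allB 24 (fun b1 => allB 24 (fun b2 => allB 24 (fun b3 => f b1 b2 b3))) = true)
    {b1 b2 b3 : ℕ} (h1 : b1 < 24) (h2 : b2 < 24) (h3 : b3 < 24) : f b1 b2 b3 = true :=
  (allB_iff _ _).mp ((allB_iff _ _).mp ((allB_iff _ _).mp h b1 h1) b2 h2) b3 h3

theorem cand_elim (g : Co0)
    (hg : g ∈ stabilizer Co0 u0 ⊓ stabilizer Co0 x1 ⊓ stabilizer Co0 y0) {a0 a1 b1 b2 b3 RT : ℕ}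
    (hπ : ∀ j, 2 ≤ j → j < 24 → Maps g j (piS p5F kk5F sd5F (selS a0 a1 b1 b2 b3) j))
    (hπr : ∀ j, 2 ≤ j → j < 24 → 2 ≤ piS p5F kk5F sd5F (selS a0 a1 b1 b2 b3) j ∧
      piS p5F kk5F sd5F (selS a0 a1 b1 b2 b3) j < 24)
    (rb1 : 2 ≤ b1) (rb2 : 2 ≤ b2) (rb3 : 2 ≤ b3) (hb1 : bitF MH0 b1 = false)
    (hb2 : bitF MH0 b2 = false) (hb3 : bitF MH0 b3 = false)
    (h : candOK a0 a1 RT b1 b2 b3 = true) : a0 = 2 ∧ a1 = 15 ∧ b1 = 3 ∧ b2 = 4 ∧ b3 = 7 := by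
  unfold candOK at h
  simp only [Bool.or_eq_true, Bool.and_eq_true] at h
  rcases h with ((((((h | h) | h) | h) | h) | h) | h) | h
  · exact absurd (Nat.blt_eq.mp h) (by omega)
  · exact absurd (Nat.blt_eq.mp h) (by omega)
  · exact absurd (Nat.blt_eq.mp h) (by omega)
  · rw [hb1] at h
    exact absurd h (by decide)
  · rw [hb2] at h
    exact absurd h (by decide)
  · rw [hb3] at h
    exact absurd h (by decide)
  · obtain ⟨⟨⟨⟨q1, q2⟩, q3⟩, q4⟩, q5⟩ := h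
    exact ⟨Nat.eq_of_beq_eq_true q1, Nat.eq_of_beq_eq_true q2, Nat.eq_of_beq_eq_true q3,
      Nat.eq_of_beq_eq_true q4, Nat.eq_of_beq_eq_true q5⟩
  · exact (exclM_sound tabHp hcHp mskF chkWB chkMsk g (hp_inv g hg) _ hπ hπr _ h).elim

theorem pi5_id (j : ℕ) (h2 : 2 ≤ j) (h24 : j < 24) :
    piS p5F kk5F sd5F (selS 2 15 3 4 7) j = j := by
  have h := (allB_iff _ _).mp chkId5 j h24
  rw [Bool.or_eq_true] at h
  rcases h with h | h
  · exact absurd (Nat.blt_eq.mp h) (by omega)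
  · exact Nat.eq_of_beq_eq_true h

theorem fixpt (j : ℕ) (h2 : 2 ≤ j) (h24 : j < 24) (hf : p5F j = j) : j = 2 ∨ j = 15 := by
  have h := (allB_iff _ _).mp chkFixPt j h24
  simp only [Bool.or_eq_true] at h
  rcases h with ((h | h) | h) | h
  · exact absurd (Nat.blt_eq.mp h) (by omega)
  · rw [hf] at h
    simp at h
  · exact Or.inl (Nat.eq_of_beq_eq_true h)
  · exact Or.inr (Nat.eq_of_beq_eq_true h)

/-- The centraliser of `e2` in the stabiliser of `u0`, `x1`, `y0`. -/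
theorem cent5_m22 (g : Co0)
    (hg : g ∈ stabilizer Co0 u0 ⊓ stabilizer Co0 x1 ⊓ stabilizer Co0 y0)
    (hc : g * e2 = e2 * g) : g ∈ Subgroup.zpowers e2 := by
  have r2 : 2 ≤ 2 ∧ 2 < 24 := by norm_num
  have r15 : 2 ≤ 15 ∧ 15 < 24 := by norm_num
  have r3 : 2 ≤ 3 ∧ 3 < 24 := by norm_num
  have r4 : 2 ≤ 4 ∧ 4 < 24 := by norm_num
  have r6 : 2 ≤ 6 ∧ 6 < 24 := by norm_num
  have r7 : 2 ≤ 7 ∧ 7 < 24 := by norm_num
  have h6m : om 6 ∈ Om CertM22.cM1 := om_mem 6 r6.1 r6.2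
  obtain ⟨j', rj', hM6⟩ := img_ex g hg 6 r6.1 r6.2
  have hh := fix_h0 g hg hc
  have hb := h0_bit g hh r6 rj' hM6
  have hb6 : bitF MH0 6 = true := by decide
  rw [hb6] at hb
  have hmv : p5F j' ≠ j' := moved_of g hc r6 rj' hM6 (by decide)
  have hsd : sd5F j' = 4 := by
    have h := (allB_iff _ _).mp chkH0c j' rj'.2
    simp only [Bool.or_eq_true] at h
    rcases h with ((h | h) | h) | h
    · exact absurd (Nat.blt_eq.mp h) (by omega)
    · rw [hb] at h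
      exact absurd h (by decide)
    · exact absurd (Nat.eq_of_beq_eq_true h) hmv
    · exact Nat.eq_of_beq_eq_true h
  obtain ⟨-, hit⟩ := seed5_spec j' rj'.1 rj'.2
  rw [hsd] at hit
  have hs4 : seedF 4 = 6 := by decide
  rw [hs4] at hit
  have hg'm : (e2 ^ kk5F j')⁻¹ * g ∈ stabilizer Co0 u0 ⊓ stabilizer Co0 x1 ⊓ stabilizer Co0 y0 :=
    mul_mem (inv_mem (pow_mem ey_m22 _)) hg
  have hc' : (e2 ^ kk5F j')⁻¹ * g * e2 = e2 * ((e2 ^ kk5F j')⁻¹ * g) := by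
    have hcm : e2 * (e2 ^ kk5F j')⁻¹ = (e2 ^ kk5F j')⁻¹ * e2 :=
      (((Commute.refl e2).pow_right (kk5F j')).inv_right).eq
    rw [mul_assoc, hc, ← mul_assoc, ← mul_assoc, hcm]
  have hm6 : Maps ((e2 ^ kk5F j')⁻¹ * g) 6 6 := by
    intro v hv
    have ev : v = ⟨om 6, h6m.1⟩ := Subtype.ext hv
    have e3' : g • v = e2 ^ kk5F j' • (⟨om 6, h6m.1⟩ : leechLattice) := by
      apply Subtype.ext
      rw [hM6 v hv, y5_pow_maps (kk5F j') 6 r6 ⟨om 6, h6m.1⟩ rfl, hit]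
    rw [mul_smul, e3', inv_smul_smul]
  obtain ⟨a0, ra0, ma0⟩ := img_ex _ hg'm 2 r2.1 r2.2
  obtain ⟨a1, ra1, ma1⟩ := img_ex _ hg'm 15 r15.1 r15.2
  obtain ⟨b1, rb1, mb1⟩ := img_ex _ hg'm 3 r3.1 r3.2
  obtain ⟨b2, rb2, mb2⟩ := img_ex _ hg'm 4 r4.1 r4.2
  obtain ⟨b3, rb3, mb3⟩ := img_ex _ hg'm 7 r7.1 r7.2
  have hh' := fix_h0 _ hg'm hc'
  have fa0 : a0 = 2 ∨ a0 = 15 :=
    fixpt a0 ra0.1 ra0.2 (fixed_of _ hc' r2 ra0 ma0 (by decide))
  have fa1 : a1 = 2 ∨ a1 = 15 :=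
    fixpt a1 ra1.1 ra1.2 (fixed_of _ hc' r15 ra1 ma1 (by decide))
  have hb1 : bitF MH0 b1 = false := by
    rw [h0_bit _ hh' r3 rb1 mb1]
    decide
  have hb2 : bitF MH0 b2 = false := by
    rw [h0_bit _ hh' r4 rb2 mb2]
    decide
  have hb3 : bitF MH0 b3 = false := by
    rw [h0_bit _ hh' r7 rb3 mb3]
    decide
  have hsel : ∀ s < 6, Maps ((e2 ^ kk5F j')⁻¹ * g) (seedF s) (selS a0 a1 b1 b2 b3 s) := by
    intro s hs
    interval_cases s
    · exact ma0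
    · exact ma1
    · exact mb1
    · exact mb2
    · exact hm6
    · exact mb3
  have hselr : ∀ s < 6, 2 ≤ selS a0 a1 b1 b2 b3 s ∧ selS a0 a1 b1 b2 b3 s < 24 := by
    intro s hs
    interval_cases s
    · exact ra0
    · exact ra1
    · exact rb1
    · exact rb2
    · exact r6
    · exact rb3
  have hπ := cand5 _ hc' _ hselr hsel
  have hπr := fun j hj2 hj24 => pi5_range _ hselr j hj2 hj24
  have key : a0 = 2 ∧ a1 = 15 ∧ b1 = 3 ∧ b2 = 4 ∧ b3 = 7 := by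
    rcases fa0 with rfl | rfl <;> rcases fa1 with rfl | rfl
    · exact cand_elim _ hg'm hπ hπr rb1.1 rb2.1 rb3.1 hb1 hb2 hb3
        (all3 chkCand_2_2 rb1.2 rb2.2 rb3.2)
    · exact cand_elim _ hg'm hπ hπr rb1.1 rb2.1 rb3.1 hb1 hb2 hb3
        (all3 chkCand_2_15 rb1.2 rb2.2 rb3.2)
    · exact cand_elim _ hg'm hπ hπr rb1.1 rb2.1 rb3.1 hb1 hb2 hb3
        (all3 chkCand_15_2 rb1.2 rb2.2 rb3.2)
    · exact cand_elim _ hg'm hπ hπr rb1.1 rb2.1 rb3.1 hb1 hb2 hb3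
        (all3 chkCand_15_15 rb1.2 rb2.2 rb3.2)
  obtain ⟨rfl, rfl, rfl, rfl, rfl⟩ := key
  have hone : (e2 ^ kk5F j')⁻¹ * g = 1 := by
    obtain ⟨h1, h2, h3⟩ := (mem_m22 _).mp hg'm
    apply eq_one_of_fix CertSpan.rH CertSpan.zeroH
    apply fix_rows CertM22.hcM1 CertSpan.rH CertSpan.kH 3 CertSpan.rowsM
    · intro i hi
      interval_cases i
      · exact ⟨u0, rfl, h1⟩
      · exact ⟨x1, rfl, h2⟩
      · exact ⟨y0, rfl, h3⟩
    · intro v hv
      obtain ⟨j, hj2', hj24', ej⟩ := m1_code v hv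
      have := hπ j hj2' hj24' v ej
      rw [pi5_id j hj2' hj24'] at this
      exact Subtype.ext (this.trans ej.symm)
  have : g = e2 ^ kk5F j' := (inv_mul_eq_one.mp hone).symm
  rw [this]
  exact pow_mem (Subgroup.mem_zpowers e2) _

/-! ### The centralisers in the stabiliser of `v0` and `w0` -/

theorem xB_code : (xB : GolayPt → ℤ) = vecL (laneRef 5) := vecB_mv XB_eq (by decide) (by decide)

/-- The five vectors of the set of 2025 fixed by `e2` are the images of `xB` under the powers of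
`e3`. -/
theorem zorb (c : ℕ) (hc : okF c = true) :
    ∃ k, k < 5 ∧ ((e3 ^ k • xB : leechLattice) : GolayPt → ℤ) = vecL (laneRef c) := by
  have h := chkZorb
  simp only [Bool.and_eq_true] at h
  obtain ⟨⟨⟨h1, h2⟩, h3⟩, h4⟩ := h
  unfold okF at hc
  simp only [Bool.or_eq_true] at hc
  rcases hc with (((hc | hc) | hc) | hc) | hc
  · refine ⟨0, by norm_num, ?_⟩
    rw [pow_zero, one_smul, Nat.eq_of_beq_eq_true hc]
    exact xB_code
  · refine ⟨1, by norm_num, ?_⟩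
    rw [← zp_1, Nat.eq_of_beq_eq_true hc]
    exact app_code c3 (by decide) (by decide) (by decide) (by decide) h1 xB xB_code
  · refine ⟨4, by norm_num, ?_⟩
    rw [← zp_4, Nat.eq_of_beq_eq_true hc]
    exact app_code c14 (by decide) (by decide) (by decide) (by decide) h4 xB xB_code
  · refine ⟨3, by norm_num, ?_⟩
    rw [← zp_3, Nat.eq_of_beq_eq_true hc]
    exact app_code c13 (by decide) (by decide) (by decide) (by decide) h3 xB xB_code
  · refine ⟨2, by norm_num, ?_⟩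
    rw [← zp_2, Nat.eq_of_beq_eq_true hc]
    exact app_code c12 (by decide) (by decide) (by decide) (by decide) h2 xB xB_code

/-- The centraliser of `e2` in the stabiliser of `v0` and `w0`. -/
theorem cent_y5 (g : Co0) (hg : g ∈ stabilizer Co0 v0 ⊓ stabilizer Co0 w0)
    (hc : g * e2 = e2 * g) : ∃ k, k < 5 ∧ ∃ m : ℕ, g = e3 ^ k * e2 ^ m := by
  have := co0_finite
  obtain ⟨hv, hw⟩ := (mem_mcl g).mp hg
  have h1 : e2 • (g • xB) = g • xB := by
    rw [← mul_smul, ← hc, mul_smul, fix_y.2.2]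
  have hin : g • xB ∈ OmL CertMcL.cQ := mcl_inv g hg xB xB_om
  have h' : matAct n2.1 ((g • xB : leechLattice) : GolayPt → ℤ) = (g • xB : leechLattice) :=
    congrArg Subtype.val h1
  obtain ⟨c, hcok, hcz⟩ := fix_specP tabQ CertMcL.hcQ c2 iQyT okF fixQy _ hin h'
  obtain ⟨k, hk5, hzk⟩ := zorb c hcok
  have hfix : ((e3 ^ k)⁻¹ * g) • xB = xB := by
    rw [mul_smul, inv_smul_eq_iff]
    exact Subtype.ext (hcz.trans hzk.symm)
  have hzv : (e3 ^ k)⁻¹ • v0 = v0 := by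
    rw [inv_smul_eq_iff]
    exact (mem_stabilizer_iff.mp (pow_mem (mem_stabilizer_iff.mpr fix_z.1) k)).symm
  have hzw : (e3 ^ k)⁻¹ • w0 = w0 := by
    rw [inv_smul_eq_iff]
    exact (mem_stabilizer_iff.mp (pow_mem (mem_stabilizer_iff.mpr fix_z.2) k)).symm
  have hgm : (e3 ^ k)⁻¹ * g ∈ stabilizer Co0 u0 ⊓ stabilizer Co0 x1 ⊓ stabilizer Co0 y0 :=
    mem_M_of _ (by rw [mul_smul, hv, hzv]) (by rw [mul_smul, hw, hzw]) hfix
  have hc' : (e3 ^ k)⁻¹ * g * e2 = e2 * ((e3 ^ k)⁻¹ * g) := by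
    have hcm : e2 * (e3 ^ k)⁻¹ = (e3 ^ k)⁻¹ * e2 :=
      ((((Commute.symm (show Commute e2 e3 from comm_yz)).pow_left k).inv_left).symm).eq
    rw [mul_assoc, hc, ← mul_assoc, ← mul_assoc, hcm]
  have hz := cent5_m22 _ hgm hc'
  have hz' : (e3 ^ k)⁻¹ * g ∈ Submonoid.powers e2 :=
    (isOfFinOrder_of_finite e2).mem_powers_iff_mem_zpowers.mpr hz
  obtain ⟨m, hm⟩ := (Submonoid.mem_powers_iff _ _).mp hz'
  refine ⟨k, hk5, m, ?_⟩
  rw [hm]
  group

/-- The centraliser of `e0` in the stabiliser of `v0` and `w0`. -/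
theorem cent_x (g : Co0) (hg : g ∈ stabilizer Co0 v0 ⊓ stabilizer Co0 w0)
    (hc : g * e0 = e0 * g) : g ∈ Subgroup.zpowers e0 := by
  obtain ⟨hv, hw⟩ := (mem_mcl g).mp hg
  have h1 : e0 • (g • xB) = g • xB := by
    rw [← mul_smul, ← hc, mul_smul, fix_x.2.2]
  have hin : g • xB ∈ OmL CertMcL.cQ := mcl_inv g hg xB xB_om
  have h' : matAct n0.1 ((g • xB : leechLattice) : GolayPt → ℤ) = (g • xB : leechLattice) :=
    congrArg Subtype.val h1
  have key : ((g • xB : leechLattice) : GolayPt → ℤ) = vecL (laneRef 5) := by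
    rcases fix_spec tabQ CertMcL.hcQ c0 iQxT 5 5 fixQx _ hin h' with e | e <;> exact e
  have hfix : g • xB = xB := Subtype.ext (key.trans xB_code.symm)
  have hgm := mem_M_of g hv hw hfix
  have hc2 : g * Co3Slp1.e1 = Co3Slp1.e1 * g := by
    rw [← e0_eq]
    exact hc
  rw [e0_eq]
  exact cent_m22 g hgm hc2

end Cfsg.Agent.Lib.Helper27.McLCent
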