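import Mathlib
import Cfsg.Prelude.Def_Sporadic_a
import Cfsg.Agent.Lib.Helper27.Co1Fix
import Cfsg.Agent.Lib.Helper27.Co1Rel
import Cfsg.Agent.Lib.Helper27.Co2Cent
import Cfsg.Agent.Lib.Helper27.McLCent

/-!
The centraliser of the automorphism `e1` of order 11 in the automorphism group of the lattice:
an automorphism commuting with `e1` maps `w1 = (1, -3, 1, ..., 1)` to one of the twelve vectors of
sum of squares 32 fixed by `e1`, which are the images of `w1` and of its opposite under six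
automorphisms commuting with `e1`; so it is, up to sign, the product of one of the six and a
power of `e1`.  The same in the quotient by the centre.
-/

set_option autoImplicit false
set_option maxRecDepth 100000

namespace Cfsg.Agent.Lib.Helper27.Co1Cent

open Cfsg Cfsg.Agent.Lib.Helper27.Bits Cfsg.Agent.Lib.Helper27.Pk
open Cfsg.Agent.Lib.Helper27.MinTab Cfsg.Agent.Lib.Helper27.MinEnum Cfsg.Agent.Lib.Helper27.MinFast
open Cfsg.Agent.Lib.Helper27.MinAll Cfsg.Agent.Lib.Helper27.LDot Cfsg.Agent.Lib.Helper27.LMat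
open Cfsg.Agent.Lib.Helper27.Spread Cfsg.Agent.Lib.Helper27.Co0Act Cfsg.Agent.Lib.Helper27.LApp
open Cfsg.Agent.Lib.Helper27.OrbCert Cfsg.Agent.Lib.Helper27.Chunk Cfsg.Agent.Lib.Helper27.CoGlue
open Cfsg.Agent.Lib.Helper27.Invol Cfsg.Agent.Lib.Helper27.SlpLib Cfsg.Agent.Lib.Helper27.CertBase
open Cfsg.Agent.Lib.Helper27.Co1Slp1 Cfsg.Agent.Lib.Helper27.Co1Chk
open Cfsg.Agent.Lib.Helper27.Co1FixT Cfsg.Agent.Lib.Helper27.Co1Fix
open Cfsg.Agent.Lib.Helper27.Co1Rel
open Cfsg.Agent.Lib.Helper27.CoStd Cfsg.Agent.Lib.Helper27.SimpGlue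
open Cfsg.Agent.Lib.Helper27.SimpM22 Cfsg.Agent.Lib.Helper27.SimpCo1
open Cfsg.Agent.S0398 (negC negC_central negC_ne_one)
open MulAction

theorem w1_code : ((Co2Cent.w1 : leechLattice) : GolayPt → ℤ) = vecL (laneRef 99457) :=
  vecB_mv Co2Base.W1_eq (by decide) (by decide)

/-- the codes of the images of `w1` under the six automorphisms -/
def imgF : ℕ → ℕ
  | 0 => 99457
  | 1 => 5
  | 2 => 197736
  | 3 => 125400
  | 4 => 171793
  | _ => 7

/-- the codes of the opposite vectors -/
def negF : ℕ → ℕ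
  | 0 => 197737
  | 1 => 6
  | 2 => 99456
  | 3 => 171792
  | 4 => 125401
  | _ => 4

theorem imgF_valid (j : ℕ) (hj : j < 6) : imgF j < KTOT ∧ validK (imgF j) = true := by
  interval_cases j <;> exact ⟨by decide, by decide⟩

theorem negF_valid (j : ℕ) (hj : j < 6) : negF j < KTOT ∧ validK (negF j) = true := by
  interval_cases j <;> exact ⟨by decide, by decide⟩

theorem s_w1 (j : ℕ) (hj : j < 6) :
    ((sE j • Co2Cent.w1 : leechLattice) : GolayPt → ℤ) = vecL (laneRef (imgF j)) := by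
  have h := chkS
  simp only [Bool.and_eq_true] at h
  obtain ⟨⟨⟨⟨h1, h2⟩, h3⟩, h4⟩, h5⟩ := h
  interval_cases j
  · show ((elt nI cI • Co2Cent.w1 : leechLattice) : GolayPt → ℤ) = _
    rw [elt_I, one_smul]
    exact w1_code
  · exact McLCent.app_code c4 (by decide) (by decide) (by decide) (by decide) h1 _ w1_code
  · exact McLCent.app_code c17 (by decide) (by decide) (by decide) (by decide) h2 _ w1_code
  · exact McLCent.app_code c3 (by decide) (by decide) (by decide) (by decide) h3 _ w1_code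
  · exact McLCent.app_code c18 (by decide) (by decide) (by decide) (by decide) h4 _ w1_code
  · exact McLCent.app_code c19 (by decide) (by decide) (by decide) (by decide) h5 _ w1_code

theorem neg_of_negK {a b : ℕ} (ha : a < KTOT) (hva : validK a = true) (hb : b < KTOT)
    (hvb : validK b = true) (h : negK a b = true) : vecL (laneRef b) = -vecL (laneRef a) := by
  have h1 := SimpMcL.vecB_neg (a := mvB a) (b := mvB b) h
  rw [vecB_mv rfl ha hva, vecB_mv rfl hb hvb] at h1
  rw [h1, neg_neg]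

theorem neg_w1 (j : ℕ) (hj : j < 6) : vecL (laneRef (negF j)) = -vecL (laneRef (imgF j)) := by
  have h := chkN
  simp only [Bool.and_eq_true] at h
  obtain ⟨⟨⟨⟨⟨h0, h1⟩, h2⟩, h3⟩, h4⟩, h5⟩ := h
  interval_cases j
  · exact neg_of_negK (by decide) (by decide) (by decide) (by decide) h0
  · exact neg_of_negK (by decide) (by decide) (by decide) (by decide) h1
  · exact neg_of_negK (by decide) (by decide) (by decide) (by decide) h2
  · exact neg_of_negK (by decide) (by decide) (by decide) (by decide) h3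
  · exact neg_of_negK (by decide) (by decide) (by decide) (by decide) h4
  · exact neg_of_negK (by decide) (by decide) (by decide) (by decide) h5

theorem ok12_cases (c : ℕ) (h : ok12 c = true) : ∃ j, j < 6 ∧ (c = imgF j ∨ c = negF j) := by
  unfold ok12 at h
  simp only [Bool.or_eq_true] at h
  rcases h with ((((((((((h | h) | h) | h) | h) | h) | h) | h) | h) | h) | h) | h
  · exact ⟨5, by norm_num, Or.inr (Nat.eq_of_beq_eq_true h)⟩
  · exact ⟨1, by norm_num, Or.inl (Nat.eq_of_beq_eq_true h)⟩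
  · exact ⟨1, by norm_num, Or.inr (Nat.eq_of_beq_eq_true h)⟩
  · exact ⟨5, by norm_num, Or.inl (Nat.eq_of_beq_eq_true h)⟩
  · exact ⟨2, by norm_num, Or.inr (Nat.eq_of_beq_eq_true h)⟩
  · exact ⟨0, by norm_num, Or.inl (Nat.eq_of_beq_eq_true h)⟩
  · exact ⟨3, by norm_num, Or.inl (Nat.eq_of_beq_eq_true h)⟩
  · exact ⟨4, by norm_num, Or.inr (Nat.eq_of_beq_eq_true h)⟩
  · exact ⟨3, by norm_num, Or.inr (Nat.eq_of_beq_eq_true h)⟩
  · exact ⟨4, by norm_num, Or.inl (Nat.eq_of_beq_eq_true h)⟩
  · exact ⟨2, by norm_num, Or.inl (Nat.eq_of_beq_eq_true h)⟩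
  · exact ⟨0, by norm_num, Or.inr (Nat.eq_of_beq_eq_true h)⟩

theorem sE_comm (j : ℕ) (hj : j < 6) : Commute (sE j) e1 := by
  have c4' : Commute e4 e1 := comm_dy
  have c3' : Commute e3 e1 := comm_ty
  interval_cases j
  · show Commute (elt nI cI) e1
    rw [elt_I]
    exact Commute.one_left e1
  · exact c4'
  · show Commute e17 e1
    rw [m17]
    exact c4'.mul_left c4'
  · exact c3'
  · show Commute e18 e1
    rw [m18]
    exact c3'.mul_left c4'
  · show Commute e19 e1
    rw [m19, m17]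
    exact c3'.mul_left (c4'.mul_left c4')

/-- The centraliser of `e1` in the automorphism group of the lattice. -/
theorem cent_co0 (g : Co0) (hc : g * e1 = e1 * g) :
    ∃ j, j < 6 ∧ ∃ m : ℕ, g = sE j * e1 ^ m ∨ negC * g = sE j * e1 ^ m := by
  have := co0_finite
  have key : ∀ g' : Co0, g' * e1 = e1 * g' → ∀ j, j < 6 →
      ((g' • Co2Cent.w1 : leechLattice) : GolayPt → ℤ) = vecL (laneRef (imgF j)) →
      ∃ m : ℕ, g' = sE j * e1 ^ m := by
    intro g' hc' j hj hz
    have hfix : ((sE j)⁻¹ * g') • Co2Cent.w1 = Co2Cent.w1 := by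
      rw [mul_smul, inv_smul_eq_iff]
      exact Subtype.ext (hz.trans (s_w1 j hj).symm)
    have hcm : e1 * (sE j)⁻¹ = (sE j)⁻¹ * e1 := ((sE_comm j hj).inv_left).eq.symm
    have hc2 : (sE j)⁻¹ * g' * e1 = e1 * ((sE j)⁻¹ * g') := by
      rw [mul_assoc, hc', ← mul_assoc, ← mul_assoc, hcm]
    have hz' := Co2Cent.cent_co2 _ hfix hc2
    have hz2 : (sE j)⁻¹ * g' ∈ Submonoid.powers e1 :=
      (isOfFinOrder_of_finite e1).mem_powers_iff_mem_zpowers.mpr hz'
    obtain ⟨m, hm⟩ := (Submonoid.mem_powers_iff _ _).mp hz2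
    refine ⟨m, ?_⟩
    rw [hm]
    group
  have hy1 : e1 • Co2Cent.w1 = Co2Cent.w1 := Co2Cent.fixes2.2.1
  have h1 : e1 • (g • Co2Cent.w1) = g • Co2Cent.w1 := by
    rw [← mul_smul, ← hc, mul_smul, hy1]
  have hn : sqNorm ((g • Co2Cent.w1 : leechLattice) : GolayPt → ℤ) = 32 := by
    rw [smul_norm]
    exact Co2Cent.w1_norm
  have h' : matAct n1.1 ((g • Co2Cent.w1 : leechLattice) : GolayPt → ℤ)
      = (g • Co2Cent.w1 : leechLattice) := congrArg Subtype.val h1
  obtain ⟨c, hcK, hcv, hok, hz⟩ := fix_specK c1 iYT ok12 fixY _ (g • Co2Cent.w1).2 hn h'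
  obtain ⟨j, hj, hcj⟩ := ok12_cases c hok
  refine ⟨j, hj, ?_⟩
  rcases hcj with rfl | rfl
  · obtain ⟨m, hm⟩ := key g hc j hj hz
    exact ⟨m, Or.inl hm⟩
  · have hcen := Subgroup.mem_center_iff.mp negC_central
    have hc' : negC * g * e1 = e1 * (negC * g) := by
      rw [mul_assoc, hc, ← mul_assoc, ← mul_assoc, hcen e1]
    have hz2 : (((negC * g) • Co2Cent.w1 : leechLattice) : GolayPt → ℤ)
        = vecL (laneRef (imgF j)) := by
      rw [mul_smul, negC_smul]
      show -((g • Co2Cent.w1 : leechLattice) : GolayPt → ℤ) = _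
      rw [hz, neg_w1 j hj, neg_neg]
    obtain ⟨m, hm⟩ := key _ hc' j hj hz2
    exact ⟨m, Or.inr hm⟩

/-! ### The quotient by the centre -/

/-- the image of an automorphism in the quotient by the centre -/
abbrev qm (g : Co0) : Co0 ⧸ Subgroup.center Co0 := (g : Co0 ⧸ Subgroup.center Co0)

theorem qm_mul (a b : Co0) : qm (a * b) = qm a * qm b := rfl

theorem qm_pow (a : Co0) (n : ℕ) : qm (a ^ n) = qm a ^ n := rfl

theorem qm_inv (a : Co0) : qm a⁻¹ = (qm a)⁻¹ := rfl

theorem qm_one : qm 1 = 1 := rfl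

theorem qm_eq_one (a : Co0) : qm a = 1 ↔ a ∈ Subgroup.center Co0 := QuotientGroup.eq_one_iff a

theorem qm_negC : qm negC = 1 := (qm_eq_one negC).mpr negC_central

theorem negC_sq : negC * negC = 1 := by
  apply fix_all
  intro x _
  rw [mul_smul, negC_smul, negC_smul, neg_neg]

/-- Elements commuting in the quotient with an element of odd order commute. -/
theorem comm_of_center (g a : Co0) (n : ℕ) (hn : Odd n) (ha : a ^ n = 1)
    (h : (g * a)⁻¹ * (a * g) ∈ Subgroup.center Co0) : g * a = a * g := by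
  rcases center_cases _ h with h1 | h1
  · exact inv_mul_eq_one.mp h1
  · exfalso
    have hz := Subgroup.mem_center_iff.mp negC_central
    have e1' : a * g = g * a * negC := by
      rw [← h1]
      group
    have e2' : g⁻¹ * a * g = a * negC := by
      rw [mul_assoc, e1']
      group
    have e3 : (g⁻¹ * a * g) ^ n = 1 := by
      have e : g⁻¹ * a * g = g⁻¹ * a * g⁻¹⁻¹ := by rw [inv_inv]
      rw [e, conj_pow, ha]
      group
    have e4 : (a * negC) ^ n = negC := by
      have hcomm : Commute a negC := hz a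
      rw [hcomm.mul_pow, ha, one_mul]
      obtain ⟨k, rfl⟩ := hn
      rw [pow_succ, pow_mul, pow_two, negC_sq, one_pow, one_mul]
    rw [e2', e4] at e3
    exact negC_ne_one e3.symm

/-- The centraliser of the image of `e1` in the quotient by the centre. -/
theorem cent_co1 (q : Co0 ⧸ Subgroup.center Co0) (hq : q * qm e1 = qm e1 * q) :
    ∃ m, m < 11 ∧ ∃ j, j < 6 ∧ q = qm e1 ^ m * qm (sE j) := by
  obtain ⟨g, rfl⟩ := QuotientGroup.mk_surjective q
  have hq' : qm (g * e1) = qm (e1 * g) := hq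
  have h2 : (g * e1)⁻¹ * (e1 * g) ∈ Subgroup.center Co0 := QuotientGroup.eq.mp hq'
  have hc := comm_of_center g e1 11 (by decide) y_pow h2
  obtain ⟨j, hj, m, hm⟩ := cent_co0 g hc
  have hpow : e1 ^ m = e1 ^ (m % 11) := pow_eq_pow_mod m y_pow
  have hcomm : sE j * e1 ^ (m % 11) = e1 ^ (m % 11) * sE j := ((sE_comm j hj).pow_right _).eq
  refine ⟨m % 11, Nat.mod_lt _ (by norm_num), j, hj, ?_⟩
  rcases hm with hm | hm
  · have e : qm g = qm (e1 ^ (m % 11) * sE j) := by rw [hm, hpow, hcomm]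
    exact e
  · have e : qm (negC * g) = qm g := by
      rw [qm_mul, qm_negC, one_mul]
    have e' : qm g = qm (e1 ^ (m % 11) * sE j) := by rw [← e, hm, hpow, hcomm]
    exact e'

end Cfsg.Agent.Lib.Helper27.Co1Cent
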