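import Mathlib
import Cfsg.Agent.Lib.Helper27.SimpleCrit

/-!
A sharper form of the simplicity criterion: the orbits of a normal subgroup are blocks, and the
elements of prime order `p` come in sets of `p - 1`.
-/

set_option autoImplicit false

namespace Cfsg.Agent.Lib.Helper27.SimpleCrit2

open MulAction Cfsg.Agent.Lib.Helper27.SimpleCrit

/-- The number of elements of prime order `p` is divisible by `p - 1`. -/
theorem pred_dvd_card_order (G : Type*) [Group G] [Finite G] (p : ℕ) [hp : Fact p.Prime] :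
    p - 1 ∣ Nat.card {g : G // orderOf g = p} := by
  classical
  have := Fintype.ofFinite G
  rw [Nat.card_eq_fintype_card, Fintype.card_subtype]
  have key := Finset.card_eq_sum_card_fiberwise (f := fun g : G => Subgroup.zpowers g)
    (s := Finset.univ.filter (fun g : G => orderOf g = p))
    (t := (Finset.univ.filter (fun g : G => orderOf g = p)).image (fun g => Subgroup.zpowers g))
    (fun g hg => Finset.mem_image_of_mem _ hg)
  rw [key]
  apply Finset.dvd_sum
  intro C hC
  obtain ⟨h, hh, rfl⟩ := Finset.mem_image.mp hC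
  have hh' : orderOf h = p := (Finset.mem_filter.mp hh).2
  have hF : (Finset.univ.filter (fun g : G => orderOf g = p)).filter
      (fun g => Subgroup.zpowers g = Subgroup.zpowers h)
      = (Finset.univ.filter (fun g : G => g ∈ Subgroup.zpowers h)).erase 1 := by
    ext g
    simp only [Finset.mem_filter, Finset.mem_univ, true_and, Finset.mem_erase]
    constructor
    · rintro ⟨h1, h2⟩
      refine ⟨?_, ?_⟩
      · rintro rfl
        rw [orderOf_one] at h1
        exact hp.out.one_lt.ne h1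
      · rw [← h2]
        exact Subgroup.mem_zpowers g
    · rintro ⟨h1, h2⟩
      have hd : orderOf g ∣ p := by
        rw [← hh']
        exact orderOf_dvd_of_mem_zpowers h2
      have ho : orderOf g = p := by
        rcases (Nat.dvd_prime hp.out).mp hd with e | e
        · exact absurd (orderOf_eq_one_iff.mp e) h1
        · exact e
      refine ⟨ho, ?_⟩
      apply Subgroup.eq_of_le_of_card_ge ((Subgroup.zpowers_le).mpr h2)
      rw [Nat.card_zpowers, Nat.card_zpowers, ho, hh']
  rw [hF, Finset.card_erase_of_mem (by simp), ← Fintype.card_subtype]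
  have e : Fintype.card {g : G // g ∈ Subgroup.zpowers h} = p := by
    rw [← Nat.card_eq_fintype_card]
    exact (Nat.card_zpowers h).trans hh'
  rw [e]

/-- The solutions of `g ^ p = 1` are the identity and the elements of order `p`. -/
theorem card_pow_eq_one_eq (G : Type*) [Group G] [Finite G] (p : ℕ) [hp : Fact p.Prime] :
    Nat.card {g : G // g ^ p = 1} = Nat.card {g : G // orderOf g = p} + 1 := by
  classical
  have := Fintype.ofFinite G
  rw [Nat.card_eq_fintype_card, Nat.card_eq_fintype_card, Fintype.card_subtype,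
    Fintype.card_subtype]
  have e : Finset.univ.filter (fun g : G => g ^ p = 1)
      = insert 1 (Finset.univ.filter (fun g : G => orderOf g = p)) := by
    ext g
    simp only [Finset.mem_filter, Finset.mem_univ, true_and, Finset.mem_insert]
    constructor
    · intro h
      rcases (Nat.dvd_prime hp.out).mp (orderOf_dvd_of_pow_eq_one h) with e | e
      · left
        exact orderOf_eq_one_iff.mp e
      · right
        exact e
    · rintro (rfl | h)
      · exact one_pow p
      · rw [← h]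
        exact pow_orderOf_eq_one g
  rw [e, Finset.card_insert_of_notMem]
  simp only [Finset.mem_filter, Finset.mem_univ, true_and, orderOf_one]
  exact hp.out.one_lt.ne

/-- A normal subgroup of a faithful transitive group with simple point stabiliser is trivial,
the whole group, or regular, provided the sizes of the sets invariant under the stabiliser
satisfy a divisibility condition. -/
theorem normal_cases {H : Type*} [Group H] [Finite H] {Ω : Type*} [Finite Ω] [MulAction H Ω]
    [FaithfulSMul H Ω] [IsPretransitive H Ω] (ω : Ω) (L : List ℕ)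
    (hsimple : IsSimpleGroup (stabilizer H ω))
    (horb : ∀ S : Set Ω, ω ∈ S → (∀ h ∈ stabilizer H ω, ∀ s ∈ S, h • s ∈ S) → S.ncard ∈ L)
    (hdiv : ∀ m ∈ L, m = 1 ∨ m = Nat.card Ω ∨ ¬ m ∣ Nat.card Ω)
    (K : Subgroup H) (hK : K.Normal) :
    K = ⊥ ∨ K = ⊤ ∨ (Nat.card K = Nat.card Ω ∧ ∀ k ∈ K, k • ω = ω → k = 1) := by
  have hidx : (stabilizer H ω).index = Nat.card Ω := index_stabilizer_of_transitive H ω
  have hcardH : Nat.card (stabilizer H ω) * Nat.card Ω = Nat.card H := by
    rw [← hidx]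
    exact Subgroup.card_mul_index _
  have hSt1 : 1 < Nat.card (stabilizer H ω) :=
    Finite.one_lt_card_iff_nontrivial.2 hsimple.toNontrivial
  have hinv : ∀ h ∈ stabilizer H ω, ∀ s ∈ orbit K ω, h • s ∈ orbit K ω := by
    rintro h hh _ ⟨k, rfl⟩
    refine ⟨⟨h * k * h⁻¹, hK.conj_mem k k.2 h⟩, ?_⟩
    show (h * (k : H) * h⁻¹) • ω = h • ((k : H) • ω)
    have hω : h⁻¹ • ω = ω := by
      rw [inv_smul_eq_iff]
      exact (mem_stabilizer_iff.1 hh).symm
    rw [mul_smul, mul_smul, hω]
  have hS := horb (orbit K ω) (mem_orbit_self ω) hinv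
  have hblock : (orbit K ω).ncard ∣ Nat.card Ω := by
    have := hK
    exact (IsBlock.orbit_of_normal (N := K) ω).ncard_dvd_card (nonempty_orbit ω)
  have hos : Nat.card (stabilizer K ω) * (orbit K ω).ncard = Nat.card K := by
    rw [← index_stabilizer]
    exact Subgroup.card_mul_index _
  have hnorm : (K.subgroupOf (stabilizer H ω)).Normal := hK.subgroupOf _
  rcases hsimple.eq_bot_or_eq_top_of_normal (K.subgroupOf (stabilizer H ω)) hnorm with
    hbot | htop
  · rw [Subgroup.subgroupOf_eq_bot, Subgroup.disjoint_def] at hbot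
    have hstab : stabilizer K ω = ⊥ := by
      rw [Subgroup.eq_bot_iff_forall]
      intro k hk
      have hk' : (k : H) • ω = ω := mem_stabilizer_iff.1 hk
      exact Subtype.ext (hbot k.2 (mem_stabilizer_iff.2 hk'))
    rw [hstab, Subgroup.card_bot, one_mul] at hos
    rcases hdiv _ hS with h | h | h
    · rw [h] at hos
      exact Or.inl (Subgroup.eq_bot_of_card_eq K hos.symm)
    · rw [h] at hos
      exact Or.inr (Or.inr ⟨hos.symm, fun k hk hkω => hbot hk (mem_stabilizer_iff.2 hkω)⟩)
    · exact absurd hblock h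
  · rw [Subgroup.subgroupOf_eq_top] at htop
    have hstab : Nat.card (stabilizer K ω) = Nat.card (stabilizer H ω) :=
      Nat.card_congr ⟨fun k => ⟨k.1.1, k.2⟩, fun s => ⟨⟨s.1, htop s.2⟩, s.2⟩,
        fun _ => rfl, fun _ => rfl⟩
    rw [hstab] at hos
    rcases hdiv _ hS with h | h | h
    · exfalso
      rw [h, mul_one] at hos
      have hKS : stabilizer H ω = K := Subgroup.eq_of_le_of_card_ge htop (by rw [hos])
      have hN : (stabilizer H ω).Normal := by
        rw [hKS]
        exact hK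
      have htriv : ∀ h ∈ stabilizer H ω, h = 1 := by
        intro h hh
        apply FaithfulSMul.eq_of_smul_eq_smul (α := Ω)
        intro y
        obtain ⟨g, rfl⟩ := exists_smul_eq H ω y
        have h1 := hN.conj_mem h hh g⁻¹
        rw [inv_inv] at h1
        have h2 : (g⁻¹ * h * g) • ω = ω := mem_stabilizer_iff.1 h1
        rw [mul_smul, mul_smul, inv_smul_eq_iff] at h2
        rw [h2, one_smul]
      have hbot : stabilizer H ω = ⊥ := (Subgroup.eq_bot_iff_forall _).2 htriv
      rw [hbot, Subgroup.card_bot] at hSt1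
      omega
    · rw [h] at hos
      exact Or.inr (Or.inl ((Subgroup.card_eq_iff_eq_top K).1 (by rw [← hos, hcardH])))
    · exact absurd hblock h

/-- The simplicity criterion. -/
theorem simple_of_suborbits {H : Type*} [Group H] [Finite H] {Ω : Type*} [Finite Ω]
    [MulAction H Ω] [FaithfulSMul H Ω] [IsPretransitive H Ω] (ω : Ω) (L : List ℕ)
    (hsimple : IsSimpleGroup (stabilizer H ω))
    (horb : ∀ S : Set Ω, ω ∈ S → (∀ h ∈ stabilizer H ω, ∀ s ∈ S, h • s ∈ S) → S.ncard ∈ L)
    (hdiv : ∀ m ∈ L, m = 1 ∨ m = Nat.card Ω ∨ ¬ m ∣ Nat.card Ω)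
    (p q : ℕ) (hp : p.Prime) (hq : q.Prime) (hpq : p ≠ q) (hpΩ : p ∣ Nat.card Ω)
    (hqΩ : q ∣ Nat.card Ω)
    (hreg : ∀ a ∈ L, ∀ b ∈ L, p ∣ a → p - 1 ∣ a - 1 → q ∣ b → q - 1 ∣ b - 1 →
      Nat.card Ω + 1 < a + b) : IsSimpleGroup H := by
  have hidx : (stabilizer H ω).index = Nat.card Ω := index_stabilizer_of_transitive H ω
  have hcardH : Nat.card (stabilizer H ω) * Nat.card Ω = Nat.card H := by
    rw [← hidx]
    exact Subgroup.card_mul_index _
  have hSt1 : 1 < Nat.card (stabilizer H ω) :=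
    Finite.one_lt_card_iff_nontrivial.2 hsimple.toNontrivial
  have hΩpos : 0 < Nat.card Ω := Nat.card_pos_iff.mpr ⟨⟨ω⟩, inferInstance⟩
  have hnt : Nontrivial H := by
    apply Finite.one_lt_card_iff_nontrivial.1
    rw [← hcardH]
    exact lt_of_lt_of_le hSt1 (Nat.le_mul_of_pos_right _ hΩpos)
  refine ⟨fun K hK => ?_⟩
  rcases normal_cases ω L hsimple horb hdiv K hK with h | h | ⟨hc, hreg'⟩
  · exact Or.inl h
  · exact Or.inr h
  · exfalso
    have hinj : Function.Injective (fun k : K => (k : H) • ω) := by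
      intro a b hab
      have e : ((a⁻¹ * b : K) : H) • ω = ω := by
        show ((a : H)⁻¹ * (b : H)) • ω = ω
        rw [mul_smul, inv_smul_eq_iff]
        exact hab.symm
      have := hreg' _ (a⁻¹ * b).2 e
      have e2 : a⁻¹ * b = 1 := Subtype.ext this
      exact (inv_mul_eq_one.mp e2)
    let T : ℕ → Set Ω := fun r => (fun k : K => (k : H) • ω) '' {k : K | k ^ r = 1}
    have hTω : ∀ r, ω ∈ T r := fun r => ⟨1, one_pow r, one_smul _ ω⟩
    have hTinv : ∀ r, ∀ h ∈ stabilizer H ω, ∀ s ∈ T r, h • s ∈ T r := by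
      rintro r h hh _ ⟨k, hk, rfl⟩
      refine ⟨⟨h * k * h⁻¹, hK.conj_mem k k.2 h⟩, ?_, ?_⟩
      · have hk' : (k : H) ^ r = 1 := by
          have := congrArg (Subtype.val) (show k ^ r = 1 from hk)
          simpa using this
        apply Subtype.ext
        show (h * (k : H) * h⁻¹) ^ r = 1
        rw [conj_pow, hk', mul_one, mul_inv_cancel]
      · show (h * (k : H) * h⁻¹) • ω = h • ((k : H) • ω)
        have hω : h⁻¹ • ω = ω := by
          rw [inv_smul_eq_iff]
          exact (mem_stabilizer_iff.1 hh).symm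
        rw [mul_smul, mul_smul, hω]
    have hTcard : ∀ r, (T r).ncard = Nat.card {k : K // k ^ r = 1} := by
      intro r
      rw [Set.ncard_image_of_injective _ hinj]
      exact (Nat.card_coe_set_eq _).symm
    have hTdvd : ∀ r, r.Prime → r ∣ Nat.card Ω → r ∣ (T r).ncard := by
      intro r hr hrΩ
      rw [hTcard]
      have : Fact r.Prime := ⟨hr⟩
      exact prime_dvd_card_pow_eq_one K r (by rw [hc]; exact hrΩ)
    have hTdvd' : ∀ r, r.Prime → r - 1 ∣ (T r).ncard - 1 := by
      intro r hr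
      have : Fact r.Prime := ⟨hr⟩
      rw [hTcard, card_pow_eq_one_eq K r, Nat.add_sub_cancel]
      exact pred_dvd_card_order K r
    have hTL : ∀ r, (T r).ncard ∈ L := fun r => horb (T r) (hTω r) (hTinv r)
    have hlt := hreg _ (hTL p) _ (hTL q) (hTdvd p hp hpΩ) (hTdvd' p hp) (hTdvd q hq hqΩ)
      (hTdvd' q hq)
    have hint : T p ∩ T q ⊆ {ω} := by
      rintro x ⟨⟨k, hk, rfl⟩, ⟨k', hk', hkk⟩⟩
      have e : k' = k := hinj hkk
      subst e
      have h1 : orderOf k' ∣ p := orderOf_dvd_of_pow_eq_one hk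
      have h2 : orderOf k' ∣ q := orderOf_dvd_of_pow_eq_one hk'
      have h3 : orderOf k' = 1 := by
        have := Nat.dvd_gcd h1 h2
        rw [(Nat.coprime_primes hp hq).mpr hpq] at this
        exact Nat.dvd_one.mp this
      rw [orderOf_eq_one_iff] at h3
      rw [h3]
      show (1 : H) • ω ∈ ({ω} : Set Ω)
      rw [one_smul]
      exact Set.mem_singleton ω
    have hi : (T p ∩ T q).ncard ≤ 1 := by
      have := Set.ncard_le_ncard hint (Set.finite_singleton ω)
      rwa [Set.ncard_singleton] at this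
    have hu : (T p ∪ T q).ncard ≤ Nat.card Ω := by
      have := Set.ncard_le_ncard (Set.subset_univ (T p ∪ T q)) (Set.finite_univ)
      rwa [Set.ncard_univ] at this
    have hsum := Set.ncard_union_add_ncard_inter (T p) (T q)
    omega

/-- The simplicity criterion for a subgroup acting on an invariant subset. -/
theorem simple_sub {G α : Type*} [Group G] [MulAction G α] [Finite G]
    (H : Subgroup G) (S : Set α) (hfin : S.Finite)
    (hinv : ∀ h ∈ H, ∀ s ∈ S, h • s ∈ S)
    (htr : ∀ a ∈ S, ∀ b ∈ S, ∃ h ∈ H, h • a = b)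
    (hfaith : ∀ h ∈ H, (∀ s ∈ S, h • s = s) → h = 1)
    (ω : α) (hω : ω ∈ S) (hsimple : IsSimpleGroup ↥(H ⊓ stabilizer G ω))
    (L : List ℕ)
    (horb : ∀ T : Set α, T ⊆ S → ω ∈ T → (∀ h ∈ H ⊓ stabilizer G ω, ∀ s ∈ T, h • s ∈ T) →
      T.ncard ∈ L)
    (n : ℕ) (hn : S.ncard = n)
    (hdiv : ∀ m ∈ L, m = 1 ∨ m = n ∨ ¬ m ∣ n)
    (p q : ℕ) (hp : p.Prime) (hq : q.Prime) (hpq : p ≠ q) (hpn : p ∣ n) (hqn : q ∣ n)
    (hreg : ∀ a ∈ L, ∀ b ∈ L, p ∣ a → p - 1 ∣ a - 1 → q ∣ b → q - 1 ∣ b - 1 → n + 1 < a + b) :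
    IsSimpleGroup ↥H := by
  let act : MulAction ↥H ↥S :=
    { smul := fun h x => ⟨(h : G) • (x : α), hinv h.1 h.2 x.1 x.2⟩
      one_smul := fun x => Subtype.ext (one_smul G (x : α))
      mul_smul := fun a b x => Subtype.ext (mul_smul (a : G) (b : G) (x : α)) }
  have hsm : ∀ (h : ↥H) (x : ↥S), ((h • x : ↥S) : α) = (h : G) • (x : α) := fun _ _ => rfl
  have : Finite ↥S := hfin.to_subtype
  have : FaithfulSMul ↥H ↥S := by
    refine ⟨fun {a b} hab => ?_⟩
    have h1 : (a⁻¹ * b : ↥H) = 1 := by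
      apply Subtype.ext
      apply hfaith _ (a⁻¹ * b).2
      intro s hs
      have e := congrArg (Subtype.val) (hab ⟨s, hs⟩)
      rw [hsm, hsm] at e
      show ((a : G)⁻¹ * (b : G)) • s = s
      rw [mul_smul, inv_smul_eq_iff]
      exact e.symm
    exact (inv_mul_eq_one.mp h1)
  have : IsPretransitive ↥H ↥S := by
    refine ⟨fun x y => ?_⟩
    obtain ⟨h, hh, e⟩ := htr x.1 x.2 y.1 y.2
    exact ⟨⟨h, hh⟩, Subtype.ext e⟩
  have hcΩ : Nat.card ↥S = n := by
    rw [Nat.card_coe_set_eq]
    exact hn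
  let e : stabilizer ↥H (⟨ω, hω⟩ : ↥S) ≃* ↥(H ⊓ stabilizer G ω) :=
    { toFun := fun k => ⟨k.1.1, ⟨k.1.2, by
        have := congrArg Subtype.val (mem_stabilizer_iff.mp k.2)
        rw [hsm] at this
        exact mem_stabilizer_iff.mpr this⟩⟩
      invFun := fun k => ⟨⟨k.1, k.2.1⟩, by
        rw [mem_stabilizer_iff]
        apply Subtype.ext
        rw [hsm]
        exact mem_stabilizer_iff.mp k.2.2⟩
      left_inv := fun _ => rfl
      right_inv := fun _ => rfl
      map_mul' := fun _ _ => rfl }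
  have := hsimple
  have hs' : IsSimpleGroup (stabilizer ↥H (⟨ω, hω⟩ : ↥S)) := e.isSimpleGroup
  refine simple_of_suborbits (⟨ω, hω⟩ : ↥S) L hs' ?_ ?_ p q hp hq hpq ?_ ?_ ?_
  · intro T hωT hTinv
    have h1 := horb (Subtype.val '' T) ?_ ⟨⟨ω, hω⟩, hωT, rfl⟩ ?_
    · rwa [Set.ncard_image_of_injective _ Subtype.val_injective] at h1
    · rintro _ ⟨x, _, rfl⟩
      exact x.2
    · rintro h hh _ ⟨x, hx, rfl⟩
      have hmem : (⟨h, hh.1⟩ : ↥H) ∈ stabilizer ↥H (⟨ω, hω⟩ : ↥S) := by
        rw [mem_stabilizer_iff]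
        apply Subtype.ext
        rw [hsm]
        exact mem_stabilizer_iff.mp hh.2
      exact ⟨(⟨h, hh.1⟩ : ↥H) • x, hTinv _ hmem x hx, rfl⟩
  · rw [hcΩ]
    exact hdiv
  · rw [hcΩ]
    exact hpn
  · rw [hcΩ]
    exact hqn
  · rw [hcΩ]
    exact hreg

end Cfsg.Agent.Lib.Helper27.SimpleCrit2
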