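import Mathlib
import Cfsg.Prelude.Def_Sporadic_a
import Cfsg.Agent.Lib.Helper27.SimpMcL
import Cfsg.Agent.Lib.Helper27.SimpleCrit2
import Cfsg.Agent.Lib.Helper27.CertSpan2
import Cfsg.Agent.S0398
import Cfsg.Agent.S1574
import Cfsg.Agent.S1576

/-!
The quotient of the automorphism group of the lattice by its centre acts on the 98280 pairs of
opposite vectors of sum of squares 32; the stabiliser of a pair is the stabiliser of a vector.
-/

set_option autoImplicit false
set_option maxRecDepth 100000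

namespace Cfsg.Agent.Lib.Helper27.SimpCo1

open Cfsg Cfsg.Agent.Lib.Helper27.Bits Cfsg.Agent.Lib.Helper27.Pk
open Cfsg.Agent.Lib.Helper27.MinTab Cfsg.Agent.Lib.Helper27.MinEnum Cfsg.Agent.Lib.Helper27.MinFast
open Cfsg.Agent.Lib.Helper27.MinAll Cfsg.Agent.Lib.Helper27.LDot Cfsg.Agent.Lib.Helper27.LMat
open Cfsg.Agent.Lib.Helper27.Spread Cfsg.Agent.Lib.Helper27.Co0Act Cfsg.Agent.Lib.Helper27.LApp
open Cfsg.Agent.Lib.Helper27.OrbCert Cfsg.Agent.Lib.Helper27.CoGlue
open Cfsg.Agent.Lib.Helper27.CertBase Cfsg.Agent.Lib.Helper27.CoStd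
open Cfsg.Agent.Lib.Helper27.SimpleCrit Cfsg.Agent.Lib.Helper27.Faith
open Cfsg.Agent.Lib.Helper27.SimpGlue Cfsg.Agent.Lib.Helper27.SimpM22
open Cfsg.Agent.Lib.Helper27.SimpMcL
open MulAction

/-! ### Inner products of vectors of sum of squares 32 -/

theorem dot_cases (v x : leechLattice) (hv : sqNorm (v : GolayPt → ℤ) = 32)
    (hx : sqNorm (x : GolayPt → ℤ) = 32) :
    x = v ∨ x = -v ∨ dotInt (v : GolayPt → ℤ) (x : GolayPt → ℤ) = -16 ∨
      dotInt (v : GolayPt → ℤ) (x : GolayPt → ℤ) = -8 ∨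
      dotInt (v : GolayPt → ℤ) (x : GolayPt → ℤ) = 0 ∨
      dotInt (v : GolayPt → ℤ) (x : GolayPt → ℤ) = 8 ∨
      dotInt (v : GolayPt → ℤ) (x : GolayPt → ℤ) = 16 := by
  by_cases h1 : x = v
  · exact Or.inl h1
  by_cases h2 : x = -v
  · exact Or.inr (Or.inl h2)
  right
  right
  obtain ⟨k, hk⟩ := Cfsg.Agent.Lib.Helper92.LeechCore.dot_dvd8 v.2 x.2
  have ha : 32 ≤ sqNorm ((v : GolayPt → ℤ) - (x : GolayPt → ℤ)) := by
    apply Cfsg.Agent.Lib.Helper92.LeechCore.min_norm (leechLattice.sub_mem v.2 x.2)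
    intro h
    apply h1
    exact (Subtype.ext (sub_eq_zero.mp h)).symm
  have hb : 32 ≤ sqNorm ((v : GolayPt → ℤ) + (x : GolayPt → ℤ)) := by
    apply Cfsg.Agent.Lib.Helper92.LeechCore.min_norm (leechLattice.add_mem v.2 x.2)
    intro h
    apply h2
    apply Subtype.ext
    show (x : GolayPt → ℤ) = -(v : GolayPt → ℤ)
    exact eq_neg_of_add_eq_zero_right h
  rw [sqNorm_sub, hv, hx] at ha
  rw [Cfsg.Agent.Lib.Helper92.LeechCore.sqNorm_add, hv, hx] at hb
  rw [hk] at ha hb ⊢
  omega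

theorem ne_neg_self (x : leechLattice) (hx : sqNorm (x : GolayPt → ℤ) = 32) : x ≠ -x := by
  intro h
  have h1 : (x : GolayPt → ℤ) = -(x : GolayPt → ℤ) := congrArg Subtype.val h
  have h2 : (x : GolayPt → ℤ) = 0 := by
    funext p
    have := congrFun h1 p
    simp only [Pi.neg_apply] at this
    show (x : GolayPt → ℤ) p = 0
    omega
  rw [h2] at hx
  simp [sqNorm] at hx

/-! ### Pairs of opposite vectors -/

/-- the pairs of opposite vectors of sum of squares 32 -/
def PairSet : Set (Sym2 leechLattice) :=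
  {s | ∃ x : leechLattice, sqNorm (x : GolayPt → ℤ) = 32 ∧ s = s(x, -x)}

theorem map_mem (g : Co0) {s : Sym2 leechLattice} (hs : s ∈ PairSet) :
    Sym2.map (fun x => g • x) s ∈ PairSet := by
  obtain ⟨x, hx, rfl⟩ := hs
  exact ⟨g • x, by rw [smul_norm]; exact hx, by rw [Sym2.map_mk, smul_neg_l]⟩

/-- the action on pairs -/
instance pairAct : MulAction Co0 ↥PairSet where
  smul g p := ⟨Sym2.map (fun x => g • x) p.1, map_mem g p.2⟩
  one_smul p := Subtype.ext (by
    show Sym2.map (fun x => (1 : Co0) • x) p.1 = p.1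
    simp only [one_smul, Sym2.map_id', id_eq])
  mul_smul g h p := Subtype.ext (by
    show Sym2.map (fun x => (g * h) • x) p.1
      = Sym2.map (fun x => g • x) (Sym2.map (fun x => h • x) p.1)
    rw [Sym2.map_map]
    congr 1)

/-- the pair of a vector -/
def pairOf (x : leechLattice) (hx : sqNorm (x : GolayPt → ℤ) = 32) : ↥PairSet :=
  ⟨s(x, -x), x, hx, rfl⟩

theorem exists_pairOf (p : ↥PairSet) : ∃ x hx, p = pairOf x hx := by
  obtain ⟨x, hx, e⟩ := p.2
  exact ⟨x, hx, Subtype.ext e⟩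

theorem smul_pairOf (g : Co0) (x : leechLattice) (hx : sqNorm (x : GolayPt → ℤ) = 32) :
    g • pairOf x hx = pairOf (g • x) (by rw [smul_norm]; exact hx) := by
  apply Subtype.ext
  show Sym2.map (fun x => g • x) s(x, -x) = s(g • x, -(g • x))
  rw [Sym2.map_mk, smul_neg_l]

theorem pairOf_eq_iff (x y : leechLattice) (hx : sqNorm (x : GolayPt → ℤ) = 32)
    (hy : sqNorm (y : GolayPt → ℤ) = 32) : pairOf x hx = pairOf y hy ↔ x = y ∨ x = -y := by
  constructor
  · intro h
    have h1 : s(x, -x) = s(y, -y) := congrArg Subtype.val h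
    rcases Sym2.eq_iff.mp h1 with ⟨a, _⟩ | ⟨a, _⟩
    · exact Or.inl a
    · exact Or.inr a
  · rintro (rfl | rfl)
    · rfl
    · apply Subtype.ext
      show s(-y, - -y) = s(y, -y)
      rw [neg_neg]
      exact Sym2.eq_swap

theorem pairOf_neg (x : leechLattice) (hx : sqNorm (x : GolayPt → ℤ) = 32) :
    pairOf (-x) (by show sqNorm (-(x : GolayPt → ℤ)) = 32; rw [sqNorm_neg]; exact hx)
      = pairOf x hx :=
  (pairOf_eq_iff _ _ _ _).mpr (Or.inr rfl)

/-! ### The centre -/

theorem center_cases (z : Co0) (hz : z ∈ Subgroup.center Co0) :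
    z = 1 ∨ z = Cfsg.Agent.S0398.negC := by
  have hz' := Subgroup.mem_center_iff.mp hz
  rcases Cfsg.Agent.S0398.central_cases z.1 z.2 (fun g hg => by
    have := hz' ⟨g, hg⟩
    exact (congrArg Subtype.val this).symm) with h | h
  · left
    exact Subtype.ext h
  · right
    exact Subtype.ext h

theorem negC_smul (x : leechLattice) : Cfsg.Agent.S0398.negC • x = -x := rfl

theorem center_smul (z : Co0) (hz : z ∈ Subgroup.center Co0) (p : ↥PairSet) : z • p = p := by
  obtain ⟨x, hx, rfl⟩ := exists_pairOf p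
  rcases center_cases z hz with rfl | rfl
  · exact one_smul _ _
  · rw [smul_pairOf]
    exact (pairOf_eq_iff _ _ _ _).mpr (Or.inr (negC_smul x))

/-- the action on pairs as a homomorphism, on the quotient by the centre -/
def rhoBar : Co0 ⧸ Subgroup.center Co0 →* Equiv.Perm ↥PairSet :=
  QuotientGroup.lift (Subgroup.center Co0) (MulAction.toPermHom Co0 ↥PairSet) (by
    intro z hz
    rw [MonoidHom.mem_ker]
    apply Equiv.ext
    intro p
    exact center_smul z hz p)

/-- the action of the quotient on pairs -/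
instance quotAct : MulAction (Co0 ⧸ Subgroup.center Co0) ↥PairSet := MulAction.compHom _ rhoBar

theorem mk_smul' (g : Co0) (p : ↥PairSet) :
    ((g : Co0 ⧸ Subgroup.center Co0)) • p = g • p := rfl

/-! ### Finiteness and transitivity -/

theorem min_finite : {x : leechLattice | sqNorm (x : GolayPt → ℤ) = 32}.Finite := by
  apply Set.finite_of_ncard_ne_zero
  rw [ncard_val (fun w => sqNorm w = 32), Cfsg.Agent.S0394.result]
  norm_num

theorem pair_finite : Finite ↥PairSet := by
  have h : PairSet ⊆ (fun x : leechLattice => s(x, -x)) ''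
      {x : leechLattice | sqNorm (x : GolayPt → ℤ) = 32} := by
    rintro s ⟨x, hx, rfl⟩
    exact ⟨x, hx, rfl⟩
  exact ((min_finite.image _).subset h).to_subtype

theorem pair_trans : IsPretransitive (Co0 ⧸ Subgroup.center Co0) ↥PairSet := by
  refine ⟨fun p p' => ?_⟩
  obtain ⟨x, hx, rfl⟩ := exists_pairOf p
  obtain ⟨y, hy, rfl⟩ := exists_pairOf p'
  obtain ⟨g, hg⟩ := Cfsg.Agent.S0400.result x y hx hy
  refine ⟨(g : Co0 ⧸ Subgroup.center Co0), ?_⟩
  rw [mk_smul', smul_pairOf]
  exact (pairOf_eq_iff _ _ _ _).mpr (Or.inl hg)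

/-! ### Faithfulness -/

/-- the vector `(4, 0, 4, 0, ..., 0)` -/
def ZZ : ℕ := 0x800080008000800080008000800080008000800080008000800080008000800080008000800080008000c0008000c

theorem ZZ_eq : ZZ = mvB 8 := by decide +kernel

theorem valid_ZZ : validB ZZ = true := by decide +kernel

/-- the vector `(4, 0, 4, 0, ..., 0)` of the lattice -/
def zz : leechLattice := ⟨vecB ZZ, (min_vec ZZ_eq (by decide) (by decide)).1⟩

theorem zz_norm : sqNorm (zz : GolayPt → ℤ) = 32 := (min_vec ZZ_eq (by decide) (by decide)).2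

theorem x1_norm : sqNorm (x1 : GolayPt → ℤ) = 32 := (min_vec X1_eq (by decide) (by decide)).2

theorem dot_v0_zz : dotInt (v0 : GolayPt → ℤ) (zz : GolayPt → ℤ) = 16 := by
  show dotInt (vecB V0) (vecB ZZ) = 16
  rw [dot_vecB 16 0 valid_V0 valid_ZZ (by decide +kernel)]
  norm_num

theorem dot_x1_zz : dotInt (x1 : GolayPt → ℤ) (zz : GolayPt → ℤ) = 16 := by
  show dotInt (vecB X1) (vecB ZZ) = 16
  rw [dot_vecB 16 0 valid_X1 valid_ZZ (by decide +kernel)]
  norm_num

theorem dot_v0_x1 : dotInt (v0 : GolayPt → ℤ) (x1 : GolayPt → ℤ) = 0 := by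
  show dotInt (vecB V0) (vecB X1) = 0
  rw [dot_vecB 0 0 valid_V0 valid_X1 (by decide +kernel)]
  norm_num

theorem coe_neg_l (y : leechLattice) :
    ((-y : leechLattice) : GolayPt → ℤ) = -(y : GolayPt → ℤ) := rfl

/-- The signs of an automorphism preserving two vectors up to sign agree when the vectors are
not orthogonal. -/
theorem sign_prop (g : Co0) (x y : leechLattice)
    (hxy : dotInt (x : GolayPt → ℤ) (y : GolayPt → ℤ) ≠ 0) (hy : g • y = y ∨ g • y = -y) :
    (g • x = x → g • y = y) ∧ (g • x = -x → g • y = -y) := by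
  have e := smul_dot g x y
  constructor
  · intro hx
    rcases hy with h | h
    · exact h
    · exfalso
      rw [hx, h, coe_neg_l, dot_neg_right] at e
      apply hxy
      linarith
  · intro hx
    rcases hy with h | h
    · exfalso
      rw [hx, h, coe_neg_l, dot_neg_left] at e
      apply hxy
      linarith
    · exact h

theorem connect (y : leechLattice) (hy : sqNorm (y : GolayPt → ℤ) = 32) :
    ∃ z : leechLattice, sqNorm (z : GolayPt → ℤ) = 32 ∧
      dotInt (v0 : GolayPt → ℤ) (z : GolayPt → ℤ) ≠ 0 ∧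
      dotInt (z : GolayPt → ℤ) (y : GolayPt → ℤ) ≠ 0 := by
  by_cases h : dotInt (v0 : GolayPt → ℤ) (y : GolayPt → ℤ) = 0
  · obtain ⟨g, h1, h2⟩ := Cfsg.Agent.S1576.result v0 x1 y v0_norm x1_norm hy dot_v0_x1 h
    refine ⟨g • zz, by rw [smul_norm]; exact zz_norm, ?_, ?_⟩
    · have e := smul_dot g v0 zz
      rw [h1] at e
      rw [e, dot_v0_zz]
      norm_num
    · have e := smul_dot g zz x1
      rw [dot_comm (zz : GolayPt → ℤ), dot_x1_zz] at e
      rcases h2 with h2 | h2
      · rw [h2] at e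
        rw [e]
        norm_num
      · rw [h2, coe_neg_l, dot_neg_right] at e
        intro h0
        rw [h0] at e
        norm_num at e
  · refine ⟨v0, v0_norm, ?_, h⟩
    rw [← sqNorm_eq_dot, v0_norm]
    norm_num

theorem fix_all (g : Co0)
    (h : ∀ x : leechLattice, sqNorm (x : GolayPt → ℤ) = 32 → g • x = x) : g = 1 := by
  apply eq_one_of_fix CertSpan2.rZ CertSpan2.zeroZ g
  apply fix_rows (conds := []) (by decide) CertSpan2.rZ CertSpan2.kZ 0 CertSpan2.rowsZ g
  · intro i hi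
    exact absurd hi (Nat.not_lt_zero i)
  · intro x hx
    exact h x hx.2.1

theorem pair_faithful (g : Co0) (h : ∀ p : ↥PairSet, g • p = p) :
    g ∈ Subgroup.center Co0 := by
  have hpm : ∀ x : leechLattice, sqNorm (x : GolayPt → ℤ) = 32 → g • x = x ∨ g • x = -x := by
    intro x hx
    have := h (pairOf x hx)
    rw [smul_pairOf] at this
    exact (pairOf_eq_iff _ _ _ _).mp this
  rcases hpm v0 v0_norm with h0 | h0
  · have e : g = 1 := by
      apply fix_all
      intro y hy
      obtain ⟨z, hz, hz1, hz2⟩ := connect y hy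
      have h1 := (sign_prop g v0 z hz1 (hpm z hz)).1 h0
      exact (sign_prop g z y hz2 (hpm y hy)).1 h1
    rw [e]
    exact Subgroup.one_mem _
  · have e : Cfsg.Agent.S0398.negC * g = 1 := by
      apply fix_all
      intro y hy
      obtain ⟨z, hz, hz1, hz2⟩ := connect y hy
      have h1 := (sign_prop g v0 z hz1 (hpm z hz)).2 h0
      have h2 := (sign_prop g z y hz2 (hpm y hy)).2 h1
      rw [mul_smul, h2, negC_smul, neg_neg]
    have e2 : g = Cfsg.Agent.S0398.negC⁻¹ := eq_inv_of_mul_eq_one_right e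
    rw [e2]
    exact Subgroup.inv_mem _ Cfsg.Agent.S0398.negC_central

theorem pair_faith : FaithfulSMul (Co0 ⧸ Subgroup.center Co0) ↥PairSet := by
  refine ⟨fun {a b} hab => ?_⟩
  obtain ⟨g, rfl⟩ := QuotientGroup.mk_surjective a
  obtain ⟨g', rfl⟩ := QuotientGroup.mk_surjective b
  have hc : g⁻¹ * g' ∈ Subgroup.center Co0 := by
    apply pair_faithful
    intro p
    have := hab p
    rw [mk_smul', mk_smul'] at this
    rw [mul_smul, ← this, inv_smul_smul]
  exact QuotientGroup.eq.mpr hc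

/-! ### The stabiliser of a pair -/

/-- the base pair -/
def p0 : ↥PairSet := pairOf v0 v0_norm

theorem stab_iff (g : Co0) :
    (g : Co0 ⧸ Subgroup.center Co0) ∈ stabilizer (Co0 ⧸ Subgroup.center Co0) p0 ↔
      g • v0 = v0 ∨ g • v0 = -v0 := by
  rw [mem_stabilizer_iff, mk_smul']
  show g • pairOf v0 v0_norm = pairOf v0 v0_norm ↔ _
  rw [smul_pairOf]
  exact pairOf_eq_iff _ _ _ _

/-- the stabiliser of the vector maps onto the stabiliser of the pair -/
def stabHom : ↥(stabilizer Co0 v0) →* ↥(stabilizer (Co0 ⧸ Subgroup.center Co0) p0) where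
  toFun g := ⟨(g.1 : Co0 ⧸ Subgroup.center Co0),
    (stab_iff g.1).mpr (Or.inl (mem_stabilizer_iff.mp g.2))⟩
  map_one' := rfl
  map_mul' _ _ := rfl

theorem stabHom_bij : Function.Bijective stabHom := by
  constructor
  · rw [injective_iff_map_eq_one]
    intro g hg
    have h1 : (g.1 : Co0 ⧸ Subgroup.center Co0) = 1 := congrArg Subtype.val hg
    rw [QuotientGroup.eq_one_iff] at h1
    rcases center_cases g.1 h1 with h | h
    · exact Subtype.ext h
    · exfalso
      have h2 : g.1 • v0 = v0 := mem_stabilizer_iff.mp g.2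
      rw [h, negC_smul] at h2
      exact ne_neg_self v0 v0_norm h2.symm
  · rintro ⟨q, hq⟩
    obtain ⟨g, rfl⟩ := QuotientGroup.mk_surjective q
    rcases (stab_iff g).mp hq with h | h
    · exact ⟨⟨g, mem_stabilizer_iff.mpr h⟩, rfl⟩
    · refine ⟨⟨Cfsg.Agent.S0398.negC * g, mem_stabilizer_iff.mpr (by
        rw [mul_smul, h, negC_smul, neg_neg])⟩, ?_⟩
      apply Subtype.ext
      show ((Cfsg.Agent.S0398.negC * g : Co0) : Co0 ⧸ Subgroup.center Co0)
        = (g : Co0 ⧸ Subgroup.center Co0)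
      rw [QuotientGroup.mk_mul,
        (QuotientGroup.eq_one_iff _).mpr Cfsg.Agent.S0398.negC_central, one_mul]

theorem card_co1 : Nat.card (Co0 ⧸ Subgroup.center Co0) = 4157776806543360000 := by
  have h := Subgroup.card_eq_card_quotient_mul_card_subgroup (Subgroup.center Co0)
  rw [Cfsg.Agent.S0397.result, Cfsg.Agent.S0398.result] at h
  exact Nat.eq_of_mul_eq_mul_right (by norm_num : 0 < 2) (h.symm.trans (by norm_num))

/-! ### The orbits of the stabiliser of a pair -/

/-- the pairs with a vector of given inner product with `v0` -/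
def PD (d : ℤ) : Set ↥PairSet :=
  {p | ∃ x : leechLattice, ∃ hx : sqNorm (x : GolayPt → ℤ) = 32,
    dotInt (v0 : GolayPt → ℤ) (x : GolayPt → ℤ) = d ∧ p = pairOf x hx}

theorem val_PD (d : ℤ) : Subtype.val '' PD d = (fun x : leechLattice => s(x, -x)) ''
    {x : leechLattice | sqNorm (x : GolayPt → ℤ) = 32 ∧
      dotInt (v0 : GolayPt → ℤ) (x : GolayPt → ℤ) = d} := by
  ext s
  constructor
  · rintro ⟨p, ⟨x, hx, hd, rfl⟩, rfl⟩
    exact ⟨x, ⟨hx, hd⟩, rfl⟩
  · rintro ⟨x, ⟨hx, hd⟩, rfl⟩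
    exact ⟨pairOf x hx, ⟨x, hx, hd, rfl⟩, rfl⟩

theorem ncard_PD (d : ℤ) : (PD d).ncard = ((fun x : leechLattice => s(x, -x)) ''
    {x : leechLattice | sqNorm (x : GolayPt → ℤ) = 32 ∧
      dotInt (v0 : GolayPt → ℤ) (x : GolayPt → ℤ) = d}).ncard := by
  rw [← val_PD, Set.ncard_image_of_injective _ Subtype.val_injective]

theorem ncard_A (d : ℤ) :
    {x : leechLattice | sqNorm (x : GolayPt → ℤ) = 32 ∧
      dotInt (v0 : GolayPt → ℤ) (x : GolayPt → ℤ) = d}.ncard
    = {w : GolayPt → ℤ | w ∈ leechLattice ∧ sqNorm w = 32 ∧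
      dotInt (v0 : GolayPt → ℤ) w = d}.ncard :=
  ncard_val (fun w => sqNorm w = 32 ∧ dotInt (v0 : GolayPt → ℤ) w = d)

theorem ncard_PD_inj (d : ℤ) (hd : d ≠ 0) : (PD d).ncard
    = {w : GolayPt → ℤ | w ∈ leechLattice ∧ sqNorm w = 32 ∧
      dotInt (v0 : GolayPt → ℤ) w = d}.ncard := by
  rw [ncard_PD, ← ncard_A]
  apply Set.InjOn.ncard_image
  rintro x ⟨hx, hdx⟩ y ⟨hy, hdy⟩ h
  rcases Sym2.eq_iff.mp h with ⟨a, _⟩ | ⟨a, _⟩
  · exact a
  · exfalso
    rw [a, coe_neg_l, dot_neg_right, hdy] at hdx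
    apply hd
    linarith

/-- A set closed under negation has twice as many elements as pairs. -/
theorem ncard_pairs (A : Set leechLattice) (hA : A.Finite) (hneg : ∀ x ∈ A, -x ∈ A)
    (hne : ∀ x ∈ A, x ≠ -x) :
    2 * ((fun x : leechLattice => s(x, -x)) '' A).ncard = A.ncard := by
  classical
  rw [Set.ncard_eq_toFinset_card A hA, Set.ncard_eq_toFinset_card _ (hA.image _)]
  have e : (hA.image (fun x : leechLattice => s(x, -x))).toFinset
      = hA.toFinset.image (fun x => s(x, -x)) := by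
    ext t
    simp
  rw [e, Finset.card_eq_sum_card_fiberwise (f := fun x : leechLattice => s(x, -x))
    (s := hA.toFinset) (t := hA.toFinset.image (fun x => s(x, -x)))
    (fun x hx => Finset.mem_image_of_mem _ hx)]
  rw [Finset.sum_const_nat (m := 2)]
  · ring
  · intro b hb
    obtain ⟨x, hx, rfl⟩ := Finset.mem_image.mp hb
    have hxA : x ∈ A := hA.mem_toFinset.mp hx
    have e2 : hA.toFinset.filter (fun y => s(y, -y) = s(x, -x)) = {x, -x} := by
      ext y
      simp only [Finset.mem_filter, Set.Finite.mem_toFinset, Finset.mem_insert,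
        Finset.mem_singleton]
      constructor
      · rintro ⟨_, h⟩
        rcases Sym2.eq_iff.mp h with ⟨a, _⟩ | ⟨a, _⟩
        · exact Or.inl a
        · exact Or.inr a
      · rintro (rfl | rfl)
        · exact ⟨hxA, rfl⟩
        · refine ⟨hneg x hxA, ?_⟩
          rw [neg_neg]
          exact Sym2.eq_swap
    rw [e2, Finset.card_pair (hne x hxA)]

theorem ncard_PD0 : (PD 0).ncard = 46575 := by
  have h := ncard_pairs {x : leechLattice | sqNorm (x : GolayPt → ℤ) = 32 ∧
      dotInt (v0 : GolayPt → ℤ) (x : GolayPt → ℤ) = 0}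
    (min_finite.subset (fun x hx => hx.1))
    (fun x hx => ⟨by rw [coe_neg_l, sqNorm_neg]; exact hx.1,
      by rw [coe_neg_l, dot_neg_right, hx.2]; norm_num⟩)
    (fun x hx => ne_neg_self x hx.1)
  rw [← ncard_PD, ncard_A,
    (Cfsg.Agent.S1573.result (v0 : GolayPt → ℤ) v0.2 v0_norm).2.2] at h
  omega

theorem PD_inv (d : ℤ) : ∀ k ∈ stabilizer (Co0 ⧸ Subgroup.center Co0) p0, ∀ a ∈ PD d,
    k • a ∈ PD d := by
  intro k hk a ha
  obtain ⟨g, rfl⟩ := QuotientGroup.mk_surjective k
  obtain ⟨x, hx, hd, rfl⟩ := ha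
  rw [mk_smul', smul_pairOf]
  rcases (stab_iff g).mp hk with h | h
  · refine ⟨g • x, by rw [smul_norm]; exact hx, ?_, rfl⟩
    rw [stab_dot g h]
    exact hd
  · refine ⟨-(g • x), ?_, ?_, (pairOf_neg _ _).symm⟩
    · rw [coe_neg_l, sqNorm_neg, smul_norm]
      exact hx
    · have e := smul_dot g v0 x
      rw [h, coe_neg_l, dot_neg_left] at e
      rw [coe_neg_l, dot_neg_right, e]
      exact hd

theorem PD_trans (d : ℤ)
    (htr : ∀ x y : leechLattice, sqNorm (x : GolayPt → ℤ) = 32 → sqNorm (y : GolayPt → ℤ) = 32 →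
      dotInt (v0 : GolayPt → ℤ) (x : GolayPt → ℤ) = d →
      dotInt (v0 : GolayPt → ℤ) (y : GolayPt → ℤ) = d →
      ∃ g : Co0, g • v0 = v0 ∧ (g • x = y ∨ g • x = -y)) :
    ∀ a ∈ PD d, ∀ b ∈ PD d, ∃ k ∈ stabilizer (Co0 ⧸ Subgroup.center Co0) p0, k • a = b := by
  rintro a ⟨x, hx, hdx, rfl⟩ b ⟨y, hy, hdy, rfl⟩
  obtain ⟨g, h1, h2⟩ := htr x y hx hy hdx hdy
  refine ⟨(g : Co0 ⧸ Subgroup.center Co0), (stab_iff g).mpr (Or.inl h1), ?_⟩
  rw [mk_smul', smul_pairOf]
  exact (pairOf_eq_iff _ _ _ _).mpr h2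

theorem PD_cover (p : ↥PairSet) : p = p0 ∨ p ∈ PD (-16) ∨ p ∈ PD (-8) ∨ p ∈ PD 0 := by
  obtain ⟨x, hx, rfl⟩ := exists_pairOf p
  have hnx : sqNorm ((-x : leechLattice) : GolayPt → ℤ) = 32 := by
    rw [coe_neg_l, sqNorm_neg]
    exact hx
  rcases dot_cases v0 x v0_norm hx with h | h | h | h | h | h | h
  · left
    subst h
    rfl
  · left
    exact (pairOf_eq_iff _ _ _ _).mpr (Or.inr h)
  · right
    left
    exact ⟨x, hx, h, rfl⟩
  · right
    right
    left
    exact ⟨x, hx, h, rfl⟩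
  · right
    right
    right
    exact ⟨x, hx, h, rfl⟩
  · right
    right
    left
    exact ⟨-x, hnx, by rw [coe_neg_l, dot_neg_right, h], (pairOf_neg x hx).symm⟩
  · right
    left
    exact ⟨-x, hnx, by rw [coe_neg_l, dot_neg_right, h], (pairOf_neg x hx).symm⟩

theorem co1_div : ∀ m ∈ (sums [4600, 47104, 46575]).map (· + 1),
    m = 1 ∨ m = 98280 ∨ ¬ m ∣ 98280 := by decide +kernel

theorem co1_reg : ∀ a ∈ (sums [4600, 47104, 46575]).map (· + 1),
    ∀ b ∈ (sums [4600, 47104, 46575]).map (· + 1),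
    13 ∣ a → 13 - 1 ∣ a - 1 → 2 ∣ b → 2 - 1 ∣ b - 1 → 98280 + 1 < a + b := by decide +kernel

/-- The quotient by the centre is simple, given that the stabiliser of `v0` is. -/
theorem co1_simple (hco2 : IsSimpleGroup ↥(stabilizer Co0 v0)) :
    IsSimpleGroup (Co0 ⧸ Subgroup.center Co0) := by
  have := co0_finite
  have := pair_finite
  have := pair_faith
  have := pair_trans
  have hs : IsSimpleGroup ↥(stabilizer (Co0 ⧸ Subgroup.center Co0) p0) := by
    have := hco2
    exact (MulEquiv.ofBijective stabHom stabHom_bij).symm.isSimpleGroup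
  have hcΩ : Nat.card ↥PairSet = 98280 := by
    have h1 : (stabilizer (Co0 ⧸ Subgroup.center Co0) p0).index = Nat.card ↥PairSet :=
      index_stabilizer_of_transitive _ p0
    have h2 := Subgroup.card_mul_index (stabilizer (Co0 ⧸ Subgroup.center Co0) p0)
    rw [h1, card_co1, ← Nat.card_congr (MulEquiv.ofBijective stabHom stabHom_bij).toEquiv,
      card_co2] at h2
    exact Nat.eq_of_mul_eq_mul_left (by norm_num : 0 < 42305421312000) (h2.trans (by norm_num))
  refine SimpleCrit2.simple_of_suborbits p0 ((sums [4600, 47104, 46575]).map (· + 1)) hs ?_ ?_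
    13 2 (by norm_num) (by norm_num) (by norm_num) ?_ ?_ ?_
  · intro T hωT hTinv
    refine horb_of_suborbits (stabilizer (Co0 ⧸ Subgroup.center Co0) p0) Set.univ
      Set.finite_univ p0 (fun k hk => mem_stabilizer_iff.mp hk)
      [(PD (-16), 4600), (PD (-8), 47104), (PD 0, 46575)] ?_ ?_ T (Set.subset_univ T) hωT hTinv
    · intro O hO
      simp only [List.mem_cons, List.not_mem_nil, or_false] at hO
      rcases hO with rfl | rfl | rfl
      · refine ⟨?_, PD_inv (-16), PD_trans (-16) ?_⟩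
        · exact (ncard_PD_inj (-16) (by norm_num)).trans
            (Cfsg.Agent.S1573.result (v0 : GolayPt → ℤ) v0.2 v0_norm).1
        · intro x y hx hy hdx hdy
          obtain ⟨g, h1, h2⟩ := Cfsg.Agent.S1574.result v0 x y v0_norm hx hy hdx hdy
          exact ⟨g, h1, Or.inl h2⟩
      · refine ⟨?_, PD_inv (-8), PD_trans (-8) ?_⟩
        · exact (ncard_PD_inj (-8) (by norm_num)).trans
            (Cfsg.Agent.S1573.result (v0 : GolayPt → ℤ) v0.2 v0_norm).2.1
        · intro x y hx hy hdx hdy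
          obtain ⟨g, h1, h2⟩ := Cfsg.Agent.S1575.result v0 x y v0_norm hx hy hdx hdy
          exact ⟨g, h1, Or.inl h2⟩
      · refine ⟨ncard_PD0, PD_inv 0, PD_trans 0 ?_⟩
        intro x y hx hy hdx hdy
        exact Cfsg.Agent.S1576.result v0 x y v0_norm hx hy hdx hdy
    · intro s _
      rcases PD_cover s with h | h | h | h
      · exact Or.inl h
      · exact Or.inr ⟨(PD (-16), 4600), by simp, h⟩
      · exact Or.inr ⟨(PD (-8), 47104), by simp, h⟩
      · exact Or.inr ⟨(PD 0, 46575), by simp, h⟩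
  · rw [hcΩ]
    exact co1_div
  · rw [hcΩ]
    norm_num
  · rw [hcΩ]
    norm_num
  · rw [hcΩ]
    exact co1_reg

end Cfsg.Agent.Lib.Helper27.SimpCo1
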