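import Mathlib
import Cfsg.Prelude.Def_Sporadic_a
import Cfsg.Agent.Lib.Helper27.SlpLib
import Cfsg.Agent.Lib.Helper27.McLChk
import Cfsg.Agent.Lib.Helper27.SimpCo1

/-!
Kernel tests and their meaning, for the centraliser of an automorphism of order 11 in the whole
automorphism group of the lattice: the vectors of sum of squares 32 fixed by a matrix, found by
running through all of them, and a chain of images of a vector under a product of four
automorphisms, which shows that a power of the product is neither the identity nor the negation.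
-/

set_option autoImplicit false
set_option maxRecDepth 100000

namespace Cfsg.Agent.Lib.Helper27.Co1Chk

open Cfsg Cfsg.Agent.Lib.Helper27.Bits Cfsg.Agent.Lib.Helper27.Pk
open Cfsg.Agent.Lib.Helper27.MinTab Cfsg.Agent.Lib.Helper27.MinEnum Cfsg.Agent.Lib.Helper27.MinFast
open Cfsg.Agent.Lib.Helper27.MinAll Cfsg.Agent.Lib.Helper27.LDot Cfsg.Agent.Lib.Helper27.LMat
open Cfsg.Agent.Lib.Helper27.Spread Cfsg.Agent.Lib.Helper27.Co0Act Cfsg.Agent.Lib.Helper27.LApp
open Cfsg.Agent.Lib.Helper27.OrbCert Cfsg.Agent.Lib.Helper27.Chunk Cfsg.Agent.Lib.Helper27.CoGlue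
open Cfsg.Agent.Lib.Helper27.Invol Cfsg.Agent.Lib.Helper27.SlpLib Cfsg.Agent.Lib.Helper27.CertBase
open Cfsg.Agent.Lib.Helper27.McLChk Cfsg.Agent.Lib.Helper27.SimpCo1
open MulAction

/-! ### Fixed vectors among all vectors of sum of squares 32 -/

/-- the matrix maps the vector of code `k` to the vector of code `img k`, another code unless
`k` passes the test `ok` -/
noncomputable def fixRowK (M Cv : ℕ) (img : ℕ → ℕ) (ok : ℕ → Bool) (k : ℕ) : Bool :=
  !(validKF k) || (Nat.blt (img k) KTOT && validKF (img k) &&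
    (!(Nat.beq (img k) k) || ok k) && appOK M Cv (mvS k) (mvB (img k)))

/-- A vector of sum of squares 32 fixed by the matrix has a code passing the test. -/
theorem fix_specK {M Cv : ℕ} (hM : matChk M Cv = true) (img : ℕ → ℕ) (ok : ℕ → Bool)
    (hmv : allB KTOT (fixRowK M Cv img ok) = true) :
    ∀ z : GolayPt → ℤ, z ∈ leechLattice → sqNorm z = 32 → matAct M z = z →
      ∃ c, c < KTOT ∧ validK c = true ∧ ok c = true ∧ z = vecL (laneRef c) := by
  intro z hz hn hfix
  obtain ⟨k, hk, hvk, rfl⟩ := mv_complete hz hn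
  have h := (allB_iff _ _).mp hmv k hk
  unfold fixRowK at h
  rw [Bool.or_eq_true] at h
  rcases h with h | h
  · rw [validKF_eq, hvk] at h
    simp at h
  · rw [Bool.and_eq_true, Bool.and_eq_true, Bool.and_eq_true] at h
    obtain ⟨⟨⟨h1, h2⟩, h3⟩, h4⟩ := h
    obtain ⟨hm1, hm2, hm3⟩ := matChk_sound hM
    rw [hm3] at h4
    have hp : img k < KTOT := Nat.blt_eq.mp h1
    have hvp : validK (img k) = true := by
      rw [← validKF_eq]
      exact h2
    have hact := app_mv hm2 hk hvk hp hvp h4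
    rw [hact] at hfix
    have e := mv_inj hp hvp hk hvk hfix
    rw [e] at h3
    rw [Bool.or_eq_true] at h3
    rcases h3 with h3 | h3
    · simp at h3
    · exact ⟨k, hk, hvk, h3, rfl⟩

/-! ### Chains of images under a product of four automorphisms -/

/-- the four matrices map the vector of code `a` to those of codes `b`, `c`, `d`, `e` in turn -/
noncomputable def step4 (A B C D : ℕ × ℕ) (a b c d e : ℕ) : Bool :=
  (Nat.blt a KTOT && validKF a) && (Nat.blt b KTOT && validKF b) && (Nat.blt c KTOT && validKF c) &&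
    (Nat.blt d KTOT && validKF d) && (Nat.blt e KTOT && validKF e) &&
    appOK D.1 D.2 (mvS a) (mvB b) && appOK C.1 C.2 (mvS b) (mvB c) &&
    appOK B.1 B.2 (mvS c) (mvB d) && appOK A.1 A.2 (mvS d) (mvB e)

/-- the vectors of codes `a` and `b` are opposite -/
noncomputable def negK (a b : ℕ) : Bool :=
  allB 24 (fun i => Nat.beq (Nat.add (lanesB (mvB a) i) (lanesB (mvB b) i)) 16)

/-- the chain of `n` steps comes back neither to its first vector nor to the opposite one -/
noncomputable def chain4OK (A B C D : ℕ × ℕ) (n P : ℕ) : Bool :=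
  allB n (fun i => step4 A B C D (chF P (Nat.mul 4 i)) (chF P (Nat.add (Nat.mul 4 i) 1))
      (chF P (Nat.add (Nat.mul 4 i) 2)) (chF P (Nat.add (Nat.mul 4 i) 3))
      (chF P (Nat.add (Nat.mul 4 i) 4))) &&
    !(Nat.beq (chF P (Nat.mul 4 n)) (chF P 0)) && !(negK (chF P 0) (chF P (Nat.mul 4 n)))

theorem negK_of_neg {a b : ℕ} (ha : a < KTOT) (hva : validK a = true) (hb : b < KTOT)
    (hvb : validK b = true) (h : vecL (laneRef b) = -vecL (laneRef a)) : negK a b = true := by
  unfold negK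
  rw [allB_iff]
  intro i hi
  have h1 : vecB (mvB a) = vecL (laneRef a) := vecB_mv rfl ha hva
  have h2 : vecB (mvB b) = vecL (laneRef b) := vecB_mv rfl hb hvb
  rw [← h1, ← h2] at h
  have h3 := congrFun h (pt i)
  have h4 : ((lanesB (mvB b) (idx (pt i)) : ℤ) - 8) = -((lanesB (mvB a) (idx (pt i)) : ℤ) - 8) := h3
  rw [idx_pt i hi] at h4
  have h5 : lanesB (mvB a) i + lanesB (mvB b) i = 16 := by omega
  show Nat.beq (lanesB (mvB a) i + lanesB (mvB b) i) 16 = true
  rw [h5]
  rfl

theorem step4_spec {A B C D : ℕ × ℕ} (hA : matChk A.1 A.2 = true) (hB : matChk B.1 B.2 = true)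
    (hC : matChk C.1 C.2 = true) (hD : matChk D.1 D.2 = true) {a b c d e : ℕ}
    (h : step4 A B C D a b c d e = true)
    (v : leechLattice) (hv : (v : GolayPt → ℤ) = vecL (laneRef a)) :
    (((elt A hA * (elt B hB * (elt C hC * elt D hD))) • v : leechLattice) : GolayPt → ℤ)
        = vecL (laneRef e) ∧
      (a < KTOT ∧ validK a = true) ∧ (e < KTOT ∧ validK e = true) := by
  unfold step4 at h
  simp only [Bool.and_eq_true] at h
  obtain ⟨⟨⟨⟨⟨⟨⟨⟨⟨a1, a2⟩, b1, b2⟩, c1, c2⟩, d1, d2⟩, e1, e2⟩, hD'⟩, hC'⟩, hB'⟩, hA'⟩ := h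
  rw [validKF_eq] at a2 b2 c2 d2 e2
  have a1' := Nat.blt_eq.mp a1
  have b1' := Nat.blt_eq.mp b1
  have c1' := Nat.blt_eq.mp c1
  have d1' := Nat.blt_eq.mp d1
  have e1' := Nat.blt_eq.mp e1
  obtain ⟨-, hmA, hcA⟩ := matChk_sound hA
  obtain ⟨-, hmB, hcB⟩ := matChk_sound hB
  obtain ⟨-, hmC, hcC⟩ := matChk_sound hC
  obtain ⟨-, hmD, hcD⟩ := matChk_sound hD
  rw [hcA] at hA'
  rw [hcB] at hB'
  rw [hcC] at hC'
  rw [hcD] at hD'
  refine ⟨?_, ⟨a1', a2⟩, ⟨e1', e2⟩⟩
  rw [mul_smul, mul_smul, mul_smul, elt_val, elt_val, elt_val, elt_val, hv,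
    app_mv hmD a1' a2 b1' b2 hD', app_mv hmC b1' b2 c1' c2 hC', app_mv hmB c1' c2 d1' d2 hB',
    app_mv hmA d1' d2 e1' e2 hA']

/-- A power of a product of four automorphisms is not in the centre, from a chain of images. -/
theorem pow_not_center_of_chain4 {A B C D : ℕ × ℕ} (hA : matChk A.1 A.2 = true)
    (hB : matChk B.1 B.2 = true) (hC : matChk C.1 C.2 = true) (hD : matChk D.1 D.2 = true)
    (n P : ℕ) (hn : 0 < n) (h : chain4OK A B C D n P = true) :
    (elt A hA * (elt B hB * (elt C hC * elt D hD))) ^ n ∉ Subgroup.center Co0 := by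
  obtain ⟨m, rfl⟩ : ∃ m, n = m + 1 := ⟨n - 1, by omega⟩
  unfold chain4OK at h
  rw [Bool.and_eq_true, Bool.and_eq_true] at h
  obtain ⟨⟨hs, hne⟩, hng⟩ := h
  have hstep := (allB_iff _ _).mp hs
  have h0 := step4_spec hA hB hC hD (hstep 0 hn)
  have hm := step4_spec hA hB hC hD (hstep m (Nat.lt_succ_self m))
  have ha0 : chF P 0 < KTOT ∧ validK (chF P 0) = true := by
    have hmem0 : vecL (laneRef (chF P (Nat.mul 4 0))) ∈ leechLattice := by
      have := hstep 0 hn
      unfold step4 at this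
      simp only [Bool.and_eq_true] at this
      obtain ⟨⟨⟨⟨⟨⟨⟨⟨⟨a1, a2⟩, -⟩, -⟩, -⟩, -⟩, -⟩, -⟩, -⟩, -⟩ := this
      rw [validKF_eq] at a2
      exact (mv_sound (Nat.blt_eq.mp a1) a2).1
    exact (h0 ⟨_, hmem0⟩ rfl).2.1
  have hmem : vecL (laneRef (chF P 0)) ∈ leechLattice := (mv_sound ha0.1 ha0.2).1
  have key : ∀ i, i ≤ m + 1 →
      (((elt A hA * (elt B hB * (elt C hC * elt D hD))) ^ i •
        (⟨_, hmem⟩ : leechLattice) : leechLattice) : GolayPt → ℤ)
        = vecL (laneRef (chF P (Nat.mul 4 i))) := by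
    intro i
    induction i with
    | zero =>
      intro _
      rw [pow_zero, one_smul]
    | succ i ih =>
      intro hi
      have hprev := ih (by omega)
      have hst := hstep i (by omega)
      rw [pow_succ', mul_smul]
      exact (step4_spec hA hB hC hD hst _ hprev).1
  have hdn : chF P (Nat.mul 4 (m + 1)) < KTOT ∧ validK (chF P (Nat.mul 4 (m + 1))) = true := by
    have hmem' := key m (Nat.le_succ m)
    exact (hm _ hmem').2.2
  intro hcen
  have hk := key (m + 1) le_rfl
  rcases center_cases _ hcen with hone | hneg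
  · rw [hone, one_smul] at hk
    have e := mv_inj ha0.1 ha0.2 hdn.1 hdn.2 hk
    rw [← e] at hne
    simp at hne
  · rw [hneg, negC_smul] at hk
    have hk' : vecL (laneRef (chF P (Nat.mul 4 (m + 1)))) = -vecL (laneRef (chF P 0)) := hk.symm
    have := negK_of_neg ha0.1 ha0.2 hdn.1 hdn.2 hk'
    rw [this] at hng
    simp at hng

end Cfsg.Agent.Lib.Helper27.Co1Chk
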