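import Mathlib
import Cfsg.Prelude.Def_Sporadic_a
import Cfsg.Agent.Lib.Helper27.SimpCo1

/-!
The stabiliser of a pair of opposite vectors of sum of squares 32 is a maximal subgroup of the
quotient of the automorphism group of the lattice by its centre: a subgroup containing it and an
element moving the pair is the whole group.  The same for the automorphism group itself: a
subgroup containing the stabiliser of a vector, the negation and an element moving the vector to
another vector than its opposite is the whole group.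
-/

set_option autoImplicit false
set_option maxRecDepth 100000

namespace Cfsg.Agent.Lib.Helper27.Co1Max

open Cfsg Cfsg.Agent.Lib.Helper27.Bits Cfsg.Agent.Lib.Helper27.Pk
open Cfsg.Agent.Lib.Helper27.MinTab Cfsg.Agent.Lib.Helper27.MinEnum Cfsg.Agent.Lib.Helper27.MinFast
open Cfsg.Agent.Lib.Helper27.MinAll Cfsg.Agent.Lib.Helper27.LDot Cfsg.Agent.Lib.Helper27.LMat
open Cfsg.Agent.Lib.Helper27.Spread Cfsg.Agent.Lib.Helper27.Co0Act Cfsg.Agent.Lib.Helper27.LApp
open Cfsg.Agent.Lib.Helper27.OrbCert Cfsg.Agent.Lib.Helper27.CoGlue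
open Cfsg.Agent.Lib.Helper27.CertBase Cfsg.Agent.Lib.Helper27.CoStd
open Cfsg.Agent.Lib.Helper27.SimpleCrit Cfsg.Agent.Lib.Helper27.Faith
open Cfsg.Agent.Lib.Helper27.SimpGlue Cfsg.Agent.Lib.Helper27.SimpM22
open Cfsg.Agent.Lib.Helper27.SimpMcL Cfsg.Agent.Lib.Helper27.SimpCo1
open MulAction

theorem card_pairs : Nat.card ↥PairSet = 98280 := by
  have := co0_finite
  have := pair_finite
  have := pair_trans
  have h1 : (stabilizer (Co0 ⧸ Subgroup.center Co0) p0).index = Nat.card ↥PairSet :=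
    index_stabilizer_of_transitive _ p0
  have h2 := Subgroup.card_mul_index (stabilizer (Co0 ⧸ Subgroup.center Co0) p0)
  rw [h1, card_co1, ← Nat.card_congr (MulEquiv.ofBijective stabHom stabHom_bij).toEquiv,
    card_co2] at h2
  exact Nat.eq_of_mul_eq_mul_left (by norm_num : 0 < 42305421312000) (h2.trans (by norm_num))

theorem card_stab_p0 :
    Nat.card ↥(stabilizer (Co0 ⧸ Subgroup.center Co0) p0) = 42305421312000 := by
  rw [← Nat.card_congr (MulEquiv.ofBijective stabHom stabHom_bij).toEquiv, card_co2]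

/-- A set of pairs containing the base pair and invariant under its stabiliser. -/
theorem horb_p0 (T : Set ↥PairSet) (hωT : p0 ∈ T)
    (hTinv : ∀ h ∈ stabilizer (Co0 ⧸ Subgroup.center Co0) p0, ∀ s ∈ T, h • s ∈ T) :
    T.ncard ∈ (sums [4600, 47104, 46575]).map (· + 1) := by
  have := co0_finite
  have := pair_finite
  refine horb_of_suborbits (stabilizer (Co0 ⧸ Subgroup.center Co0) p0) Set.univ
    Set.finite_univ p0 (fun k hk => mem_stabilizer_iff.mp hk)
    [(PD (-16), 4600), (PD (-8), 47104), (PD 0, 46575)] ?_ ?_ T (Set.subset_univ T) hωT hTinv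
  · intro O hO
    simp only [List.mem_cons, List.not_mem_nil, or_false] at hO
    rcases hO with rfl | rfl | rfl
    · refine ⟨?_, PD_inv (-16), PD_trans (-16) ?_⟩
      · exact (ncard_PD_inj (-16) (by norm_num)).trans
          (Cfsg.Agent.S1573.result (v0 : GolayPt → ℤ) v0.2 v0_norm).1
      · intro x y hx hy hdx hdy
        obtain ⟨g, h1, h2⟩ := Cfsg.Agent.S1574.result v0 x y v0_norm hx hy hdx hdy
        exact ⟨g, h1, Or.inl h2⟩
    · refine ⟨?_, PD_inv (-8), PD_trans (-8) ?_⟩
      · exact (ncard_PD_inj (-8) (by norm_num)).trans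
          (Cfsg.Agent.S1573.result (v0 : GolayPt → ℤ) v0.2 v0_norm).2.1
      · intro x y hx hy hdx hdy
        obtain ⟨g, h1, h2⟩ := Cfsg.Agent.S1575.result v0 x y v0_norm hx hy hdx hdy
        exact ⟨g, h1, Or.inl h2⟩
    · refine ⟨ncard_PD0, PD_inv 0, PD_trans 0 ?_⟩
      intro x y hx hy hdx hdy
      exact Cfsg.Agent.S1576.result v0 x y v0_norm hx hy hdx hdy
  · intro s _
    rcases PD_cover s with h | h | h | h
    · exact Or.inl h
    · exact Or.inr ⟨(PD (-16), 4600), by simp, h⟩
    · exact Or.inr ⟨(PD (-8), 47104), by simp, h⟩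
    · exact Or.inr ⟨(PD 0, 46575), by simp, h⟩

/-- The stabiliser of the base pair is a maximal subgroup. -/
theorem max_p0 (K : Subgroup (Co0 ⧸ Subgroup.center Co0))
    (hK : stabilizer (Co0 ⧸ Subgroup.center Co0) p0 ≤ K) (k : Co0 ⧸ Subgroup.center Co0)
    (hk : k ∈ K) (hk' : k • p0 ≠ p0) : K = ⊤ := by
  have := co0_finite
  have := pair_finite
  have hp0T : p0 ∈ {p : ↥PairSet | ∃ a ∈ K, a • p0 = p} := ⟨1, K.one_mem, one_smul _ _⟩
  have hkT : k • p0 ∈ {p : ↥PairSet | ∃ a ∈ K, a • p0 = p} := ⟨k, hk, rfl⟩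
  have hmem := horb_p0 {p : ↥PairSet | ∃ a ∈ K, a • p0 = p} hp0T (by
    rintro h hh s ⟨a, ha, rfl⟩
    exact ⟨h * a, K.mul_mem (hK hh) ha, mul_smul _ _ _⟩)
  have hcard := card_stab_mul K p0 {p : ↥PairSet | ∃ a ∈ K, a • p0 = p} hp0T (by
    rintro h hh s ⟨a, ha, rfl⟩
    exact ⟨h * a, K.mul_mem hh ha, mul_smul _ _ _⟩) (fun a ha => ha) _ rfl
  rw [inf_eq_right.mpr hK, card_stab_p0] at hcard
  have hdvd : {p : ↥PairSet | ∃ a ∈ K, a • p0 = p}.ncard ∣ 98280 := by
    have h1 := Subgroup.card_subgroup_dvd_card K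
    rw [← hcard, card_co1] at h1
    have e : (4157776806543360000 : ℕ) = 42305421312000 * 98280 := by norm_num
    rw [e] at h1
    exact Nat.dvd_of_mul_dvd_mul_left (by norm_num) h1
  rcases co1_div _ hmem with h1 | h2 | h3
  · exfalso
    obtain ⟨a, ha⟩ := Set.ncard_eq_one.mp h1
    rw [ha] at hp0T hkT
    exact hk' (hkT.trans hp0T.symm)
  · rw [h2] at hcard
    apply Subgroup.eq_top_of_card_eq
    rw [← hcard, card_co1]
  · exact absurd hdvd h3

end Cfsg.Agent.Lib.Helper27.Co1Max
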