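import Mathlib
import Cfsg.Prelude.Def_Sporadic_a
import Cfsg.Agent.Lib.Helper27.SimpMcL
import Cfsg.Agent.Lib.Helper27.SimpleCrit2
import Cfsg.Agent.Lib.Helper27.CertCo2W
import Cfsg.Agent.Lib.Helper27.CertCo2A
import Cfsg.Agent.Lib.Helper27.CertCo2B
import Cfsg.Agent.Lib.Helper27.CertCo2C
import Cfsg.Agent.Lib.Helper27.CertSpan2

/-!
The simplicity of the stabiliser of `v0` (of order 42305421312000, on 47104 vectors).
-/

set_option autoImplicit false
set_option maxRecDepth 100000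

namespace Cfsg.Agent.Lib.Helper27.SimpCo2

open Cfsg Cfsg.Agent.Lib.Helper27.Bits Cfsg.Agent.Lib.Helper27.Pk
open Cfsg.Agent.Lib.Helper27.MinTab Cfsg.Agent.Lib.Helper27.MinEnum Cfsg.Agent.Lib.Helper27.MinFast
open Cfsg.Agent.Lib.Helper27.MinAll Cfsg.Agent.Lib.Helper27.LDot Cfsg.Agent.Lib.Helper27.LMat
open Cfsg.Agent.Lib.Helper27.Spread Cfsg.Agent.Lib.Helper27.Co0Act Cfsg.Agent.Lib.Helper27.LApp
open Cfsg.Agent.Lib.Helper27.OrbCert Cfsg.Agent.Lib.Helper27.CoGlue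
open Cfsg.Agent.Lib.Helper27.CertBase Cfsg.Agent.Lib.Helper27.CoStd
open Cfsg.Agent.Lib.Helper27.SimpleCrit Cfsg.Agent.Lib.Helper27.Faith
open Cfsg.Agent.Lib.Helper27.SimpGlue Cfsg.Agent.Lib.Helper27.SimpM22
open Cfsg.Agent.Lib.Helper27.SimpMcL
open MulAction

theorem w0_omW : w0 ∈ OmL CertCo2W.cW := by
  show vecB W0 ∈ Om CertCo2W.cW
  rw [vecB_mv W0_eq (by decide) (by decide)]
  exact mem_om CertCo2W.hcW (by decide) (by decide +kernel)

theorem omW_dot {x : leechLattice} (hx : x ∈ OmL CertCo2W.cW) :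
    sqNorm (x : GolayPt → ℤ) = 32 ∧ dotInt (v0 : GolayPt → ℤ) (x : GolayPt → ℤ) = -8 := by
  refine ⟨hx.2.1, ?_⟩
  have := hx.2.2 (V0, 0, 8) (by simp [CertCo2W.cW])
  show dotInt (vecB V0) (x : GolayPt → ℤ) = -8
  rw [this]
  norm_num

theorem co2_inv : ∀ g ∈ stabilizer Co0 v0, ∀ x ∈ OmL CertCo2W.cW, g • x ∈ OmL CertCo2W.cW := by
  intro g hg
  apply omL_inv
  intro c hc
  simp only [CertCo2W.cW, List.mem_singleton] at hc
  subst hc
  exact ⟨v0, rfl, mem_stabilizer_iff.mp hg⟩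

theorem co2_trans : ∀ x ∈ OmL CertCo2W.cW, ∀ y ∈ OmL CertCo2W.cW,
    ∃ g ∈ stabilizer Co0 v0, g • x = y := by
  intro x hx y hy
  obtain ⟨g, h1, h2⟩ := Cfsg.Agent.S1575.result v0 x y v0_norm (omW_dot hx).1 (omW_dot hy).1
    (omW_dot hx).2 (omW_dot hy).2
  exact ⟨g, mem_stabilizer_iff.mpr h1, h2⟩

theorem mcl_inv' (tp tn : ℕ) : ∀ g ∈ stabilizer Co0 v0 ⊓ stabilizer Co0 w0,
    ∀ x ∈ OmL ([(W0, tp, tn)] ++ CertCo2W.cW), g • x ∈ OmL ([(W0, tp, tn)] ++ CertCo2W.cW) := by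
  intro g hg
  obtain ⟨h1, h2⟩ := (mem_mcl g).mp hg
  apply omL_inv
  intro c hc
  simp only [CertCo2W.cW, List.cons_append, List.nil_append, List.mem_cons, List.not_mem_nil,
    or_false] at hc
  rcases hc with rfl | rfl
  · exact ⟨w0, rfl, h2⟩
  · exact ⟨v0, rfl, h1⟩

theorem mcl_trans' {c : List (ℕ × ℕ × ℕ)}
    (htr : ∀ x ∈ Om c, ∀ y ∈ Om c, Rf ([U0, V0, W0].map vecB) x y) :
    ∀ x ∈ OmL c, ∀ y ∈ OmL c, ∃ g ∈ stabilizer Co0 v0 ⊓ stabilizer Co0 w0, g • x = y := by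
  intro x hx y hy
  obtain ⟨g, e, hf⟩ := omL_trans htr x hx y hy
  exact ⟨g, (mem_mcl g).mpr ⟨hf v0 ⟨V0, by simp, rfl⟩, hf w0 ⟨W0, by simp, rfl⟩⟩, e⟩

theorem cover_W (z : GolayPt → ℤ) (hz : z ∈ Om CertCo2W.cW) :
    z = vecB W0 ∨ dotInt (vecB W0) z = -16 ∨ dotInt (vecB W0) z = -8 ∨ dotInt (vecB W0) z = 0 ∨
      dotInt (vecB W0) z = 8 ∨ dotInt (vecB W0) z = 16 := by
  have hq : ∀ k, CertCo2A.qW k = true → k = 99456 ∨
      ∃ v ∈ [((0 : ℕ), (16 : ℕ)), (0, 8), (0, 0), (8, 0), (16, 0)],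
        condOK W0 v.1 v.2 (mvB k) = true := by
    intro k hk
    unfold CertCo2A.qW at hk
    rw [Bool.or_eq_true, Bool.or_eq_true, Bool.or_eq_true, Bool.or_eq_true, Bool.or_eq_true] at hk
    rcases hk with ((((hk | hk) | hk) | hk) | hk) | hk
    · left
      exact Nat.eq_of_beq_eq_true hk
    · right
      exact ⟨(0, 16), by simp, hk⟩
    · right
      exact ⟨(0, 8), by simp, hk⟩
    · right
      exact ⟨(0, 0), by simp, hk⟩
    · right
      exact ⟨(8, 0), by simp, hk⟩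
    · right
      exact ⟨(16, 0), by simp, hk⟩
  rcases cover_of CertCo2W.tabW CertCo2W.hcW W0 99456 CertCo2A.qW
    [(0, 16), (0, 8), (0, 0), (8, 0), (16, 0)] valid_W0 hq CertCo2A.coverW z hz with h | ⟨v, hv, h⟩
  · left
    rw [h, vecB_mv W0_eq (by decide) (by decide)]
  · simp only [List.mem_cons, List.not_mem_nil, or_false] at hv
    rcases hv with rfl | rfl | rfl | rfl | rfl
    · right
      left
      rw [h]
      norm_num
    · right
      right
      left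
      rw [h]
      norm_num
    · right
      right
      right
      left
      rw [h]
      norm_num
    · right
      right
      right
      right
      left
      rw [h]
      norm_num
    · right
      right
      right
      right
      right
      rw [h]
      norm_num

theorem co2_div : ∀ m ∈ (sums [275, 7128, 22275, 15400, 2025]).map (· + 1),
    m = 1 ∨ m = 47104 ∨ ¬ m ∣ 47104 := by decide +kernel

theorem co2_reg : ∀ a ∈ (sums [275, 7128, 22275, 15400, 2025]).map (· + 1),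
    ∀ b ∈ (sums [275, 7128, 22275, 15400, 2025]).map (· + 1),
    23 ∣ a → 23 - 1 ∣ a - 1 → 2 ∣ b → 2 - 1 ∣ b - 1 → 47104 + 1 < a + b := by decide +kernel

/-- The stabiliser of `v0` is simple. -/
theorem co2_simple : IsSimpleGroup ↥(stabilizer Co0 v0) := by
  have := co0_finite
  have hfin : (OmL CertCo2W.cW).Finite := omL_finite CertCo2W.cardW (by norm_num)
  refine SimpleCrit2.simple_sub (stabilizer Co0 v0) (OmL CertCo2W.cW) hfin co2_inv co2_trans
    ?_ w0 w0_omW mcl_simple ((sums [275, 7128, 22275, 15400, 2025]).map (· + 1)) ?_ 47104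
    (by rw [ncard_omL]; exact CertCo2W.cardW) co2_div 23 2 (by norm_num) (by norm_num)
    (by norm_num) (by norm_num) (by norm_num) co2_reg
  · intro g hg hs
    have h1 : g • v0 = v0 := mem_stabilizer_iff.mp hg
    apply eq_one_of_fix CertSpan2.rW CertSpan2.zeroW g
    apply fix_rows CertCo2W.hcW CertSpan2.rW CertSpan2.kW 1 CertSpan2.rowsW g
    · intro i hi
      interval_cases i
      exact ⟨v0, rfl, h1⟩
    · exact hs
  · intro T hTS hωT hTinv
    refine horb_of_suborbits (stabilizer Co0 v0 ⊓ stabilizer Co0 w0)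
      (OmL CertCo2W.cW) hfin w0 (fun k hk => ((mem_mcl k).mp hk).2)
      [(OmL CertCo2A.cW1, 275), (OmL CertCo2A.cW2, 7128), (OmL CertCo2B.cW3, 22275),
        (OmL CertCo2C.cW4, 15400), (OmL CertCo2A.cW5, 2025)] ?_ ?_ T hTS hωT hTinv
    · intro O hO
      simp only [List.mem_cons, List.not_mem_nil, or_false] at hO
      rcases hO with rfl | rfl | rfl | rfl | rfl
      · exact ⟨(ncard_omL _).trans CertCo2A.cardW1, mcl_inv' 0 16, mcl_trans' CertCo2A.transW1⟩
      · exact ⟨(ncard_omL _).trans CertCo2A.cardW2, mcl_inv' 0 8, mcl_trans' CertCo2A.transW2⟩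
      · exact ⟨(ncard_omL _).trans CertCo2B.cardW3, mcl_inv' 0 0, mcl_trans' CertCo2B.transW3⟩
      · exact ⟨(ncard_omL _).trans CertCo2C.cardW4, mcl_inv' 8 0, mcl_trans' CertCo2C.transW4⟩
      · exact ⟨(ncard_omL _).trans CertCo2A.cardW5, mcl_inv' 16 0, mcl_trans' CertCo2A.transW5⟩
    · intro s hs
      rcases cover_W _ hs with h | h | h | h | h | h
      · left
        exact Subtype.ext h
      · right
        exact ⟨(OmL CertCo2A.cW1, 275), by simp,
          (omL_cons W0 0 16 CertCo2W.cW s).mpr ⟨hs, by rw [h]; norm_num⟩⟩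
      · right
        exact ⟨(OmL CertCo2A.cW2, 7128), by simp,
          (omL_cons W0 0 8 CertCo2W.cW s).mpr ⟨hs, by rw [h]; norm_num⟩⟩
      · right
        exact ⟨(OmL CertCo2B.cW3, 22275), by simp,
          (omL_cons W0 0 0 CertCo2W.cW s).mpr ⟨hs, by rw [h]; norm_num⟩⟩
      · right
        exact ⟨(OmL CertCo2C.cW4, 15400), by simp,
          (omL_cons W0 8 0 CertCo2W.cW s).mpr ⟨hs, by rw [h]; norm_num⟩⟩
      · right
        exact ⟨(OmL CertCo2A.cW5, 2025), by simp,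
          (omL_cons W0 16 0 CertCo2W.cW s).mpr ⟨hs, by rw [h]; norm_num⟩⟩

end Cfsg.Agent.Lib.Helper27.SimpCo2
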