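import Mathlib
import Cfsg.Prelude.Def_Sporadic_a
import Cfsg.Agent.Lib.Helper27.Co2OrbA
import Cfsg.Agent.Lib.Helper27.Co2OrbC
import Cfsg.Agent.Lib.Helper27.Co2Cent
import Cfsg.Agent.Lib.Helper27.Co3Gen
import Cfsg.Agent.Lib.Helper27.AutSyl
import Cfsg.Agent.S0402

/-!
The stabiliser of `w1 = (1, -3, 1, ..., 1)` is generated by the three automorphisms `e0`, `e1`,
`e2`: a subgroup containing them has index at most 12 in the stabiliser, which is simple of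
order divisible by 23.
-/

set_option autoImplicit false
set_option maxRecDepth 100000

namespace Cfsg.Agent.Lib.Helper27.Co2Gen

open Cfsg Cfsg.Agent.Lib.Helper27.Bits Cfsg.Agent.Lib.Helper27.Pk
open Cfsg.Agent.Lib.Helper27.MinTab Cfsg.Agent.Lib.Helper27.MinEnum Cfsg.Agent.Lib.Helper27.MinFast
open Cfsg.Agent.Lib.Helper27.MinAll Cfsg.Agent.Lib.Helper27.LDot Cfsg.Agent.Lib.Helper27.LMat
open Cfsg.Agent.Lib.Helper27.Spread Cfsg.Agent.Lib.Helper27.Co0Act Cfsg.Agent.Lib.Helper27.LApp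
open Cfsg.Agent.Lib.Helper27.OrbCert Cfsg.Agent.Lib.Helper27.Chunk Cfsg.Agent.Lib.Helper27.CoGlue
open Cfsg.Agent.Lib.Helper27.Invol Cfsg.Agent.Lib.Helper27.SlpLib Cfsg.Agent.Lib.Helper27.CertBase
open Cfsg.Agent.Lib.Helper27.Co2Base Cfsg.Agent.Lib.Helper27.Co2Slp1
open Cfsg.Agent.Lib.Helper27.Co2Cent
open Cfsg.Agent.Lib.Helper27.CoStd Cfsg.Agent.Lib.Helper27.SimpGlue
open Cfsg.Agent.Lib.Helper27.SimpleCrit
open Cfsg.Agent.Lib.Helper27.SimpM22 Cfsg.Agent.Lib.Helper27.SimpHS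
open MulAction

theorem w1_simple : IsSimpleGroup ↥(stabilizer Co0 w1) := (Cfsg.Agent.S0402.result w1 w1_norm).1

theorem w1_card : Nat.card ↥(stabilizer Co0 w1) = 42305421312000 :=
  (Cfsg.Agent.S0402.result w1 w1_norm).2

theorem y1_omB : (y1 : GolayPt → ℤ) ∈ Om Co2OrbA.cB := by
  have h := mem_om Co2OrbA.hcB (k := 99458) (by decide) (by decide +kernel)
  rw [← vecB_mv CertL34.Y1_eq (by decide) (by decide)] at h
  exact h

theorem y0_omC : (y0 : GolayPt → ℤ) ∈ Om Co2OrbC.cC := by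
  have h := mem_om Co2OrbC.hcC (k := 4) (by decide) (by decide +kernel)
  rw [← vecB_mv Y0_eq (by decide) (by decide)] at h
  exact h

theorem invA (g : Co0) (h1 : g • w1 = w1) : ∀ x ∈ OmL Co2OrbA.cA, g • x ∈ OmL Co2OrbA.cA := by
  apply omL_inv
  intro c hc
  simp only [Co2OrbA.cA, List.mem_cons, List.not_mem_nil, or_false] at hc
  rw [hc]
  exact ⟨w1, rfl, h1⟩

theorem invB (g : Co0) (h1 : g • w1 = w1) (h2 : g • x1 = x1) :
    ∀ x ∈ OmL Co2OrbA.cB, g • x ∈ OmL Co2OrbA.cB := by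
  apply omL_inv
  intro c hc
  simp only [Co2OrbA.cB, Co2OrbA.eB, Co2OrbA.cA, List.cons_append, List.nil_append, List.mem_cons,
    List.not_mem_nil, or_false] at hc
  rcases hc with rfl | rfl
  · exact ⟨x1, rfl, h2⟩
  · exact ⟨w1, rfl, h1⟩

theorem invC (g : Co0) (h1 : g • w1 = w1) (h2 : g • x1 = x1) (h3 : g • y1 = y1) :
    ∀ x ∈ OmL Co2OrbC.cC, g • x ∈ OmL Co2OrbC.cC := by
  apply omL_inv
  intro c hc
  simp only [Co2OrbC.cC, Co2OrbC.eC, Co2TabW.cW8, List.cons_append, List.nil_append,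
    List.mem_cons, List.not_mem_nil, or_false] at hc
  rcases hc with rfl | rfl | rfl
  · exact ⟨x1, rfl, h2⟩
  · exact ⟨y1, rfl, h3⟩
  · exact ⟨w1, rfl, h1⟩

/-- A subgroup containing `e0`, `e1`, `e2` contains the stabiliser of `w1`. -/
theorem gen_le2 (K : Subgroup Co0) (h0 : e0 ∈ K) (h1 : e1 ∈ K) (h2 : e2 ∈ K) :
    stabilizer Co0 w1 ≤ K := by
  classical
  have := co0_finite
  have cA := card_stab_mul (K ⊓ stabilizer Co0 w1) x1 (OmL Co2OrbA.cA) x1_omA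
    (fun h hh a ha => invA h (mem_stabilizer_iff.mp hh.2) a ha)
    (fun a ha => by
      obtain ⟨g, hg, e, hf⟩ := transK (Co2OrbA.rfA K h0 h1 h2) x1 a x1_omA ha
      exact ⟨g, ⟨hg, mem_stabilizer_iff.mpr (hf w1 ⟨W1, by simp, rfl⟩)⟩, e⟩)
    4600 (by rw [ncard_omL]; exact Co2OrbA.cardA)
  have cB := card_stab_mul (K ⊓ stabilizer Co0 w1 ⊓ stabilizer Co0 x1) y1 (OmL Co2OrbA.cB) y1_omB
    (fun h hh a ha => invB h (mem_stabilizer_iff.mp hh.1.2) (mem_stabilizer_iff.mp hh.2) a ha)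
    (fun a ha => by
      obtain ⟨g, hg, e, hf⟩ := transK (Co2OrbA.rfB K h0 h1 h2) y1 a y1_omB ha
      exact ⟨g, ⟨⟨hg, mem_stabilizer_iff.mpr (hf w1 ⟨W1, by simp, rfl⟩)⟩,
        mem_stabilizer_iff.mpr (hf x1 ⟨X1, by simp, rfl⟩)⟩, e⟩)
    891 (by rw [ncard_omL]; exact Co2OrbA.cardB)
  have cC := card_stab_mul (K ⊓ stabilizer Co0 w1 ⊓ stabilizer Co0 x1 ⊓ stabilizer Co0 y1) y0
    (OmL Co2OrbC.cC) y0_omC
    (fun h hh a ha => invC h (mem_stabilizer_iff.mp hh.1.1.2) (mem_stabilizer_iff.mp hh.1.2)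
      (mem_stabilizer_iff.mp hh.2) a ha)
    (fun a ha => by
      obtain ⟨g, hg, e, hf⟩ := transK (Co2OrbC.rfC K h0 h1 h2) y0 a y0_omC ha
      exact ⟨g, ⟨⟨⟨hg, mem_stabilizer_iff.mpr (hf w1 ⟨W1, by simp, rfl⟩)⟩,
        mem_stabilizer_iff.mpr (hf x1 ⟨X1, by simp, rfl⟩)⟩,
        mem_stabilizer_iff.mpr (hf y1 ⟨CertL34.Y1, by simp, rfl⟩)⟩, e⟩)
    512 (by rw [ncard_omL]; exact Co2OrbC.cardC)
  have cZ := card_stab_mul
    (K ⊓ stabilizer Co0 w1 ⊓ stabilizer Co0 x1 ⊓ stabilizer Co0 y1 ⊓ stabilizer Co0 y0) Co3Gen.z0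
    (OmL Co3OrbB.cZ) Co3Gen.z0_om
    (fun h hh a ha => Co3Gen.z_inv h
      (fix_u0 h (mem_stabilizer_iff.mp hh.1.1.1.2) (mem_stabilizer_iff.mp hh.1.1.2)
        (mem_stabilizer_iff.mp hh.2))
      (mem_stabilizer_iff.mp hh.1.1.2) (mem_stabilizer_iff.mp hh.2)
      (mem_stabilizer_iff.mp hh.1.2) a ha)
    (fun a ha => by
      obtain ⟨g, hg, e, hf⟩ := transK (Co2OrbC.rfZ K h0 h1 h2) Co3Gen.z0 a Co3Gen.z0_om ha
      exact ⟨g, ⟨⟨⟨⟨hg, mem_stabilizer_iff.mpr (hf w1 ⟨W1, by simp, rfl⟩)⟩,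
        mem_stabilizer_iff.mpr (hf x1 ⟨X1, by simp, rfl⟩)⟩,
        mem_stabilizer_iff.mpr (hf y1 ⟨CertL34.Y1, by simp, rfl⟩)⟩,
        mem_stabilizer_iff.mpr (hf y0 ⟨Y0, by simp, rfl⟩)⟩, e⟩)
    1680 (by rw [ncard_omL]; exact Co3OrbB.cardZ)
  have hpos : 0 < Nat.card ↥(K ⊓ stabilizer Co0 w1 ⊓ stabilizer Co0 x1 ⊓ stabilizer Co0 y1 ⊓
      stabilizer Co0 y0 ⊓ stabilizer Co0 Co3Gen.z0) := Nat.card_pos
  have hbig : 3525451776000 ≤ Nat.card ↥(K ⊓ stabilizer Co0 w1) := by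
    rw [← cA, ← cB, ← cC, ← cZ]
    omega
  have hsimple := w1_simple
  have hcardH' : Nat.card ↥((K ⊓ stabilizer Co0 w1).subgroupOf (stabilizer Co0 w1))
      = Nat.card ↥(K ⊓ stabilizer Co0 w1) :=
    Nat.card_congr (Subgroup.subgroupOfEquivOfLe inf_le_right).toEquiv
  have hidx : ((K ⊓ stabilizer Co0 w1).subgroupOf (stabilizer Co0 w1)).index ≤ 12 := by
    have h := ((K ⊓ stabilizer Co0 w1).subgroupOf (stabilizer Co0 w1)).card_mul_index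
    rw [hcardH', w1_card] at h
    by_contra hlt
    push_neg at hlt
    have h13 : 3525451776000 * 13 ≤ Nat.card ↥(K ⊓ stabilizer Co0 w1) *
        ((K ⊓ stabilizer Co0 w1).subgroupOf (stabilizer Co0 w1)).index :=
      Nat.mul_le_mul hbig hlt
    omega
  have htop := Cfsg.Agent.Lib.Helper27.AutSyl.eq_top_of_index_le
    ((K ⊓ stabilizer Co0 w1).subgroupOf (stabilizer Co0 w1)) 23 12 (by norm_num)
    (by rw [w1_card]; norm_num) (by norm_num) hidx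
  intro g hg
  have hm : (⟨g, hg⟩ : ↥(stabilizer Co0 w1)) ∈
      (K ⊓ stabilizer Co0 w1).subgroupOf (stabilizer Co0 w1) := by
    rw [htop]
    trivial
  exact (Subgroup.mem_subgroupOf.mp hm).1

end Cfsg.Agent.Lib.Helper27.Co2Gen
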