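import Mathlib
import Cfsg.Prelude.Def_Sporadic_a
import Cfsg.Prelude.Def_Spor_Conway
import Cfsg.Agent.Lib.Helper27.Co1Cent
import Cfsg.Agent.Lib.Helper27.Co1Max
import Cfsg.Agent.Lib.Helper27.Co2Gen
import Cfsg.Agent.Lib.Helper27.AutSyl2
import Cfsg.Agent.Lib.Helper27.Co3Out
import Cfsg.Agent.S0400

/-!
Every automorphism of the quotient of the automorphism group of the lattice by its centre is
inner.  The quotient is generated by the images of `e0` of order 23, `e1` of order 11 normalising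
it, an involution `e2` inverting `e1` (the three generate the stabiliser of the vector `w1`) and
an element `e4` of order 3 commuting with `e1`.  An automorphism can be changed by an inner one
so that it fixes the image of `e1` and maps the image of `e0` to itself or to its inverse; the
centraliser of the image of `e1` has 66 elements, and relations between the generators pin the
automorphism down.
-/

set_option autoImplicit false
set_option maxRecDepth 100000

namespace Cfsg.Agent.Lib.Helper27.Co1Out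

open Cfsg Cfsg.Agent.Lib.Helper27.Bits Cfsg.Agent.Lib.Helper27.Pk
open Cfsg.Agent.Lib.Helper27.MinTab Cfsg.Agent.Lib.Helper27.MinEnum Cfsg.Agent.Lib.Helper27.MinFast
open Cfsg.Agent.Lib.Helper27.MinAll Cfsg.Agent.Lib.Helper27.LDot Cfsg.Agent.Lib.Helper27.LMat
open Cfsg.Agent.Lib.Helper27.Spread Cfsg.Agent.Lib.Helper27.Co0Act Cfsg.Agent.Lib.Helper27.LApp
open Cfsg.Agent.Lib.Helper27.OrbCert Cfsg.Agent.Lib.Helper27.Chunk Cfsg.Agent.Lib.Helper27.CoGlue
open Cfsg.Agent.Lib.Helper27.Invol Cfsg.Agent.Lib.Helper27.SlpLib Cfsg.Agent.Lib.Helper27.CertBase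
open Cfsg.Agent.Lib.Helper27.Co1Slp1 Cfsg.Agent.Lib.Helper27.Co1Chk
open Cfsg.Agent.Lib.Helper27.Co1Rel Cfsg.Agent.Lib.Helper27.Co1Cent
open Cfsg.Agent.Lib.Helper27.Co1Max
open Cfsg.Agent.Lib.Helper27.CoStd Cfsg.Agent.Lib.Helper27.SimpGlue
open Cfsg.Agent.Lib.Helper27.SimpM22 Cfsg.Agent.Lib.Helper27.SimpCo1
open Cfsg.Agent.Lib.Helper27.AutSyl2
open Cfsg.Agent.S0398 (negC negC_central negC_ne_one)
open MulAction

/-- the quotient of the automorphism group of the lattice by its centre -/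
abbrev Q : Type := Co0 ⧸ Subgroup.center Co0

theorem w1_fix0 : e0 • Co2Cent.w1 = Co2Cent.w1 := Co2Cent.fixes2.1

theorem w1_fix1 : e1 • Co2Cent.w1 = Co2Cent.w1 := Co2Cent.fixes2.2.1

theorem w1_fix2 : e2 • Co2Cent.w1 = Co2Cent.w1 := Co2Cent.fixes2.2.2.1

/-- An automorphism fixing `w1` and different from the identity is not central. -/
theorem not_center_of_fix (g : Co0) (hg : g • Co2Cent.w1 = Co2Cent.w1) (h1 : g ≠ 1) :
    g ∉ Subgroup.center Co0 := by
  intro hc
  rcases center_cases g hc with h | h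
  · exact h1 h
  · rw [h, negC_smul] at hg
    exact ne_neg_self _ Co2Cent.w1_norm hg.symm

/-- The five other automorphisms move `w1` to other vectors than `w1` and its opposite. -/
theorem sE_moves (j : ℕ) (h1 : 1 ≤ j) (hj : j < 6) :
    sE j • Co2Cent.w1 ≠ Co2Cent.w1 ∧ sE j • Co2Cent.w1 ≠ -Co2Cent.w1 := by
  have hv := s_w1 j hj
  have hv0 := imgF_valid 0 (by norm_num)
  have hn0 := negF_valid 0 (by norm_num)
  have hvj := imgF_valid j hj
  constructor
  · intro h
    rw [h, w1_code] at hv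
    have e := mv_inj hv0.1 hv0.2 hvj.1 hvj.2 hv
    interval_cases j <;> exact absurd e (by decide)
  · intro h
    rw [h] at hv
    have hneg : ((-Co2Cent.w1 : leechLattice) : GolayPt → ℤ) = vecL (laneRef (negF 0)) := by
      rw [neg_w1 0 (by norm_num)]
      show -((Co2Cent.w1 : leechLattice) : GolayPt → ℤ) = -vecL (laneRef 99457)
      rw [w1_code]
    rw [hneg] at hv
    have e := mv_inj hn0.1 hn0.2 hvj.1 hvj.2 hv
    interval_cases j <;> exact absurd e (by decide)

theorem sE_not_center (j : ℕ) (h1 : 1 ≤ j) (hj : j < 6) : sE j ∉ Subgroup.center Co0 := by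
  intro hc
  have hm := sE_moves j h1 hj
  rcases center_cases _ hc with h | h
  · apply hm.1
    rw [h, one_smul]
  · apply hm.2
    rw [h, negC_smul]

theorem pow6_of_sq {g : Co0} (h : g * g = 1) : g ^ 6 = 1 := by
  rw [show 6 = 2 * 3 from rfl, pow_mul, pow_two, h, one_pow]

theorem pow3_of_sq {g : Co0} (h : g * g = 1) : g ^ 3 = g := by
  rw [pow_succ, pow_two, h, one_mul]

theorem d_pow3 : e4 ^ 3 = 1 := by
  rw [pow_succ', pow_two]
  exact d_cube

theorem sE_pow6 (j : ℕ) (hj : j < 6) : sE j ^ 6 = 1 := by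
  interval_cases j
  · show elt nI cI ^ 6 = 1
    rw [elt_I, one_pow]
  · show e4 ^ 6 = 1
    rw [show 6 = 3 * 2 from rfl, pow_mul, d_pow3, one_pow]
  · show e17 ^ 6 = 1
    rw [m17, ← pow_two, ← pow_mul, show 2 * 6 = 3 * 4 from rfl, pow_mul, d_pow3, one_pow]
  · exact pow6_of_sq t_sq
  · exact pow6_of_sq td_sq
  · exact pow6_of_sq td2_sq

theorem surv_cases (m j : ℕ) (h : surv m j = true) :
    (m = 0 ∧ j = 0) ∨ ((m = 0 ∨ m = 1 ∨ m = 5 ∨ m = 6 ∨ m = 9) ∧ (j = 1 ∨ j = 3)) := by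
  unfold surv at h
  simp only [Bool.or_eq_true, Bool.and_eq_true] at h
  have key : ∀ a b : ℕ, Nat.beq a b = true → a = b := fun a b => Nat.eq_of_beq_eq_true
  rcases h with ⟨h1, h2⟩ | ⟨h1, h2⟩
  · exact Or.inl ⟨key _ _ h1, key _ _ h2⟩
  · right
    refine ⟨?_, ?_⟩
    · rcases h1 with (((h1 | h1) | h1) | h1) | h1
      · exact Or.inl (key _ _ h1)
      · exact Or.inr (Or.inl (key _ _ h1))
      · exact Or.inr (Or.inr (Or.inl (key _ _ h1)))
      · exact Or.inr (Or.inr (Or.inr (Or.inl (key _ _ h1))))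
      · exact Or.inr (Or.inr (Or.inr (Or.inr (key _ _ h1))))
    · rcases h2 with h2 | h2
      · exact Or.inl (key _ _ h2)
      · exact Or.inr (key _ _ h2)

/-! ### The generators in the quotient -/

theorem ox : orderOf (qm e0) = 23 := by
  have : Fact (Nat.Prime 23) := ⟨by norm_num⟩
  have h : qm e0 ^ 23 = 1 := congrArg qm x_pow
  refine orderOf_eq_prime h ?_
  intro h1
  exact not_center_of_fix e0 w1_fix0 x_ne_one ((qm_eq_one e0).mp h1)

theorem oy : orderOf (qm e1) = 11 := by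
  have : Fact (Nat.Prime 11) := ⟨by norm_num⟩
  have h : qm e1 ^ 11 = 1 := congrArg qm y_pow
  refine orderOf_eq_prime h ?_
  intro h1
  exact not_center_of_fix e1 w1_fix1 y_ne_one ((qm_eq_one e1).mp h1)

theorem relq : qm e1 * qm e0 * (qm e1)⁻¹ = qm e0 ^ 2 := congrArg qm rel_yx

theorem tq_sq : qm e2 * qm e2 = 1 := congrArg qm tau_sq

theorem tyq : qm e2 * qm e1 * (qm e2)⁻¹ = (qm e1)⁻¹ := congrArg qm tau_y

theorem cand_tau (β : MulAut Q) (hy : β (qm e1) = qm e1) :
    ∃ m, m < 11 ∧ ∃ j, j < 6 ∧ β (qm e2) = qm e2 * (qm e1 ^ m * qm (sE j)) := by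
  have hcomm := inverting_coset β (qm e1) (qm e2) hy tyq
  obtain ⟨m, hm, j, hj, e⟩ := cent_co1 _ hcomm
  refine ⟨m, hm, j, hj, ?_⟩
  rw [← e]
  group

/-- An automorphism fixing the image of `e1` and mapping the image of `e0` to itself or its
inverse fixes the images of `e0` and `e2`. -/
theorem beta_tau (β : MulAut Q) (hy : β (qm e1) = qm e1)
    (hx : β (qm e0) = qm e0 ∨ β (qm e0) = (qm e0)⁻¹) :
    β (qm e0) = qm e0 ∧ β (qm e2) = qm e2 := by
  obtain ⟨m, hm, j, hj, ht⟩ := cand_tau β hy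
  have hs : β (qm e2) * β (qm e2) = 1 := by rw [← map_mul, tq_sq, map_one]
  have relAq : (qm e0 * qm e2) ^ 11 = 1 := congrArg qm relA
  have relCq : (qm e0 * qm e0 * qm e2) ^ 15 = 1 := congrArg qm relC
  have relDq : (qm e0 * (qm e1)⁻¹ * qm e2) ^ 16 = 1 := congrArg qm relD
  have hA0 := congrArg β relAq
  rw [map_pow, map_mul, map_one] at hA0
  have hC0 := congrArg β relCq
  rw [map_pow, map_mul, map_mul, map_one] at hC0
  have hD0 := congrArg β relDq
  rw [map_pow, map_mul, map_mul, map_inv, hy, map_one] at hD0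
  have hA : (qm e0 * β (qm e2)) ^ 11 = 1 := by
    rcases hx with hx | hx
    · rw [hx] at hA0
      exact hA0
    · rw [hx] at hA0
      exact inv_mul_pow_eq_one _ _ hs 11 hA0
  have hC : (qm e0 * qm e0 * β (qm e2)) ^ 15 = 1 := by
    rcases hx with hx | hx
    · rw [hx] at hC0
      exact hC0
    · rw [hx, ← mul_inv_rev] at hC0
      exact inv_mul_pow_eq_one _ _ hs 15 hC0
  rw [ht] at hA hC
  have hA' : (e0 * (e2 * (e1 ^ m * sE j))) ^ 11 ∈ Subgroup.center Co0 := (qm_eq_one _).mp hA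
  have hsv := bad11 m j hm hj hA'
  rcases surv_cases m j hsv with ⟨rfl, rfl⟩ | ⟨hm', hj'⟩
  · have ht' : β (qm e2) = qm e2 := by
      rw [ht, pow_zero, one_mul]
      show qm e2 * qm (elt nI cI) = qm e2
      rw [elt_I]
      exact mul_one _
    rcases hx with hx | hx
    · exact ⟨hx, ht'⟩
    · exfalso
      have relBq : ((qm e0)⁻¹ * qm e2 * qm e0 * (qm e1)⁻¹ * qm e2) ^ 11 = 1 := congrArg qm relB
      have h3 := congrArg β relBq
      rw [map_pow, map_mul, map_mul, map_mul, map_mul, map_inv, map_inv, hx, hy, ht', inv_inv,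
        map_one] at h3
      have h4 : (e0 * e2 * e0⁻¹ * e1⁻¹ * e2) ^ 11 ∈ Subgroup.center Co0 := (qm_eq_one _).mp h3
      have s0 : e0 ∈ stabilizer Co0 Co2Cent.w1 := mem_stabilizer_iff.mpr w1_fix0
      have s1 : e1 ∈ stabilizer Co0 Co2Cent.w1 := mem_stabilizer_iff.mpr w1_fix1
      have s2 : e2 ∈ stabilizer Co0 Co2Cent.w1 := mem_stabilizer_iff.mpr w1_fix2
      have hmem : (e0 * e2 * e0⁻¹ * e1⁻¹ * e2) ^ 11 ∈ stabilizer Co0 Co2Cent.w1 :=
        pow_mem (mul_mem (mul_mem (mul_mem (mul_mem s0 s2) (inv_mem s0)) (inv_mem s1)) s2) 11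
      exact not_center_of_fix _ (mem_stabilizer_iff.mp hmem) badB h4
  · exfalso
    by_cases h0 : m = 0
    · subst h0
      rw [ht, pow_zero, one_mul, mul_assoc] at hD0
      rcases hx with hx | hx
      · rw [hx] at hD0
        have h4 : (e0 * (e1⁻¹ * (e2 * sE j))) ^ 16 ∈ Subgroup.center Co0 := (qm_eq_one _).mp hD0
        rcases hj' with rfl | rfl
        · exact bad16_p_1 h4
        · exact bad16_p_3 h4
      · rw [hx] at hD0
        have h4 : (e0⁻¹ * (e1⁻¹ * (e2 * sE j))) ^ 16 ∈ Subgroup.center Co0 :=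
          (qm_eq_one _).mp hD0
        rcases hj' with rfl | rfl
        · exact bad16_m_1 h4
        · exact bad16_m_3 h4
    · have hC' : (e0 * e0 * (e2 * (e1 ^ m * sE j))) ^ 15 ∈ Subgroup.center Co0 :=
        (qm_eq_one _).mp hC
      exact bad15 m j (by omega) hj' hC'

/-- Such an automorphism also fixes the image of `e4`. -/
theorem beta_d (β : MulAut Q) (hx : β (qm e0) = qm e0) (hy : β (qm e1) = qm e1)
    (ht : β (qm e2) = qm e2) : β (qm e4) = qm e4 := by
  have hcd : qm e4 * qm e1 = qm e1 * qm e4 := congrArg qm comm_dy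
  have hc := congrArg β hcd
  rw [map_mul, map_mul, hy] at hc
  obtain ⟨m, hm, j, hj, e⟩ := cent_co1 _ hc
  have h3 : β (qm e4) ^ 3 = 1 := by
    have h : qm e4 ^ 3 = 1 := congrArg qm d_pow3
    rw [← map_pow, h, map_one]
  have h1 : qm (sE j) * qm e1 = qm e1 * qm (sE j) := congrArg qm (sE_comm j hj).eq
  have h1' : Commute (qm (sE j)) (qm e1) := h1
  have hcomm : Commute (qm e1 ^ m) (qm (sE j)) := (h1'.pow_right m).symm
  have h6 : (qm e1 ^ m * qm (sE j)) ^ 6 = 1 := by
    rw [← e, show 6 = 3 * 2 from rfl, pow_mul, h3, one_pow]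
  have hs6 : qm (sE j) ^ 6 = 1 := congrArg qm (sE_pow6 j hj)
  rw [hcomm.mul_pow, hs6, mul_one, ← pow_mul] at h6
  have hdvd : 11 ∣ m * 6 := by
    rw [← oy]
    exact orderOf_dvd_of_pow_eq_one h6
  have hm0 : m = 0 := by omega
  subst hm0
  rw [pow_zero, one_mul] at e
  rw [e] at h3
  have h3' : sE j ^ 3 ∈ Subgroup.center Co0 := (qm_eq_one _).mp h3
  interval_cases j
  · exfalso
    have h2 : β (qm e4) = 1 := by
      rw [e]
      show qm (elt nI cI) = 1
      rw [elt_I]
      rfl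
    have h4 : qm e4 = 1 := (MulEquiv.map_eq_one_iff β).mp h2
    exact sE_not_center 1 le_rfl (by norm_num) ((qm_eq_one e4).mp h4)
  · exact e
  · exfalso
    have relEq : (qm e0 * qm e2 * qm e4) ^ 22 = 1 := congrArg qm relE
    have h4 := congrArg β relEq
    rw [map_pow, map_mul, map_mul, hx, ht, e, map_one] at h4
    have h5 : qm ((e0 * (e2 * (e17 * elt nI cI))) ^ 22) = 1 := by
      rw [elt_I, mul_one, ← mul_assoc]
      exact h4
    exact bad22 ((qm_eq_one _).mp h5)
  · exfalso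
    have h4 : e3 ^ 3 ∈ Subgroup.center Co0 := h3'
    rw [pow3_of_sq t_sq] at h4
    exact sE_not_center 3 (by norm_num) (by norm_num) h4
  · exfalso
    have h4 : e18 ^ 3 ∈ Subgroup.center Co0 := h3'
    rw [pow3_of_sq td_sq] at h4
    exact sE_not_center 4 (by norm_num) (by norm_num) h4
  · exfalso
    have h4 : e19 ^ 3 ∈ Subgroup.center Co0 := h3'
    rw [pow3_of_sq td2_sq] at h4
    exact sE_not_center 5 (by norm_num) (by norm_num) h4

/-! ### Generation -/

/-- A subgroup of the quotient containing the images of `e0`, `e1`, `e2` and `e4` is the whole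
quotient. -/
theorem max_w1 (F : Subgroup Q) (h0 : qm e0 ∈ F) (h1 : qm e1 ∈ F) (h2 : qm e2 ∈ F)
    (h4 : qm e4 ∈ F) : F = ⊤ := by
  obtain ⟨g0, hg0⟩ := Cfsg.Agent.S0400.result Co2Cent.w1 v0 Co2Cent.w1_norm v0_norm
  have hle : stabilizer Co0 Co2Cent.w1 ≤ F.comap (QuotientGroup.mk' (Subgroup.center Co0)) :=
    Co2Gen.gen_le2 (F.comap (QuotientGroup.mk' (Subgroup.center Co0))) h0 h1 h2
  have hw : g0⁻¹ • v0 = Co2Cent.w1 := by rw [← hg0, inv_smul_smul]
  have hstab : stabilizer Q p0 ≤ F.map (MulAut.conj (qm g0)).toMonoidHom := by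
    intro q hq
    obtain ⟨g, rfl⟩ := QuotientGroup.mk_surjective q
    have hq' := (stab_iff g).mp hq
    have hmem : qm (g0⁻¹ * g * g0) ∈ F := by
      rcases hq' with hq' | hq'
      · have hfix : (g0⁻¹ * g * g0) • Co2Cent.w1 = Co2Cent.w1 := by
          rw [mul_smul, mul_smul, hg0, hq', hw]
        exact hle (mem_stabilizer_iff.mpr hfix)
      · have hfix : (g0⁻¹ * (negC * g) * g0) • Co2Cent.w1 = Co2Cent.w1 := by
          rw [mul_smul, mul_smul, mul_smul, hg0, hq', negC_smul, neg_neg, hw]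
        have hm : qm (g0⁻¹ * (negC * g) * g0) ∈ F := hle (mem_stabilizer_iff.mpr hfix)
        have e : qm (g0⁻¹ * (negC * g) * g0) = qm (g0⁻¹ * g * g0) := by
          show qm g0⁻¹ * (qm negC * qm g) * qm g0 = qm g0⁻¹ * qm g * qm g0
          rw [qm_negC, one_mul]
        rw [e] at hm
        exact hm
    refine Subgroup.mem_map.mpr ⟨qm (g0⁻¹ * g * g0), hmem, ?_⟩
    show qm g0 * qm (g0⁻¹ * g * g0) * (qm g0)⁻¹ = qm g
    have e : g0 * (g0⁻¹ * g * g0) * g0⁻¹ = g := by group
    exact congrArg qm e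
  have hk : qm (g0 * e4 * g0⁻¹) ∈ F.map (MulAut.conj (qm g0)).toMonoidHom :=
    Subgroup.mem_map.mpr ⟨qm e4, h4, rfl⟩
  have hk' : qm (g0 * e4 * g0⁻¹) • p0 ≠ p0 := by
    intro hfix
    have hs := (stab_iff (g0 * e4 * g0⁻¹)).mp (mem_stabilizer_iff.mpr hfix)
    have hmv := sE_moves 1 le_rfl (by norm_num)
    rcases hs with hs | hs
    · apply hmv.1
      show e4 • Co2Cent.w1 = Co2Cent.w1
      have e : g0 • (e4 • Co2Cent.w1) = g0 • Co2Cent.w1 := by
        rw [hg0, ← hs, mul_smul, mul_smul, hw]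
      exact smul_left_cancel g0 e
    · apply hmv.2
      show e4 • Co2Cent.w1 = -Co2Cent.w1
      have e : g0 • (e4 • Co2Cent.w1) = g0 • (-Co2Cent.w1) := by
        rw [smul_neg_l, hg0, ← hs, mul_smul, mul_smul, hw]
      exact smul_left_cancel g0 e
  have htop := max_p0 _ hstab _ hk hk'
  rw [eq_top_iff]
  intro q _
  have hq : MulAut.conj (qm g0) q ∈ F.map (MulAut.conj (qm g0)).toMonoidHom := by
    rw [htop]
    exact Subgroup.mem_top _
  obtain ⟨f, hf, e⟩ := Subgroup.mem_map.mp hq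
  have e' : f = q := (MulAut.conj (qm g0)).injective e
  rw [← e']
  exact hf

/-- Every automorphism of the quotient of the automorphism group of the lattice by its centre
is inner. -/
theorem co1_inner : ∀ α : MulAut Q, ∃ g, α = MulAut.conj g := by
  have := co0_finite
  have : Fact (Nat.Prime 23) := ⟨by norm_num⟩
  have : Fact (Nat.Prime 11) := ⟨by norm_num⟩
  intro α
  obtain ⟨g, β, hα, hy, hx⟩ := aut_reduce_of_card 23 11 (by rw [card_co1]; norm_num)
    (by rw [card_co1]; norm_num) (qm e0) (qm e1) ox oy 2 relq Co3Out.hr23 Co3Out.hk23 α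
  suffices hβ : β = 1 by
    refine ⟨g, ?_⟩
    rw [hα, hβ, mul_one]
  obtain ⟨hx', ht⟩ := beta_tau β hy hx
  have hd := beta_d β hx' hy ht
  have hF : MonoidHom.eqLocus β.toMonoidHom (MonoidHom.id Q) = ⊤ :=
    max_w1 (MonoidHom.eqLocus β.toMonoidHom (MonoidHom.id Q)) hx' hy ht hd
  ext q
  have hq : q ∈ MonoidHom.eqLocus β.toMonoidHom (MonoidHom.id Q) := by
    rw [hF]
    exact Subgroup.mem_top q
  exact hq

end Cfsg.Agent.Lib.Helper27.Co1Out
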