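import Mathlib
import Cfsg.Prelude.Def_Sporadic_a
import Cfsg.Agent.Lib.Helper27.SlpLib
import Cfsg.Agent.Lib.Helper27.Chunk
import Cfsg.Agent.Lib.Helper27.CertBase

/-!
Two more standard vectors: `W1 = (1, -3, 1, ..., 1)` and a vector `Y0P` with odd coordinates.
-/

set_option autoImplicit false
set_option maxRecDepth 100000

namespace Cfsg.Agent.Lib.Helper27.Co2Base

open Cfsg Cfsg.Agent.Lib.Helper27.Bits Cfsg.Agent.Lib.Helper27.Pk
open Cfsg.Agent.Lib.Helper27.MinTab Cfsg.Agent.Lib.Helper27.MinEnum Cfsg.Agent.Lib.Helper27.MinFast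
open Cfsg.Agent.Lib.Helper27.MinAll Cfsg.Agent.Lib.Helper27.LDot Cfsg.Agent.Lib.Helper27.LMat
open Cfsg.Agent.Lib.Helper27.Spread Cfsg.Agent.Lib.Helper27.Co0Act Cfsg.Agent.Lib.Helper27.LApp
open Cfsg.Agent.Lib.Helper27.OrbCert Cfsg.Agent.Lib.Helper27.Chunk Cfsg.Agent.Lib.Helper27.CoGlue
open Cfsg.Agent.Lib.Helper27.Invol Cfsg.Agent.Lib.Helper27.SlpLib Cfsg.Agent.Lib.Helper27.CertBase

/-- the vector `(1, -3, 1, ..., 1)` -/
def W1 : ℕ := 0x900090009000900090009000900090009000900090009000900090009000900090009000900090009000900050009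

theorem W1_eq : W1 = mvB 99457 := by decide +kernel

theorem valid_W1 : validB W1 = true := by decide +kernel

/-- a vector with odd coordinates -/
def Y0P : ℕ := 0x7000700090009000700090007000900090009000900070007000900070007000700070009000900090007000b0009

theorem Y0P_eq : Y0P = mvB 171793 := by decide +kernel

theorem valid_Y0P : validB Y0P = true := by decide +kernel


end Cfsg.Agent.Lib.Helper27.Co2Base
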