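import Mathlib
import Cfsg.Prelude.Def_Sporadic_a
import Cfsg.Agent.Lib.Helper27.SlpLib
import Cfsg.Agent.Lib.Helper27.Chunk
import Cfsg.Agent.Lib.Helper27.CertBase
import Cfsg.Agent.Lib.Helper27.Co2Slp1
import Cfsg.Agent.Lib.Helper27.Co2Slp2
import Cfsg.Agent.Lib.Helper27.Co2Slp3
import Cfsg.Agent.Lib.Helper27.Co2Slp4
import Cfsg.Agent.Lib.Helper27.Co2Slp5
import Cfsg.Agent.Lib.Helper27.Co2Base
import Cfsg.Agent.Lib.Helper27.Co2CentD
import Cfsg.Agent.Lib.Helper27.Co3Out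

/-!
Relations between the three automorphisms `e0` (of order 23), `e1` (of order 11) and the
involution `e2` inverting `e1`, all fixing `(1, -3, 1, ..., 1)`.
-/

set_option autoImplicit false
set_option maxRecDepth 100000

namespace Cfsg.Agent.Lib.Helper27.Co2Rel

open Cfsg Cfsg.Agent.Lib.Helper27.Bits Cfsg.Agent.Lib.Helper27.Pk
open Cfsg.Agent.Lib.Helper27.MinTab Cfsg.Agent.Lib.Helper27.MinEnum Cfsg.Agent.Lib.Helper27.MinFast
open Cfsg.Agent.Lib.Helper27.MinAll Cfsg.Agent.Lib.Helper27.LDot Cfsg.Agent.Lib.Helper27.LMat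
open Cfsg.Agent.Lib.Helper27.Spread Cfsg.Agent.Lib.Helper27.Co0Act Cfsg.Agent.Lib.Helper27.LApp
open Cfsg.Agent.Lib.Helper27.OrbCert Cfsg.Agent.Lib.Helper27.Chunk Cfsg.Agent.Lib.Helper27.CoGlue
open Cfsg.Agent.Lib.Helper27.Invol Cfsg.Agent.Lib.Helper27.SlpLib Cfsg.Agent.Lib.Helper27.CertBase
open Cfsg.Agent.Lib.Helper27.Co2Slp1
open Cfsg.Agent.Lib.Helper27.Co2Slp2
open Cfsg.Agent.Lib.Helper27.Co2Slp3
open Cfsg.Agent.Lib.Helper27.Co2Slp4
open Cfsg.Agent.Lib.Helper27.Co2Slp5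
open Cfsg.Agent.Lib.Helper27.Co2Base
open Cfsg.Agent.Lib.Helper27.Co2CentD

theorem pow11 {G : Type*} [Group G] (a a2 a4 a8 a3 : G) (h2 : a2 = a * a) (h4 : a4 = a2 * a2)
    (h8 : a8 = a4 * a4) (h3 : a3 = a2 * a) : a ^ 11 = a8 * a3 := by
  subst h2 h4 h8 h3
  simp only [pow_succ, pow_zero, one_mul, mul_assoc]

theorem x_inv : e8 = e0⁻¹ := eq_inv_of_mul_eq_one_left q8_0

theorem y_inv : e17 = e1⁻¹ := eq_inv_of_mul_eq_one_left q17_1

theorem t_sq : e2 * e2 = 1 := q2_2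

theorem t_inv : e2⁻¹ = e2 := inv_eq_of_mul_eq_one_left t_sq

theorem t_y : e2 * e1 * e2⁻¹ = e1⁻¹ := by
  have h : e2 * e1 = e1⁻¹ * e2 := by rw [← m19, ← y_inv, q17_2]
  rw [h]
  group

theorem t_ne_one : e2 ≠ 1 :=
  Co3Out.elt_ne_one c2 (by decide) (by decide) (by decide) (by decide) (by decide) chkMoveT

theorem x_pow : e0 ^ 23 = 1 := by
  rw [e0_eq]
  exact Co3Out.e0_pow

theorem y_pow : e1 ^ 11 = 1 := by
  rw [e1_eq]
  exact Co3Cent.e1_pow

theorem x_ne_one : e0 ≠ 1 := by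
  rw [e0_eq]
  exact Co3Out.moves.1

theorem y_ne_one : e1 ≠ 1 := by
  rw [e1_eq]
  exact Co3Out.moves.2.1

theorem rel_yx : e1 * e0 * e1⁻¹ = e0 ^ 2 := by
  rw [e0_eq, e1_eq]
  exact Co3Out.rel_co0

theorem yp_1 : e1 = e1 ^ 1 := (pow_one e1).symm

theorem yp_2 : e9 = e1 ^ 2 := by
  have h := m9
  rw [h]
  exact (pow_two e1).symm

theorem yp_3 : e10 = e1 ^ 3 := by
  have h := m10
  rw [yp_2] at h
  rw [h]
  exact (pow_succ e1 2).symm

theorem yp_4 : e11 = e1 ^ 4 := by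
  have h := m11
  rw [yp_2] at h
  rw [h]
  exact (pow_add e1 2 2).symm

theorem yp_5 : e12 = e1 ^ 5 := by
  have h := m12
  rw [yp_4] at h
  rw [h]
  exact (pow_succ e1 4).symm

theorem yp_6 : e13 = e1 ^ 6 := by
  have h := m13
  rw [yp_4] at h
  rw [yp_2] at h
  rw [h]
  exact (pow_add e1 4 2).symm

theorem yp_7 : e14 = e1 ^ 7 := by
  have h := m14
  rw [yp_4] at h
  rw [yp_3] at h
  rw [h]
  exact (pow_add e1 4 3).symm

theorem yp_8 : e15 = e1 ^ 8 := by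
  have h := m15
  rw [yp_4] at h
  rw [h]
  exact (pow_add e1 4 4).symm

theorem yp_9 : e16 = e1 ^ 9 := by
  have h := m16
  rw [yp_8] at h
  rw [h]
  exact (pow_succ e1 8).symm

theorem yp_10 : e17 = e1 ^ 10 := by
  have h := m17
  rw [yp_8] at h
  rw [yp_2] at h
  rw [h]
  exact (pow_add e1 8 2).symm

theorem relA : (e0 * e2) ^ 11 = 1 := by
  rw [← m20, pow11 e20 e21 e22 e23 e24 m21 m22 m23 m24]
  exact q23_24

theorem bad_1 : (e0 * (e2 * e1 ^ 1)) ^ 11 ≠ 1 := by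
  rw [pow_one, ← m19, ← m25, pow11 e25 e26 e27 e28 e29 m26 m27 m28 m29, ← m30]
  exact Co3Out.elt_ne_one c30 (by decide) (by decide) (by decide) (by decide) (by decide) chkMove1

theorem bad_2 : (e0 * (e2 * e1 ^ 2)) ^ 11 ≠ 1 := by
  rw [← yp_2, ← m31, ← m32, pow11 e32 e33 e34 e35 e36 m33 m34 m35 m36, ← m37]
  exact Co3Out.elt_ne_one c37 (by decide) (by decide) (by decide) (by decide) (by decide) chkMove2

theorem bad_3 : (e0 * (e2 * e1 ^ 3)) ^ 11 ≠ 1 := by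
  rw [← yp_3, ← m38, ← m39, pow11 e39 e40 e41 e42 e43 m40 m41 m42 m43, ← m44]
  exact Co3Out.elt_ne_one c44 (by decide) (by decide) (by decide) (by decide) (by decide) chkMove3

theorem bad_4 : (e0 * (e2 * e1 ^ 4)) ^ 11 ≠ 1 := by
  rw [← yp_4, ← m45, ← m46, pow11 e46 e47 e48 e49 e50 m47 m48 m49 m50, ← m51]
  exact Co3Out.elt_ne_one c51 (by decide) (by decide) (by decide) (by decide) (by decide) chkMove4

theorem bad_5 : (e0 * (e2 * e1 ^ 5)) ^ 11 ≠ 1 := by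
  rw [← yp_5, ← m52, ← m53, pow11 e53 e54 e55 e56 e57 m54 m55 m56 m57, ← m58]
  exact Co3Out.elt_ne_one c58 (by decide) (by decide) (by decide) (by decide) (by decide) chkMove5

theorem bad_6 : (e0 * (e2 * e1 ^ 6)) ^ 11 ≠ 1 := by
  rw [← yp_6, ← m59, ← m60, pow11 e60 e61 e62 e63 e64 m61 m62 m63 m64, ← m65]
  exact Co3Out.elt_ne_one c65 (by decide) (by decide) (by decide) (by decide) (by decide) chkMove6

theorem bad_7 : (e0 * (e2 * e1 ^ 7)) ^ 11 ≠ 1 := by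
  rw [← yp_7, ← m66, ← m67, pow11 e67 e68 e69 e70 e71 m68 m69 m70 m71, ← m72]
  exact Co3Out.elt_ne_one c72 (by decide) (by decide) (by decide) (by decide) (by decide) chkMove7

theorem bad_8 : (e0 * (e2 * e1 ^ 8)) ^ 11 ≠ 1 := by
  rw [← yp_8, ← m73, ← m74, pow11 e74 e75 e76 e77 e78 m75 m76 m77 m78, ← m79]
  exact Co3Out.elt_ne_one c79 (by decide) (by decide) (by decide) (by decide) (by decide) chkMove8

theorem bad_9 : (e0 * (e2 * e1 ^ 9)) ^ 11 ≠ 1 := by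
  rw [← yp_9, ← m80, ← m81, pow11 e81 e82 e83 e84 e85 m82 m83 m84 m85, ← m86]
  exact Co3Out.elt_ne_one c86 (by decide) (by decide) (by decide) (by decide) (by decide) chkMove9

theorem bad_10 : (e0 * (e2 * e1 ^ 10)) ^ 11 ≠ 1 := by
  rw [← yp_10, ← m87, ← m88, pow11 e88 e89 e90 e91 e92 m89 m90 m91 m92, ← m93]
  exact Co3Out.elt_ne_one c93 (by decide) (by decide) (by decide) (by decide) (by decide) chkMove10

theorem bad_all (m : ℕ) (h1 : 1 ≤ m) (h2 : m < 11) : (e0 * (e2 * e1 ^ m)) ^ 11 ≠ 1 := by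
  interval_cases m
  · exact bad_1
  · exact bad_2
  · exact bad_3
  · exact bad_4
  · exact bad_5
  · exact bad_6
  · exact bad_7
  · exact bad_8
  · exact bad_9
  · exact bad_10

theorem relB : (e0⁻¹ * e2 * e0 * e1⁻¹ * e2) ^ 11 = 1 := by
  rw [← x_inv, ← y_inv, ← m94, ← m95, ← m96, ← m97, pow11 e97 e98 e99 e100 e101 m98 m99 m100 m101]
  exact q100_101

theorem badB : (e0 * e2 * e0⁻¹ * e1⁻¹ * e2) ^ 11 ≠ 1 := by
  rw [← x_inv, ← y_inv, ← m20, ← m102, ← m103, ← m104, pow11 e104 e105 e106 e107 e108 m105 m106 m107 m108, ← m109]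
  exact Co3Out.elt_ne_one c109 (by decide) (by decide) (by decide) (by decide) (by decide) chkMoveV


end Cfsg.Agent.Lib.Helper27.Co2Rel
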