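import Mathlib
import Cfsg.Prelude.Def_Sporadic_a
import Cfsg.Prelude.Def_Spor_Conway
import Cfsg.Agent.Lib.Helper27.Co2Gen
import Cfsg.Agent.Lib.Helper27.Co2Rel
import Cfsg.Agent.Lib.Helper27.AutSyl2
import Cfsg.Agent.Lib.Helper27.Co3Out
import Cfsg.Agent.S0400

/-!
Every automorphism of the stabiliser of a vector of sum of squares 32 is inner.  The stabiliser
of `w1` is generated by `e0` of order 23, `e1` of order 11 normalising it and an involution `e2`
inverting `e1`; the centraliser of `e1` consists of its powers, and relations between the three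
pin an automorphism down.
-/

set_option autoImplicit false
set_option maxRecDepth 100000

namespace Cfsg.Agent.Lib.Helper27.Co2Out

open Cfsg Cfsg.Agent.Lib.Helper27.Bits Cfsg.Agent.Lib.Helper27.Pk
open Cfsg.Agent.Lib.Helper27.MinTab Cfsg.Agent.Lib.Helper27.MinEnum Cfsg.Agent.Lib.Helper27.MinFast
open Cfsg.Agent.Lib.Helper27.MinAll Cfsg.Agent.Lib.Helper27.LDot Cfsg.Agent.Lib.Helper27.LMat
open Cfsg.Agent.Lib.Helper27.Spread Cfsg.Agent.Lib.Helper27.Co0Act Cfsg.Agent.Lib.Helper27.LApp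
open Cfsg.Agent.Lib.Helper27.OrbCert Cfsg.Agent.Lib.Helper27.Chunk Cfsg.Agent.Lib.Helper27.CoGlue
open Cfsg.Agent.Lib.Helper27.Invol Cfsg.Agent.Lib.Helper27.SlpLib Cfsg.Agent.Lib.Helper27.CertBase
open Cfsg.Agent.Lib.Helper27.Co2Base Cfsg.Agent.Lib.Helper27.Co2Slp1
open Cfsg.Agent.Lib.Helper27.Co2Cent Cfsg.Agent.Lib.Helper27.Co2Gen Cfsg.Agent.Lib.Helper27.Co2Rel
open Cfsg.Agent.Lib.Helper27.CoStd Cfsg.Agent.Lib.Helper27.SimpGlue
open Cfsg.Agent.Lib.Helper27.SimpleCrit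
open Cfsg.Agent.Lib.Helper27.SimpM22 Cfsg.Agent.Lib.Helper27.SimpHS
open Cfsg.Agent.Lib.Helper27.AutSyl Cfsg.Agent.Lib.Helper27.AutSyl2
open MulAction

/-- the automorphism of order 23 -/
noncomputable def xg : ↥(stabilizer Co0 w1) := ⟨e0, mem_stabilizer_iff.mpr fixes2.1⟩

/-- the automorphism of order 11 -/
noncomputable def yg : ↥(stabilizer Co0 w1) := ⟨e1, mem_stabilizer_iff.mpr fixes2.2.1⟩

/-- the involution -/
noncomputable def tg : ↥(stabilizer Co0 w1) := ⟨e2, mem_stabilizer_iff.mpr fixes2.2.2.1⟩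

theorem ox : orderOf xg = 23 := by
  have : Fact (Nat.Prime 23) := ⟨by norm_num⟩
  unfold xg
  rw [Subgroup.orderOf_mk]
  exact orderOf_eq_prime x_pow x_ne_one

theorem oy : orderOf yg = 11 := by
  have : Fact (Nat.Prime 11) := ⟨by norm_num⟩
  unfold yg
  rw [Subgroup.orderOf_mk]
  exact orderOf_eq_prime y_pow y_ne_one

theorem relg : yg * xg * yg⁻¹ = xg ^ 2 := Subtype.ext rel_yx

theorem tsq : tg * tg = 1 := Subtype.ext t_sq

theorem tyg : tg * yg * tg⁻¹ = yg⁻¹ := Subtype.ext t_y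

theorem centg (c : ↥(stabilizer Co0 w1)) (hc : c * yg = yg * c) : c ∈ Subgroup.zpowers yg := by
  have h := cent_co2 c.1 (mem_stabilizer_iff.mp c.2) (congrArg Subtype.val hc)
  obtain ⟨k, hk⟩ := Subgroup.mem_zpowers_iff.mp h
  refine Subgroup.mem_zpowers_iff.mpr ⟨k, ?_⟩
  apply Subtype.ext
  rw [Subgroup.coe_zpow]
  exact hk

theorem cand_t (β : MulAut ↥(stabilizer Co0 w1)) (hy : β yg = yg) :
    ∃ m, m < 11 ∧ β tg = tg * yg ^ m := by
  have := co0_finite
  have hcomm := inverting_coset β yg tg hy tyg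
  have hz := centg _ hcomm
  have hp : tg⁻¹ * β tg ∈ Submonoid.powers yg :=
    (isOfFinOrder_of_finite yg).mem_powers_iff_mem_zpowers.mpr hz
  obtain ⟨m, hm⟩ := (Submonoid.mem_powers_iff _ _).mp hp
  refine ⟨m % 11, Nat.mod_lt _ (by norm_num), ?_⟩
  have e : yg ^ (m % 11) = yg ^ m := by
    rw [← oy]
    exact pow_mod_orderOf yg m
  rw [e, hm]
  group

theorem hgeng (β : MulAut ↥(stabilizer Co0 w1)) (hx : β xg = xg) (hy : β yg = yg)
    (ht : β tg = tg) : β = 1 := by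
  let K' : Subgroup ↥(stabilizer Co0 w1) :=
    MonoidHom.eqLocus β.toMonoidHom (MonoidHom.id ↥(stabilizer Co0 w1))
  have hle := gen_le2 (K'.map (Subgroup.subtype _))
    (Subgroup.mem_map.mpr ⟨xg, hx, rfl⟩) (Subgroup.mem_map.mpr ⟨yg, hy, rfl⟩)
    (Subgroup.mem_map.mpr ⟨tg, ht, rfl⟩)
  ext g
  obtain ⟨g', hg', e⟩ := Subgroup.mem_map.mp (hle g.2)
  have e' : g' = g := Subtype.ext e
  rw [e'] at hg'
  have h : β g = g := hg'
  rw [h]
  rfl

/-- Every automorphism of the stabiliser of `w1` is inner. -/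
theorem w1_inner : ∀ α : MulAut ↥(stabilizer Co0 w1), ∃ g, α = MulAut.conj g := by
  have := co0_finite
  have : Fact (Nat.Prime 23) := ⟨by norm_num⟩
  have : Fact (Nat.Prime 11) := ⟨by norm_num⟩
  intro α
  obtain ⟨g, β, hα, hy, hx⟩ := aut_reduce_of_card 23 11 (by rw [w1_card]; norm_num)
    (by rw [w1_card]; norm_num) xg yg ox oy 2 relg Co3Out.hr23 Co3Out.hk23 α
  suffices hβ : β = 1 by
    refine ⟨g, ?_⟩
    rw [hα, hβ, mul_one]
  obtain ⟨m, hm, ht⟩ := cand_t β hy
  have relAg : (xg * tg) ^ 11 = 1 := Subtype.ext relA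
  have h2 := congrArg β relAg
  rw [map_pow, map_mul, ht, map_one] at h2
  rcases hx with hx | hx
  · rw [hx] at h2
    by_cases h0 : m = 0
    · subst h0
      rw [pow_zero, mul_one] at ht
      exact hgeng β hx hy ht
    · exfalso
      exact bad_all m (by omega) hm (congrArg Subtype.val h2)
  · exfalso
    rw [hx] at h2
    by_cases h0 : m = 0
    · subst h0
      rw [pow_zero, mul_one] at ht
      have relBg : (xg⁻¹ * tg * xg * yg⁻¹ * tg) ^ 11 = 1 := Subtype.ext relB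
      have h3 := congrArg β relBg
      rw [map_pow, map_mul, map_mul, map_mul, map_mul, map_inv, map_inv, hx, hy, ht, inv_inv,
        map_one] at h3
      exact badB (congrArg Subtype.val h3)
    · have h3 := inv_mul_pow_eq_one xg (tg * yg ^ m) (inverting_sq yg tg tsq tyg m) 11 h2
      exact bad_all m (by omega) hm (congrArg Subtype.val h3)

/-! ### Transport -/

theorem leechU_norm : sqNorm (Cfsg.Spor.leechU : GolayPt → ℤ) = 32 := by
  show sqNorm Cfsg.Spor.vecU = 32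
  unfold sqNorm
  rw [Fintype.sum_option]
  simp [Cfsg.Spor.vecU]

/-- The second Conway group as a subgroup of the automorphism group of the lattice. -/
def co2Equiv : ↥Cfsg.Spor.Co2 ≃* ↥(stabilizer Co0 Cfsg.Spor.leechU) where
  toFun a := ⟨⟨a.1, a.2.1⟩, mem_stabilizer_iff.mpr (mem_stabilizer_iff.mp a.2.2)⟩
  invFun b := ⟨b.1.1, ⟨b.1.2, mem_stabilizer_iff.mpr (mem_stabilizer_iff.mp b.2)⟩⟩
  left_inv _ := rfl
  right_inv _ := rfl
  map_mul' _ _ := rfl

/-- Every automorphism of the second Conway group is inner. -/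
theorem co2_inner : ∀ α : MulAut ↥Cfsg.Spor.Co2, ∃ g, α = MulAut.conj g := by
  obtain ⟨g0, h1⟩ := Cfsg.Agent.S0400.result Cfsg.Spor.leechU w1 leechU_norm w1_norm
  apply Co3Out.inner_of_equiv co2Equiv
  apply Co3Out.inner_of_equiv (conjEquiv (stabilizer Co0 Cfsg.Spor.leechU) (stabilizer Co0 w1) g0
    (fun x => by rw [mem_stabilizer_iff, mem_stabilizer_iff, conj_fix g0 x h1]))
  exact w1_inner

end Cfsg.Agent.Lib.Helper27.Co2Out
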