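import Mathlib
import Cfsg.Agent.Lib.Helper80.FTStmt

/-!
S3999 piece SYLTR (helper27, second seat): a normal Sylow `p`-subgroup transfers along an
order-preserving bijection.
-/

set_option autoImplicit false

universe u v w

namespace Cfsg.Agent.Lib.Helper27.FTSYLTR

open Cfsg.Agent.Lib.Helper80.FTStmt

/-- elements of `p`-power order -/
def ppow (X : Type w) [Group X] (p : ℕ) : Set X := {x | ∃ n : ℕ, orderOf x = p ^ n}

theorem sylow_subset {X : Type w} [Group X] [Finite X] (p : ℕ) [Fact p.Prime] (Q : Sylow p X) :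
    ((Q : Subgroup X) : Set X) ⊆ ppow X p := by
  intro x hx
  have h1 : orderOf x ∣ Nat.card (Q : Subgroup X) := by
    have := orderOf_dvd_natCard (⟨x, hx⟩ : (Q : Subgroup X))
    rwa [Subgroup.orderOf_mk] at this
  rw [Sylow.card_eq_multiplicity] at h1
  obtain ⟨j, -, hj⟩ := (Nat.dvd_prime_pow (Fact.out : p.Prime)).1 h1
  exact ⟨j, hj⟩

theorem normal_sylow_eq {X : Type w} [Group X] [Finite X] (p : ℕ) [Fact p.Prime] (P : Sylow p X)
    (hP : (P : Subgroup X).Normal) : ((P : Subgroup X) : Set X) = ppow X p := by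
  apply Set.Subset.antisymm (sylow_subset p P)
  rintro x ⟨n, hn⟩
  have hpg : IsPGroup p (Subgroup.zpowers x) := by
    apply IsPGroup.of_card (n := n)
    rw [Nat.card_zpowers, hn]
  obtain ⟨Q, hQ⟩ := hpg.exists_le_sylow
  have := hP
  have hPQ : (P : Subgroup X) ≤ Q := P.isPGroup'.le_sylow_of_normal Q
  have hEq : (P : Subgroup X) = Q :=
    Subgroup.eq_of_le_of_card_ge hPQ
      (le_of_eq (by rw [Sylow.card_eq_multiplicity, Sylow.card_eq_multiplicity]))
  have hx : x ∈ (Q : Subgroup X) := hQ (Subgroup.mem_zpowers x)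
  rw [← hEq] at hx
  exact hx

theorem main : SylTr.{u, v} := by
  intro F G _ _ _ _ e he p _ ⟨P, hP⟩
  classical
  obtain ⟨Q⟩ : Nonempty (Sylow p G) := inferInstance
  refine ⟨Q, ?_⟩
  have hFG : Nat.card F = Nat.card G := Nat.card_congr e
  have hcardS : Nat.card (ppow F p) = Nat.card (ppow G p) := by
    apply Nat.card_congr
    exact Equiv.subtypeEquiv e (fun x => by
      simp only [ppow, Set.mem_ofPred_eq, he])
  have hPc : Nat.card (ppow F p) = Nat.card (P : Subgroup F) := by
    rw [← normal_sylow_eq p P hP]; rfl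
  have hQc : Nat.card (Q : Subgroup G) = Nat.card (ppow G p) := by
    rw [← hcardS, hPc, Sylow.card_eq_multiplicity, Sylow.card_eq_multiplicity, hFG]
  have hQS : ((Q : Subgroup G) : Set G) = ppow G p := by
    apply Set.eq_of_subset_of_ncard_le (sylow_subset p Q) _ (Set.toFinite _)
    rw [← Nat.card_coe_set_eq, ← Nat.card_coe_set_eq]
    exact hQc.ge
  constructor
  intro y hy g
  have hy' : y ∈ ((Q : Subgroup G) : Set G) := hy
  rw [hQS] at hy'
  obtain ⟨n, hn⟩ := hy'
  have h2 : g * y * g⁻¹ ∈ ((Q : Subgroup G) : Set G) := by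
    rw [hQS]
    refine ⟨n, ?_⟩
    rw [← hn]
    exact (MulAut.conj g).orderOf_eq y
  exact h2

end Cfsg.Agent.Lib.Helper27.FTSYLTR
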