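import Cfsg.Agent.Lib.Helper27.Bits

set_option autoImplicit false

namespace Cfsg.Agent.Lib.Helper27.Golay

open Cfsg Cfsg.Agent.Lib.Helper27.Bits

/-! ### popcount -/

/-- popcount of the low `k` bits -/
noncomputable def pcAux (k : ℕ) : ℕ → ℕ :=
  Nat.rec (fun _ => 0) (fun _ ih m => Nat.add (Nat.mod m 2) (ih (Nat.div m 2))) k

theorem pcAux_succ (k m : ℕ) : pcAux (k + 1) m = m % 2 + pcAux k (m / 2) := rfl

/-- popcount of the low 24 bits -/
noncomputable def pc (m : ℕ) : ℕ := pcAux 24 m

theorem pcAux_eq (k m : ℕ) :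
    pcAux k m = ∑ i ∈ Finset.range k, (if m.testBit i = true then 1 else 0) := by
  induction k generalizing m with
  | zero => rfl
  | succ k ih =>
    rw [pcAux_succ, Finset.sum_range_succ', ih]
    have h0 : (if m.testBit 0 = true then 1 else 0) = m % 2 := by
      rw [Nat.testBit_zero]
      rcases Nat.mod_two_eq_zero_or_one m with h | h <;> simp [h]
    rw [h0, add_comm]
    congr 1
    apply Finset.sum_congr rfl
    intro i _
    rw [Nat.testBit_succ]

theorem card_setOf (m : ℕ) : (fsOf m).card = pc m := by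
  unfold pc
  rw [pcAux_eq, fsOf, Finset.card_filter]
  apply Finset.sum_nbij' idx pt
  · intro p _; exact Finset.mem_range.mpr (idx_lt p)
  · intro i _; exact Finset.mem_univ _
  · intro p _; exact pt_idx p
  · intro i hi; exact idx_pt i (Finset.mem_range.mp hi)
  · intro p _; rfl

/-! ### packed tables and xor spans -/

/-- entry `i` of a packed table with lanes of `w` bits -/
def tget (T w i : ℕ) : ℕ := (T >>> (w * i)) % 2 ^ w

theorem tget_lt (T w i : ℕ) : tget T w i < 2 ^ w := Nat.mod_lt _ (Nat.two_pow_pos w)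

/-- xor of the `basis k` over the bits `k < n` of `c` -/
noncomputable def xorSpan (basis : ℕ → ℕ) (n c : ℕ) : ℕ :=
  Nat.rec 0 (fun k ih => cond (c.testBit k) (Nat.xor (basis k) ih) ih) n

theorem xorSpan_succ (basis : ℕ → ℕ) (n c : ℕ) :
    xorSpan basis (n + 1) c = cond (c.testBit n) (basis n ^^^ xorSpan basis n c) (xorSpan basis n c) := rfl

theorem xorSpan_zero (basis : ℕ → ℕ) (c : ℕ) : xorSpan basis 0 c = 0 := rfl

theorem xorSpan_xor (basis : ℕ → ℕ) (n a b : ℕ) :
    xorSpan basis n (a ^^^ b) = xorSpan basis n a ^^^ xorSpan basis n b := by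
  induction n with
  | zero => simp [xorSpan_zero]
  | succ n ih =>
    rw [xorSpan_succ, xorSpan_succ, xorSpan_succ, ih, Nat.testBit_xor]
    cases a.testBit n <;> cases b.testBit n <;> simp only [cond_true, cond_false, Bool.xor_false,
      Bool.xor_true, Bool.not_true, Bool.not_false]
    all_goals
      apply Nat.eq_of_testBit_eq; intro i
      simp only [Nat.testBit_xor]
      cases (basis n).testBit i <;> cases (xorSpan basis n a).testBit i <;>
        cases (xorSpan basis n b).testBit i <;> rfl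

theorem xorSpan_lt (basis : ℕ → ℕ) (n c w : ℕ) (h : ∀ k < n, basis k < 2 ^ w) :
    xorSpan basis n c < 2 ^ w := by
  induction n with
  | zero => exact Nat.two_pow_pos w
  | succ n ih =>
    rw [xorSpan_succ]
    have h1 := ih (fun k hk => h k (Nat.lt_succ_of_lt hk))
    cases c.testBit n
    · exact h1
    · exact Nat.xor_lt_two_pow (h n (Nat.lt_succ_self n)) h1

theorem xorSpan_mem (S : Submodule (ZMod 2) (GolayPt → ZMod 2)) (basis : ℕ → ℕ) (n c : ℕ)
    (h : ∀ k < n, wordOf (basis k) ∈ S) : wordOf (xorSpan basis n c) ∈ S := by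
  induction n with
  | zero => rw [xorSpan_zero, wordOf_zero]; exact S.zero_mem
  | succ n ih =>
    rw [xorSpan_succ]
    have h1 := ih (fun k hk => h k (Nat.lt_succ_of_lt hk))
    cases c.testBit n
    · exact h1
    · simp only [cond_true]
      rw [wordOf_xor]
      exact S.add_mem (h n (Nat.lt_succ_self n)) h1

/-! ### the code -/

/-- the 24 generators (translates of the squares, and the all-ones word) -/
def GENT : ℕ := 0xffffff4299af614cd770a66b7853357c299a3e14cd5f0a662f853357c2996be14c35f0a61af8534d7c2966be14335f0a19af854cd7c2266be15335f0299af814cd7c0a66be05335f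

/-- generator `i` -/
def gen (i : ℕ) : ℕ := tget GENT 24 i

/-- the systematic basis -/
def BMT : ℕ := 0xe3a800b1d4007b42003da1001ed080ecc040b660209b30106e3008d4b00449f002c75001

/-- basis word `j` -/
def bm (j : ℕ) : ℕ := tget BMT 24 j

/-- the basis words as combinations of generators -/
def SELT : ℕ := 0x8006258006630000650005430007d08005cd8007978006ba0005788004990001188006a9

/-- selection mask of basis word `j` -/
def sel (j : ℕ) : ℕ := tget SELT 24 j

/-- the codeword with information bits `c` -/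
noncomputable def enc (c : ℕ) : ℕ := xorSpan bm 12 c

theorem gen_lt (i : ℕ) : gen i < 2 ^ 24 := tget_lt _ _ _
theorem bm_lt (i : ℕ) : bm i < 2 ^ 24 := tget_lt _ _ _

theorem enc_lt (c : ℕ) : enc c < 2 ^ 24 := xorSpan_lt _ _ _ _ (fun k _ => bm_lt k)

theorem enc_xor (a b : ℕ) : enc (a ^^^ b) = enc a ^^^ enc b := xorSpan_xor _ _ _ _

theorem enc_zero : enc 0 = 0 := by decide +kernel

theorem gen_qr : ∀ t x : ZMod 23, (∃ r : ZMod 23, x = r ^ 2 + t) ↔ (gen t.val).testBit x.val = true := by
  decide +kernel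

theorem gen_inf : ∀ t : ZMod 23, (gen t.val).testBit 23 = false := by decide +kernel

theorem gen_one : gen 23 = 2 ^ 24 - 1 := by decide +kernel

theorem qrWord_eq (t : ZMod 23) : qrWord t = wordOf (gen t.val) := by
  funext p
  cases p with
  | none => simp [qrWord, wordOf, idx, gen_inf t]
  | some x =>
    have h := gen_qr t x
    show (if ∃ r : ZMod 23, x = r ^ 2 + t then (1 : ZMod 2) else 0) =
      if (gen t.val).testBit x.val = true then 1 else 0
    by_cases hq : ∃ r : ZMod 23, x = r ^ 2 + t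
    · rw [if_pos hq, if_pos (h.mp hq)]
    · rw [if_neg hq, if_neg (fun h' => hq (h.mpr h'))]

theorem one_eq : (1 : GolayPt → ZMod 2) = wordOf (gen 23) := by
  funext p
  rw [gen_one]
  unfold wordOf
  rw [Nat.testBit_two_pow_sub_one]
  simp [idx_lt p]

theorem gen_enc : allB 24 (fun t => Nat.beq (gen t) (enc (gen t % 4096))) = true := by decide +kernel

theorem bm_sel : allB 12 (fun j => Nat.beq (bm j) (xorSpan gen 24 (sel j))) = true := by decide +kernel

theorem enc_sys : allB 4096 (fun c => Nat.beq (enc c % 4096) c) = true := by decide +kernel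

theorem enc_mod (c : ℕ) (hc : c < 4096) : enc c % 4096 = c :=
  Nat.eq_of_beq_eq_true ((allB_iff _ _).mp enc_sys c hc)

theorem gen_mem (t : ℕ) (ht : t < 24) : wordOf (gen t) ∈ golayCode := by
  apply Submodule.subset_span
  by_cases h : t < 23
  · left
    refine ⟨(t : ZMod 23), ?_⟩
    rw [qrWord_eq, ZMod.val_natCast, Nat.mod_eq_of_lt h]
  · right
    have : t = 23 := by omega
    rw [this, ← one_eq]; rfl

theorem bm_mem (j : ℕ) (hj : j < 12) : wordOf (bm j) ∈ golayCode := by
  rw [Nat.eq_of_beq_eq_true ((allB_iff _ _).mp bm_sel j hj)]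
  exact xorSpan_mem _ _ _ _ (fun k hk => gen_mem k hk)

theorem enc_mem (c : ℕ) : wordOf (enc c) ∈ golayCode :=
  xorSpan_mem _ _ _ _ (fun k hk => bm_mem k hk)

theorem mem_golayCode_iff (w : GolayPt → ZMod 2) :
    w ∈ golayCode ↔ ∃ c < 4096, w = wordOf (enc c) := by
  constructor
  · intro hw
    refine Submodule.span_induction (p := fun w _ => ∃ c < 4096, w = wordOf (enc c)) ?_ ?_ ?_ ?_ hw
    · rintro x (⟨t, rfl⟩ | hx)
      · refine ⟨gen t.val % 4096, Nat.mod_lt _ (by norm_num), ?_⟩
        rw [qrWord_eq, ← Nat.eq_of_beq_eq_true ((allB_iff _ _).mp gen_enc t.val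
          (lt_trans (ZMod.val_lt t) (by norm_num)))]
      · refine ⟨gen 23 % 4096, Nat.mod_lt _ (by norm_num), ?_⟩
        rw [Set.mem_singleton_iff.mp hx, one_eq, ← Nat.eq_of_beq_eq_true ((allB_iff _ _).mp gen_enc 23
          (by norm_num))]
    · exact ⟨0, by norm_num, by rw [enc_zero, wordOf_zero]⟩
    · rintro x y _ _ ⟨c, hc, rfl⟩ ⟨d, hd, rfl⟩
      exact ⟨c ^^^ d, Nat.xor_lt_two_pow (n := 12) hc hd, by rw [enc_xor, wordOf_xor]⟩
    · rintro a x _ ⟨c, hc, rfl⟩
      have ha : a = 0 ∨ a = 1 := by revert a; decide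
      rcases ha with rfl | rfl
      · exact ⟨0, by norm_num, by rw [enc_zero, wordOf_zero, zero_smul]⟩
      · exact ⟨c, hc, by rw [one_smul]⟩
  · rintro ⟨c, _, rfl⟩
    exact enc_mem c

theorem wordOf_mem_iff {m : ℕ} (hm : m < 2 ^ 24) : wordOf m ∈ golayCode ↔ m = enc (m % 4096) := by
  rw [mem_golayCode_iff]
  constructor
  · rintro ⟨c, hc, h⟩
    have h1 : m = enc c := wordOf_injOn hm (enc_lt c) h
    rw [h1, enc_mod c hc]
  · intro h
    exact ⟨m % 4096, Nat.mod_lt _ (by norm_num), by rw [← h]⟩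

theorem mem_supports_iff (s : Finset GolayPt) :
    s ∈ supports (golayCode : Set (GolayPt → ZMod 2)) ↔ ∃ c < 4096, s = fsOf (enc c) := by
  unfold supports
  constructor
  · rintro ⟨w, hw, rfl⟩
    obtain ⟨c, hc, rfl⟩ := (mem_golayCode_iff w).mp hw
    exact ⟨c, hc, support_wordOf _⟩
  · rintro ⟨c, _, rfl⟩
    exact ⟨wordOf (enc c), enc_mem c, support_wordOf _⟩

theorem setOf_mem_supports_iff {m : ℕ} (hm : m < 2 ^ 24) :
    fsOf m ∈ supports (golayCode : Set (GolayPt → ZMod 2)) ↔ m = enc (m % 4096) := by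
  rw [mem_supports_iff]
  constructor
  · rintro ⟨c, hc, h⟩
    have h1 : m = enc c := setOf_injOn hm (enc_lt c) h
    rw [h1, enc_mod c hc]
  · intro h
    exact ⟨m % 4096, Nat.mod_lt _ (by norm_num), by rw [← h]⟩

end Cfsg.Agent.Lib.Helper27.Golay
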