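import Mathlib
import Cfsg.Agent.Lib.Helper27.JzStmt
import Cfsg.Agent.Lib.Helper27.Bits
import Cfsg.Agent.Lib.Helper29.OzGENO

/-!
Piece CENT of the Hall–Janko section: the centraliser in the orthogonal group of dimension 8
of the matrix of code `acode` has at most `300` elements.

An element commuting with the matrix is determined by the images of two basis vectors, since
their images under the powers of the matrix span the space; the pairs of vectors for which the
resulting linear map preserves the quadratic form are found by a search over all pairs of codes,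
and there are `300` of them.
-/

set_option autoImplicit false
set_option maxRecDepth 1000000

namespace Cfsg.Agent.Lib.Helper27.JzCENT

open Matrix Cfsg Cfsg.Agent.Lib.Helper27.OzStmt Cfsg.Agent.Lib.Helper27.JzStmt
open Cfsg.Agent.Lib.Helper27.Bits
open Cfsg.Agent.Lib.Helper29.OzGENO (vecOf)

/-- the matrix of an element of the orthogonal group -/
abbrev mx (g : O8) : M8 := ((g : Matrix.GeneralLinearGroup I8 (ZMod 2)) : M8)

theorem mx_mul (g h : O8) : mx (g * h) = mx g * mx h := rfl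

/-- the table of the action of the matrix on the codes of the vectors -/
def MTBL : ℕ := 0x2f4a95f36c09d6b2adc81771ee8b5432ed885731aecb14706f0ad5b32c4996f26d08d7b12e4b94f0ef8a5533acc91670afca1573ec8956322d4897f16e0bd4b2fd984721bedb04607f1ac5a33c5986e03f5a85e37c19c6a2bdd80761fe9b4420bfda0563fc9946223d5887e17e1bc4a27d18c7a13e5b84e0ff9a4523bcd90666492cf3950a6fb0d4cbae711788ed32548bee3157c8ad7216096cb3d54a2ff0940b6eb1d7482df29689ec3355caaf7016c9ac73158aef30544b2ef197086db2d49bfe2147d8bd6206197ca3c55a3fe086593ce3851a7fa0c4dbbe610798fd2246d9bc63059aff20445b3ee187187da2c41b7ea1c7583de28699fc2345dabf600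

/-- the action of the matrix on codes -/
def mT (v : ℕ) : ℕ := (MTBL >>> (8 * v)) &&& 255

theorem mT_ok : ∀ v : Fin 256, ∀ i : I8,
    (matOf acode).mulVec (vecOf v) i = vecOf (mT v) i := by
  decide +kernel

theorem mT_lt : ∀ v : Fin 256, mT v < 256 := by
  decide +kernel

theorem mT_lt' {v : ℕ} (hv : v < 256) : mT v < 256 := mT_lt ⟨v, hv⟩

theorem mT_vec {v : ℕ} (hv : v < 256) : vecOf (mT v) = (matOf acode) *ᵥ vecOf v := by
  funext i
  exact (mT_ok ⟨v, hv⟩ i).symm

/-- the quadratic form on codes -/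
def qT (v : ℕ) : Bool :=
  xor (xor (v.testBit 0 && v.testBit 4) (v.testBit 1 && v.testBit 5))
    (xor (v.testBit 2 && v.testBit 6) (v.testBit 3 && v.testBit 7))

theorem qbool : ∀ (b0 b1 b2 b3 b4 b5 b6 b7 : Bool),
    ((if b0 = true then (1 : ZMod 2) else 0) * (if b4 = true then 1 else 0)
      + (if b1 = true then 1 else 0) * (if b5 = true then 1 else 0)
      + (if b2 = true then 1 else 0) * (if b6 = true then 1 else 0)
      + (if b3 = true then 1 else 0) * (if b7 = true then 1 else 0))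
    = if (xor (xor (b0 && b4) (b1 && b5)) (xor (b2 && b6) (b3 && b7))) = true then 1 else 0 := by
  decide

theorem qT_ok (v : ℕ) :
    Cfsg.quadFormPlus 4 (ZMod 2) (vecOf v) = if qT v = true then 1 else 0 := by
  unfold Cfsg.quadFormPlus
  rw [Fin.sum_univ_four]
  exact qbool (v.testBit 0) (v.testBit 1) (v.testBit 2) (v.testBit 3) (v.testBit 4)
    (v.testBit 5) (v.testBit 6) (v.testBit 7)

theorem vecOf_xor (a b : ℕ) : vecOf (a ^^^ b) = vecOf a + vecOf b := by
  funext i
  simp only [vecOf, Pi.add_apply, Nat.testBit_xor]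
  cases a.testBit (enc8 i) <;> cases b.testBit (enc8 i) <;> decide

theorem vecOf_zero : vecOf 0 = 0 := by
  funext i
  simp [vecOf]

/-- a term of a combination -/
def sel (S i x : ℕ) : ℕ := bif S.testBit i then x else 0

/-- the combination of eight codes selected by the bits of `S` -/
def cmb (S x0 x1 x2 x3 z0 z1 z2 z3 : ℕ) : ℕ :=
  sel S 0 x0 ^^^ sel S 1 x1 ^^^ sel S 2 x2 ^^^ sel S 3 x3 ^^^ sel S 4 z0 ^^^ sel S 5 z1
    ^^^ sel S 6 z2 ^^^ sel S 7 z3

theorem sel_map (G : M8) {x x' : ℕ} (h : G *ᵥ vecOf x = vecOf x') (S i : ℕ) :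
    G *ᵥ vecOf (sel S i x) = vecOf (sel S i x') := by
  unfold sel
  cases S.testBit i
  · simp [vecOf_zero]
  · simpa using h

theorem xor_map (G : M8) {a a' b b' : ℕ} (ha : G *ᵥ vecOf a = vecOf a')
    (hb : G *ᵥ vecOf b = vecOf b') : G *ᵥ vecOf (a ^^^ b) = vecOf (a' ^^^ b') := by
  rw [vecOf_xor, vecOf_xor, Matrix.mulVec_add, ha, hb]

theorem cmb_map (G : M8) {x0 x1 x2 x3 z0 z1 z2 z3 y0 y1 y2 y3 w0 w1 w2 w3 : ℕ}
    (h0 : G *ᵥ vecOf x0 = vecOf y0) (h1 : G *ᵥ vecOf x1 = vecOf y1)
    (h2 : G *ᵥ vecOf x2 = vecOf y2) (h3 : G *ᵥ vecOf x3 = vecOf y3)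
    (h4 : G *ᵥ vecOf z0 = vecOf w0) (h5 : G *ᵥ vecOf z1 = vecOf w1)
    (h6 : G *ᵥ vecOf z2 = vecOf w2) (h7 : G *ᵥ vecOf z3 = vecOf w3) (S : ℕ) :
    G *ᵥ vecOf (cmb S x0 x1 x2 x3 z0 z1 z2 z3) = vecOf (cmb S y0 y1 y2 y3 w0 w1 w2 w3) := by
  unfold cmb
  exact xor_map G (xor_map G (xor_map G (xor_map G (xor_map G (xor_map G (xor_map G
    (sel_map G h0 S 0) (sel_map G h1 S 1)) (sel_map G h2 S 2)) (sel_map G h3 S 3))
    (sel_map G h4 S 4)) (sel_map G h5 S 5)) (sel_map G h6 S 6)) (sel_map G h7 S 7)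

theorem step (G : M8) (hG : G * matOf acode = matOf acode * G) {x x' : ℕ} (hx : x < 256)
    (hx' : x' < 256) (h : G *ᵥ vecOf x = vecOf x') : G *ᵥ vecOf (mT x) = vecOf (mT x') := by
  rw [mT_vec hx, mT_vec hx', Matrix.mulVec_mulVec, hG, ← Matrix.mulVec_mulVec, h]

/-- the combination for the images `u`, `w` of the two basis vectors -/
def cmbOf (S u w : ℕ) : ℕ :=
  cmb S u (mT u) (mT (mT u)) (mT (mT (mT u))) w (mT w) (mT (mT w)) (mT (mT (mT w)))

/-- the test of a pair of codes on one combination -/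
def chk (u w S : ℕ) : Bool := qT (cmbOf S u w) == qT (cmbOf S 1 2)

/-- the test of a pair of codes -/
noncomputable def cond (u w : ℕ) : Bool := allB 256 (chk u w)

/-- membership in a list of numbers -/
def memN (L : List ℕ) (k : ℕ) : Bool := L.any (fun a => Nat.beq a k)

theorem memN_iff (L : List ℕ) (k : ℕ) : memN L k = true ↔ k ∈ L := by
  unfold memN
  rw [List.any_eq_true]
  constructor
  · rintro ⟨a, ha, h⟩
    rw [← Nat.eq_of_beq_eq_true h]
    exact ha
  · intro h
    exact ⟨k, h, Nat.beq_refl k⟩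

/-- the codes `256 * u + w` of the pairs passing the test -/
def LL : List ℕ := [258, 330, 426, 431, 448, 515, 578, 592, 607, 644, 769, 898, 974, 1013, 1023, 1290, 1370, 1414, 1415, 1532, 2575, 2632, 2635, 2642, 2720, 3845, 4014, 4045, 4047, 4090, 4667, 4696, 4698, 4719, 4752, 6711, 6720, 6730, 6779, 6836, 10514, 10578, 10627, 10670, 10716, 11546, 11586, 11650, 11691, 11744, 14125, 14250, 14315, 14326, 14329, 15145, 15238, 15297, 15298, 15323, 16386, 16474, 16544, 16578, 16619, 16650, 16801, 16832, 16834, 16885, 16906, 16960, 17007, 17089, 17151, 18450, 18498, 18612, 18638, 18639, 18962, 19019, 19024, 19149, 19179, 19201, 19265, 19344, 19389, 19407, 20506, 20562, 20624, 20730, 20735, 20994, 21080, 21115, 21199, 21241, 22538, 22602, 22660, 22747, 22774, 23066, 23112, 23135, 23259, 23285, 23810, 23937, 24013, 24054, 24060, 24325, 24413, 24477, 24500, 24575, 24858, 24989, 25025, 25038, 25052, 28461, 28541, 28576, 28577, 28635, 31529, 31585, 31617, 31620, 31723, 32018,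 32189, 32224, 32249, 32250, 33027, 33089, 33114, 33244, 33274, 33285, 33298, 33344, 33409, 33455, 33541, 33601, 33602, 33624, 33706, 33867, 33917, 33926, 34012, 34047, 34306, 34349, 34376, 34435, 34493, 34601, 34632, 34634, 34685, 34690, 36957, 36987, 36994, 37056, 37083, 40247, 40274, 40317, 40386, 40444, 41055, 41057, 41130, 41167, 41184, 41231, 41290, 41309, 41422, 41440, 43530, 43561, 43600, 43677, 43691, 43777, 43840, 43858, 43869, 43910, 44545, 44570, 44632, 44679, 44705, 44845, 44880, 44890, 44897, 44974, 46145, 46191, 46254, 46315, 46332, 48443, 48450, 48481, 48576, 48630, 49167, 49232, 49277, 49281, 49345, 49409, 49463, 49539, 49568, 49658, 49679, 49759, 49794, 49795, 49913, 52483, 52525, 52615, 52624, 52674, 52791, 52847, 52870, 52911, 52941, 53103, 53124, 53127, 53149, 53184, 56139, 56193, 56195, 56244, 56288, 56375, 56408, 56413, 56509, 56565, 57403, 57408, 57409, 57501, 57549, 60255, 60304, 60321, 60331, 60380, 62735, 62761, 62895, 62900, 62966, 62979,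 63051, 63147, 63150, 63169, 63749, 63803, 63876, 63915, 63950, 64059, 64123, 64135, 64170, 64245, 64515, 64584, 64609, 64673, 64761, 65403, 65440, 65455, 65469, 65532]

theorem LL_length : LL.length = 300 := by decide +kernel

theorem scan_ok :
    allB 256 (fun u => allB 256 (fun w => !(cond u w) || memN LL (256 * u + w))) = true := by
  decide +kernel

/-- combinations giving the basis vectors -/
def unitS (j : ℕ) : ℕ := [1, 16, 223, 243, 107, 229, 100, 39].getD j 0

theorem unit_ok : ∀ j : Fin 8, cmbOf (unitS j) 1 2 = 2 ^ (j : ℕ) := by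
  decide +kernel

theorem single_ok : ∀ k : I8, ∀ i : I8, vecOf (2 ^ enc8 k) i = (Pi.single k 1 : V8) i := by
  decide +kernel

theorem enc8_lt (k : I8) : enc8 k < 8 := by
  rcases k with a | a <;> simp only [enc8] <;> omega

/-- the code of a vector -/
def pk (c : V8) : ℕ :=
  (c (Sum.inl 0)).val + 2 * (c (Sum.inl 1)).val + 4 * (c (Sum.inl 2)).val
    + 8 * (c (Sum.inl 3)).val + 16 * (c (Sum.inr 0)).val + 32 * (c (Sum.inr 1)).val
    + 64 * (c (Sum.inr 2)).val + 128 * (c (Sum.inr 3)).val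

theorem pk_key : ∀ (a0 a1 a2 a3 a4 a5 a6 a7 : ZMod 2) (i : I8),
    vecOf (a0.val + 2 * a1.val + 4 * a2.val + 8 * a3.val + 16 * a4.val + 32 * a5.val
      + 64 * a6.val + 128 * a7.val) i
    = (Sum.elim ![a0, a1, a2, a3] ![a4, a5, a6, a7] : V8) i := by
  decide +kernel

theorem pk_lt_key : ∀ (a0 a1 a2 a3 a4 a5 a6 a7 : ZMod 2),
    a0.val + 2 * a1.val + 4 * a2.val + 8 * a3.val + 16 * a4.val + 32 * a5.val
      + 64 * a6.val + 128 * a7.val < 256 := by
  decide +kernel

theorem vecOf_pk (c : V8) : vecOf (pk c) = c := by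
  funext i
  unfold pk
  rw [pk_key]
  rcases i with i | i <;> fin_cases i <;> rfl

theorem pk_lt (c : V8) : pk c < 256 := pk_lt_key _ _ _ _ _ _ _ _

theorem bool_of_if {a b : Bool}
    (h : (if a = true then (1 : ZMod 2) else 0) = if b = true then 1 else 0) : a = b := by
  cases a <;> cases b <;> first | rfl | exact absurd h (by decide)

theorem main : Cent := by
  intro x hx
  have hcomm : ∀ g : ↥(Subgroup.centralizer ({x} : Set O8)),
      mx (g : O8) * matOf acode = matOf acode * mx (g : O8) := by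
    intro g
    have h := Subgroup.mem_centralizer_iff.mp g.2 x rfl
    have h2 : mx (x * (g : O8)) = mx ((g : O8) * x) := congrArg mx h
    rw [mx_mul, mx_mul] at h2
    have hx' : mx x = matOf acode := hx
    rw [hx'] at h2
    exact h2.symm
  have hiso : ∀ g : ↥(Subgroup.centralizer ({x} : Set O8)), ∀ v : V8,
      Cfsg.quadFormPlus 4 (ZMod 2) (mx (g : O8) *ᵥ v) = Cfsg.quadFormPlus 4 (ZMod 2) v :=
    fun g v => (g : O8).2 v v
  -- the facts about one element
  have key : ∀ g : ↥(Subgroup.centralizer ({x} : Set O8)), ∀ S : ℕ,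
      mx (g : O8) *ᵥ vecOf (cmbOf S 1 2)
        = vecOf (cmbOf S (pk (mx (g : O8) *ᵥ vecOf 1)) (pk (mx (g : O8) *ᵥ vecOf 2))) := by
    intro g S
    have hG := hcomm g
    have hU : mx (g : O8) *ᵥ vecOf 1 = vecOf (pk (mx (g : O8) *ᵥ vecOf 1)) := (vecOf_pk _).symm
    have hW : mx (g : O8) *ᵥ vecOf 2 = vecOf (pk (mx (g : O8) *ᵥ vecOf 2)) := (vecOf_pk _).symm
    have l1 : (1 : ℕ) < 256 := by norm_num
    have l2 : (2 : ℕ) < 256 := by norm_num
    have lU := pk_lt (mx (g : O8) *ᵥ vecOf 1)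
    have lW := pk_lt (mx (g : O8) *ᵥ vecOf 2)
    have hU1 := step _ hG l1 lU hU
    have hU2 := step _ hG (mT_lt' l1) (mT_lt' lU) hU1
    have hU3 := step _ hG (mT_lt' (mT_lt' l1)) (mT_lt' (mT_lt' lU)) hU2
    have hW1 := step _ hG l2 lW hW
    have hW2 := step _ hG (mT_lt' l2) (mT_lt' lW) hW1
    have hW3 := step _ hG (mT_lt' (mT_lt' l2)) (mT_lt' (mT_lt' lW)) hW2
    exact cmb_map _ hU hU1 hU2 hU3 hW hW1 hW2 hW3 S
  have hmem : ∀ g : ↥(Subgroup.centralizer ({x} : Set O8)),
      256 * pk (mx (g : O8) *ᵥ vecOf 1) + pk (mx (g : O8) *ᵥ vecOf 2) ∈ LL := by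
    intro g
    have hc : cond (pk (mx (g : O8) *ᵥ vecOf 1)) (pk (mx (g : O8) *ᵥ vecOf 2)) = true := by
      unfold cond
      rw [allB_iff]
      intro S _
      unfold chk
      rw [beq_iff_eq]
      apply bool_of_if
      rw [← qT_ok, ← qT_ok, ← key g S]
      exact hiso g _
    have h1 := (allB_iff _ _).mp scan_ok _ (pk_lt (mx (g : O8) *ᵥ vecOf 1))
    have h2 := (allB_iff _ _).mp h1 _ (pk_lt (mx (g : O8) *ᵥ vecOf 2))
    rw [hc] at h2
    exact (memN_iff _ _).mp (by simpa using h2)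
  -- the map to the list is injective
  have hinj : Function.Injective (fun g : ↥(Subgroup.centralizer ({x} : Set O8)) =>
      (⟨256 * pk (mx (g : O8) *ᵥ vecOf 1) + pk (mx (g : O8) *ᵥ vecOf 2),
        List.mem_toFinset.mpr (hmem g)⟩ : ↥LL.toFinset)) := by
    intro g g' h
    have h0 : 256 * pk (mx (g : O8) *ᵥ vecOf 1) + pk (mx (g : O8) *ᵥ vecOf 2)
        = 256 * pk (mx (g' : O8) *ᵥ vecOf 1) + pk (mx (g' : O8) *ᵥ vecOf 2) :=
      congrArg Subtype.val h
    have b1 := pk_lt (mx (g : O8) *ᵥ vecOf 2)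
    have b2 := pk_lt (mx (g' : O8) *ᵥ vecOf 2)
    have e1 : pk (mx (g : O8) *ᵥ vecOf 1) = pk (mx (g' : O8) *ᵥ vecOf 1) := by omega
    have e2 : pk (mx (g : O8) *ᵥ vecOf 2) = pk (mx (g' : O8) *ᵥ vecOf 2) := by omega
    have hcol : ∀ k : I8, mx (g : O8) *ᵥ (Pi.single k 1 : V8)
        = mx (g' : O8) *ᵥ (Pi.single k 1 : V8) := by
      intro k
      have hs : (Pi.single k 1 : V8) = vecOf (cmbOf (unitS (enc8 k)) 1 2) := by
        rw [unit_ok ⟨enc8 k, enc8_lt k⟩]
        funext i
        exact (single_ok k i).symm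
      rw [hs, key g, key g', e1, e2]
    have hmt : mx (g : O8) = mx (g' : O8) := by
      ext i k
      have h3 := congrFun (hcol k) i
      rw [Matrix.mulVec_single_one, Matrix.mulVec_single_one] at h3
      exact h3
    exact Subtype.ext (Subtype.ext (Units.ext hmt))
  have hcard := Nat.card_le_card_of_injective _ hinj
  have h2 : Nat.card ↥LL.toFinset ≤ 300 := by
    rw [Nat.card_eq_fintype_card, Fintype.card_coe, ← LL_length]
    exact List.toFinset_card_le LL
  exact hcard.trans h2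

end Cfsg.Agent.Lib.Helper27.JzCENT
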