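import Cfsg.Agent.Lib.Helper27.Golay

set_option autoImplicit false

namespace Cfsg.Agent.Lib.Helper27.M24

open Cfsg Cfsg.Agent.Lib.Helper27.Bits Cfsg.Agent.Lib.Helper27.Golay
open scoped Pointwise

/-! ### permutations from packed tables -/

/-- the function on points given by a packed table with 5-bit lanes -/
def tfun (T : ℕ) (p : GolayPt) : GolayPt := pt (tget T 5 (idx p))

/-- pull back a mask along a table: bit `j` of the result is bit `T[j]` of `m` -/
noncomputable def pullAux (T m : ℕ) (n : ℕ) : ℕ :=
  Nat.rec 0 (fun k ih => Nat.lor ih (Nat.shiftLeft (Nat.mod (Nat.shiftRight m (tget T 5 k)) 2) k)) n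

/-- pull back a mask along a table -/
noncomputable def pull (T m : ℕ) : ℕ := pullAux T m 24

theorem pullAux_succ (T m n : ℕ) :
    pullAux T m (n + 1) = pullAux T m n ||| (((m >>> tget T 5 n) % 2) <<< n) := rfl

theorem testBit_pullAux (T m n j : ℕ) :
    (pullAux T m n).testBit j = (decide (j < n) && m.testBit (tget T 5 j)) := by
  induction n with
  | zero => simp [pullAux]
  | succ n ih =>
    rw [pullAux_succ, Nat.testBit_or, ih, Nat.testBit_shiftLeft]
    have h2 : (2 : ℕ) = 2 ^ 1 := rfl
    rw [h2, Nat.testBit_mod_two_pow, Nat.testBit_shiftRight]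
    by_cases h : j < n
    · have h1 : ¬ (j ≥ n) := not_le.mpr h
      have h3 : j < n + 1 := Nat.lt_succ_of_lt h
      simp [h, h1, h3]
    · by_cases h' : j = n
      · subst h'
        simp
      · have h1 : j ≥ n := not_lt.mp h
        have h3 : ¬ (j < n + 1) := by omega
        have h4 : ¬ (j - n < 1) := by omega
        simp [h, h3, h4]

theorem testBit_pull (T m j : ℕ) :
    (pull T m).testBit j = (decide (j < 24) && m.testBit (tget T 5 j)) := testBit_pullAux T m 24 j

theorem pull_lt (T m : ℕ) : pull T m < 2 ^ 24 := by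
  apply Nat.lt_pow_two_of_testBit
  intro i hi
  rw [testBit_pull]
  have : ¬ (i < 24) := not_lt.mpr hi
  simp [this]

theorem pull_xor (T a b : ℕ) : pull T (a ^^^ b) = pull T a ^^^ pull T b := by
  apply Nat.eq_of_testBit_eq
  intro i
  rw [Nat.testBit_xor, testBit_pull, testBit_pull, testBit_pull, Nat.testBit_xor]
  cases decide (i < 24) <;> simp

theorem pull_zero (T : ℕ) : pull T 0 = 0 := by
  apply Nat.eq_of_testBit_eq
  intro i
  rw [testBit_pull]
  simp

theorem pull_xorSpan (T : ℕ) (basis : ℕ → ℕ) (n c : ℕ) :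
    pull T (xorSpan basis n c) = xorSpan (fun k => pull T (basis k)) n c := by
  induction n with
  | zero => rw [xorSpan_zero, xorSpan_zero, pull_zero]
  | succ n ih =>
    rw [xorSpan_succ, xorSpan_succ]
    cases c.testBit n
    · exact ih
    · simp only [cond_true]
      rw [pull_xor, ih]

/-- the images of the table cover all 24 points -/
noncomputable def coverAux (T : ℕ) (n : ℕ) : ℕ :=
  Nat.rec 0 (fun k ih => Nat.lor ih (Nat.shiftLeft 1 (tget T 5 k))) n

theorem coverAux_succ (T n : ℕ) : coverAux T (n + 1) = coverAux T n ||| (1 <<< tget T 5 n) := rfl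

theorem testBit_coverAux (T n i : ℕ) :
    (coverAux T n).testBit i = true ↔ ∃ k < n, tget T 5 k = i := by
  induction n with
  | zero => simp [coverAux]
  | succ n ih =>
    rw [coverAux_succ, Nat.testBit_or, Bool.or_eq_true, ih, Nat.one_shiftLeft, Nat.testBit_two_pow]
    simp only [decide_eq_true_eq]
    constructor
    · rintro (⟨k, hk, h⟩ | h)
      · exact ⟨k, Nat.lt_succ_of_lt hk, h⟩
      · exact ⟨n, Nat.lt_succ_self n, h⟩
    · rintro ⟨k, hk, h⟩
      rcases Nat.lt_succ_iff_lt_or_eq.mp hk with h1 | h1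
      · exact Or.inl ⟨k, h1, h⟩
      · exact Or.inr (h1 ▸ h)

/-- validity of a permutation table -/
noncomputable def validT (T : ℕ) : Bool := Nat.beq (coverAux T 24) 16777215

theorem validT_lt {T : ℕ} (h : validT T = true) (k : ℕ) (hk : k < 24) : tget T 5 k < 24 := by
  have h1 : coverAux T 24 = 2 ^ 24 - 1 := Nat.eq_of_beq_eq_true h
  have h2 : (coverAux T 24).testBit (tget T 5 k) = true := (testBit_coverAux T 24 _).mpr ⟨k, hk, rfl⟩
  rw [h1, Nat.testBit_two_pow_sub_one] at h2
  exact of_decide_eq_true h2

theorem validT_surj {T : ℕ} (h : validT T = true) : Function.Surjective (tfun T) := by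
  intro q
  have h1 : coverAux T 24 = 2 ^ 24 - 1 := Nat.eq_of_beq_eq_true h
  have h2 : (coverAux T 24).testBit (idx q) = true := by
    rw [h1, Nat.testBit_two_pow_sub_one]
    exact decide_eq_true (idx_lt q)
  obtain ⟨k, hk, h3⟩ := (testBit_coverAux T 24 _).mp h2
  refine ⟨pt k, ?_⟩
  unfold tfun
  rw [idx_pt k hk, h3, pt_idx]

theorem validT_bij {T : ℕ} (h : validT T = true) : Function.Bijective (tfun T) :=
  ⟨Finite.injective_iff_surjective.mpr (validT_surj h), validT_surj h⟩

/-- the permutation whose inverse is the table `T` (the identity if the table is not valid) -/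
noncomputable def gperm (T : ℕ) : Equiv.Perm GolayPt :=
  if h : Function.Bijective (tfun T) then (Equiv.ofBijective (tfun T) h).symm else 1

theorem gperm_symm_apply {T : ℕ} (h : validT T = true) (p : GolayPt) :
    (gperm T).symm p = tfun T p := by
  unfold gperm
  rw [dif_pos (validT_bij h)]
  rfl

theorem gperm_apply_tfun {T : ℕ} (h : validT T = true) (p : GolayPt) :
    gperm T (tfun T p) = p := by
  rw [← gperm_symm_apply h, Equiv.apply_symm_apply]

theorem gperm_smul {T : ℕ} (h : validT T = true) (m : ℕ) :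
    gperm T • fsOf m = fsOf (pull T m) := by
  ext q
  rw [← Finset.inv_smul_mem_iff, mem_setOf, mem_setOf, testBit_pull]
  have h1 : (gperm T)⁻¹ • q = tfun T q := gperm_symm_apply h q
  rw [h1]
  unfold tfun
  rw [idx_pt _ (validT_lt h _ (idx_lt q))]
  simp [idx_lt q]

/-! ### membership in the group of the code -/

/-- a mask is a codeword -/
noncomputable def isCode (m : ℕ) : Bool := Nat.beq m (enc (m % 4096))

theorem isCode_iff {m : ℕ} (hm : m < 2 ^ 24) : isCode m = true ↔ wordOf m ∈ golayCode := by
  rw [wordOf_mem_iff hm]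
  unfold isCode
  exact ⟨Nat.eq_of_beq_eq_true, fun h => by rw [← h]; exact Nat.beq_refl m⟩

/-- the table is valid and the permutation maps the code into itself -/
noncomputable def inM24 (T : ℕ) : Bool := validT T && allB 12 (fun j => isCode (pull T (bm j)))

theorem inM24_valid {T : ℕ} (h : inM24 T = true) : validT T = true := by
  unfold inM24 at h
  exact (Bool.and_eq_true _ _ ▸ h).1

theorem pull_enc_mem {T : ℕ} (h : inM24 T = true) (c : ℕ) : wordOf (pull T (enc c)) ∈ golayCode := by
  unfold inM24 at h
  have h2 := (Bool.and_eq_true _ _ ▸ h).2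
  rw [allB_iff] at h2
  unfold enc
  rw [pull_xorSpan]
  exact xorSpan_mem _ _ _ _ (fun k hk => (isCode_iff (pull_lt _ _)).mp (h2 k hk))

theorem gperm_mem_M24 {T : ℕ} (h : inM24 T = true) : gperm T ∈ M24 := by
  have hv := inM24_valid h
  show gperm T • supports (golayCode : Set (GolayPt → ZMod 2)) = supports (golayCode : Set (GolayPt → ZMod 2))
  apply Set.eq_of_subset_of_ncard_le
  · rintro s ⟨s', hs', rfl⟩
    obtain ⟨c, _, rfl⟩ := (mem_supports_iff s').mp hs'
    show gperm T • fsOf (enc c) ∈ _
    rw [gperm_smul hv, ← support_wordOf]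
    exact ⟨_, pull_enc_mem h c, rfl⟩
  · rw [Set.ncard_smul_set]
  · exact Set.toFinite _

end Cfsg.Agent.Lib.Helper27.M24
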