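import Mathlib
import Cfsg.Prelude.Def_KGroupFacts
import Cfsg.Agent.Lib.Helper27.AutSyl

/-!
Group theory for outer automorphism groups of order two: the order of the normaliser of a
self-centralising subgroup of prime order, the transport of the order of the outer automorphism
group along an isomorphism, a criterion for this order to be two, and a criterion for a subgroup
of small index of a simple group to be the whole group.
-/

set_option autoImplicit false

namespace Cfsg.Agent.Lib.Helper27.McLGrp

open Subgroup

/-- The normaliser of a self-centralising subgroup of prime order `p` has order dividing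
`p (p - 1)`. -/
theorem norm_card_dvd {H : Type*} [Group H] [Finite H] (x : H) (p : ℕ) [hp : Fact p.Prime]
    (hx : orderOf x = p) (hcent : ∀ g : H, g * x = x * g → g ∈ zpowers x) :
    Nat.card ↥(normalizer (zpowers x : Set H)) ∣ p * (p - 1) := by
  have h1 := Subgroup.card_mul_index ((zpowers x).normalizerMonoidHom.ker)
  rw [Subgroup.index_ker] at h1
  have h2 : Nat.card ↥((zpowers x).normalizerMonoidHom.range) ∣ p - 1 := by
    have := Subgroup.card_subgroup_dvd_card ((zpowers x).normalizerMonoidHom.range)
    rw [IsCyclic.card_mulAut, Nat.card_zpowers, hx, Nat.totient_prime hp.out] at this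
    exact this
  have h3 : Nat.card ↥((zpowers x).normalizerMonoidHom.ker) ∣ p := by
    rw [normalizerMonoidHom_ker]
    have hle : centralizer (zpowers x : Set H) ≤ normalizer (zpowers x : Set H) :=
      centralizer_le_normalizer _
    rw [Nat.card_congr (Subgroup.subgroupOfEquivOfLe hle).toEquiv]
    have hle2 : centralizer (zpowers x : Set H) ≤ zpowers x := by
      intro g hg
      apply hcent
      exact (mem_centralizer_iff.mp hg x (mem_zpowers x)).symm
    have := Subgroup.card_dvd_of_le hle2
    rwa [Nat.card_zpowers, hx] at this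
  rw [← h1]
  exact Nat.mul_dvd_mul h3 h2

/-- Isomorphic groups have outer automorphism groups of the same order. -/
theorem card_out_congr {A : Type*} {B : Type*} [Group A] [Group B] (e : A ≃* B) :
    Nat.card (Cfsg.Out A) = Nat.card (Cfsg.Out B) := by
  have h : (Cfsg.Inn A).map ((MulAut.congr e : MulAut A ≃* MulAut B) : MulAut A →* MulAut B)
      = Cfsg.Inn B := by
    ext φ
    constructor
    · rintro ⟨_, ⟨a, rfl⟩, rfl⟩
      refine ⟨e a, ?_⟩
      ext b
      simp [MulAut.congr]
    · rintro ⟨b, rfl⟩
      refine ⟨MulAut.conj (e.symm b), ⟨e.symm b, rfl⟩, ?_⟩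
      ext c
      simp [MulAut.congr]
  exact Nat.card_congr (QuotientGroup.congr (Cfsg.Inn A) (Cfsg.Inn B) (MulAut.congr e) h).toEquiv

/-- A criterion for the outer automorphism group to have order two. -/
theorem card_out_two {H : Type*} [Group H] (σ : MulAut H) (hσ2 : σ * σ = 1)
    (hσ : σ ∉ Cfsg.Inn H)
    (hall : ∀ α : MulAut H, ∃ g : H, α = MulAut.conj g ∨ α = MulAut.conj g * σ) :
    Nat.card (Cfsg.Out H) = 2 := by
  have key : (Cfsg.Inn H).index = 2 := by
    rw [Subgroup.index_eq_two_iff]
    refine ⟨σ, fun b => ?_⟩
    by_cases hb : b ∈ Cfsg.Inn H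
    · refine Or.inr ⟨hb, fun h => hσ ?_⟩
      have e : σ = b⁻¹ * (b * σ) := by group
      rw [e]
      exact mul_mem (inv_mem hb) h
    · refine Or.inl ⟨?_, hb⟩
      obtain ⟨g, hg | hg⟩ := hall b
      · exact absurd ⟨g, hg.symm⟩ hb
      · rw [hg, mul_assoc, hσ2, mul_one]
        exact ⟨g, rfl⟩
  exact key

/-- A subgroup of index at most `n` of a finite simple group whose order does not divide `n!` is
the whole group. -/
theorem eq_top_of_index_le' {G : Type*} [Group G] [Finite G] [IsSimpleGroup G] (H : Subgroup G)
    (n : ℕ) (hG : ¬ Nat.card G ∣ n.factorial) (hidx : H.index ≤ n) : H = ⊤ := by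
  rcases (Subgroup.normalCore_normal H).eq_bot_or_eq_top with h | h
  · exfalso
    have h1 : H.normalCore.index ∣ H.index.factorial := by
      rw [Subgroup.normalCore_eq_ker, Subgroup.index_ker, Subgroup.index_eq_card, ← Nat.card_perm]
      exact Subgroup.card_subgroup_dvd_card (MulAction.toPermHom G (G ⧸ H)).range
    rw [h, Subgroup.index_bot] at h1
    exact hG (h1.trans (Nat.factorial_dvd_factorial hidx))
  · exact top_le_iff.mp (h ▸ Subgroup.normalCore_le H)

end Cfsg.Agent.Lib.Helper27.McLGrp
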