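import Mathlib
import Cfsg.Prelude.Def_Sporadic_a
import Cfsg.Agent.Lib.Helper27.McLOrb
import Cfsg.Agent.Lib.Helper27.McLGrp
import Cfsg.Agent.Lib.Helper27.SimpMcL
import Cfsg.Agent.Lib.Helper27.Co3Gen

/-!
The joint stabiliser of `v0 = (4, 4, 0, ..., 0)` and `w0 = (-3, 1, ..., 1)` is generated by the
three automorphisms `e0`, `e2`, `e3`: a subgroup containing them has index at most 12 in it, by
three orbit certificates inside the subgroup, and the stabiliser is simple of order not dividing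
`12!`.
-/

set_option autoImplicit false
set_option maxRecDepth 100000

namespace Cfsg.Agent.Lib.Helper27.McLGen

open Cfsg Cfsg.Agent.Lib.Helper27.Bits Cfsg.Agent.Lib.Helper27.Pk
open Cfsg.Agent.Lib.Helper27.MinTab Cfsg.Agent.Lib.Helper27.MinEnum Cfsg.Agent.Lib.Helper27.MinFast
open Cfsg.Agent.Lib.Helper27.MinAll Cfsg.Agent.Lib.Helper27.LDot Cfsg.Agent.Lib.Helper27.LMat
open Cfsg.Agent.Lib.Helper27.Spread Cfsg.Agent.Lib.Helper27.Co0Act Cfsg.Agent.Lib.Helper27.LApp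
open Cfsg.Agent.Lib.Helper27.OrbCert Cfsg.Agent.Lib.Helper27.Chunk Cfsg.Agent.Lib.Helper27.CoGlue
open Cfsg.Agent.Lib.Helper27.Invol Cfsg.Agent.Lib.Helper27.SlpLib Cfsg.Agent.Lib.Helper27.CertBase
open Cfsg.Agent.Lib.Helper27.McLSlp1 Cfsg.Agent.Lib.Helper27.McLSlp2
open Cfsg.Agent.Lib.Helper27.CoStd Cfsg.Agent.Lib.Helper27.SimpGlue
open Cfsg.Agent.Lib.Helper27.SimpleCrit
open Cfsg.Agent.Lib.Helper27.SimpM22 Cfsg.Agent.Lib.Helper27.SimpHS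
open Cfsg.Agent.Lib.Helper27.SimpMcL
open MulAction

theorem m22_of (h : Co0) (hh : h ∈ stabilizer Co0 v0 ⊓ stabilizer Co0 w0) (hx : h • xB = xB) :
    h ∈ stabilizer Co0 u0 ⊓ stabilizer Co0 x1 ⊓ stabilizer Co0 y0 := by
  rw [← m22b_eq]
  exact (mem_m22b h).mpr ⟨((mem_mcl h).mp hh).1, ((mem_mcl h).mp hh).2, hx⟩

/-- A subgroup containing `e0`, `e2`, `e3` contains the stabiliser of `v0` and `w0`. -/
theorem gen_leM (K : Subgroup Co0) (h0 : e0 ∈ K) (h2 : e2 ∈ K) (h3 : e3 ∈ K) :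
    stabilizer Co0 v0 ⊓ stabilizer Co0 w0 ≤ K := by
  classical
  have := co0_finite
  have cQ := card_stab_mul (K ⊓ (stabilizer Co0 v0 ⊓ stabilizer Co0 w0)) xB (OmL CertMcL.cQ)
    xB_om (fun h hh a ha => mcl_inv h hh.2 a ha)
    (fun a ha => by
      obtain ⟨g, hg, e, hf⟩ := transK (McLOrb.rfQ K h0 h2 h3) xB a xB_om ha
      exact ⟨g, ⟨hg, (mem_mcl g).mpr ⟨hf v0 ⟨V0, by simp, rfl⟩, hf w0 ⟨W0, by simp, rfl⟩⟩⟩, e⟩)
    2025 (by rw [ncard_omL]; exact CertMcL.cardQ)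
  have cM := card_stab_mul
    (K ⊓ (stabilizer Co0 v0 ⊓ stabilizer Co0 w0) ⊓ stabilizer Co0 xB) y1 (OmL CertM22.cM1) y1_om
    (fun h hh a ha => l34_inv h (m22_of h hh.1.2 (mem_stabilizer_iff.mp hh.2)) a ha)
    (fun a ha => by
      obtain ⟨g, hg, e, hf⟩ := transK (McLOrb.rfM K h0 h2 h3) y1 a y1_om ha
      exact ⟨g, ⟨⟨hg, (mem_mcl g).mpr ⟨hf v0 ⟨V0, by simp, rfl⟩, hf w0 ⟨W0, by simp, rfl⟩⟩⟩,
        mem_stabilizer_iff.mpr (hf xB ⟨XB, by simp, rfl⟩)⟩, e⟩)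
    22 (by rw [ncard_omL]; exact CertM22.cardM1)
  have cZ := card_stab_mul
    (K ⊓ (stabilizer Co0 v0 ⊓ stabilizer Co0 w0) ⊓ stabilizer Co0 xB ⊓ stabilizer Co0 y1)
    Co3Gen.z0 (OmL Co3OrbB.cZ) Co3Gen.z0_om
    (fun h hh a ha => by
      obtain ⟨q1, q2, q3⟩ := (mem_m22 h).mp (m22_of h hh.1.1.2 (mem_stabilizer_iff.mp hh.1.2))
      exact Co3Gen.z_inv h q1 q2 q3 (mem_stabilizer_iff.mp hh.2) a ha)
    (fun a ha => by
      obtain ⟨g, hg, e, hf⟩ := transK (McLOrb.rfZ K h0 h2 h3) Co3Gen.z0 a Co3Gen.z0_om ha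
      exact ⟨g, ⟨⟨⟨hg, (mem_mcl g).mpr ⟨hf v0 ⟨V0, by simp, rfl⟩, hf w0 ⟨W0, by simp, rfl⟩⟩⟩,
        mem_stabilizer_iff.mpr (hf xB ⟨XB, by simp, rfl⟩)⟩,
        mem_stabilizer_iff.mpr (hf y1 ⟨CertL34.Y1, by simp, rfl⟩)⟩, e⟩)
    1680 (by rw [ncard_omL]; exact Co3OrbB.cardZ)
  have hpos : 0 < Nat.card ↥(K ⊓ (stabilizer Co0 v0 ⊓ stabilizer Co0 w0) ⊓ stabilizer Co0 xB ⊓
      stabilizer Co0 y1 ⊓ stabilizer Co0 Co3Gen.z0) := Nat.card_pos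
  have hbig : 74844000 ≤ Nat.card ↥(K ⊓ (stabilizer Co0 v0 ⊓ stabilizer Co0 w0)) := by
    rw [← cQ, ← cM, ← cZ]
    omega
  have hsimple := mcl_simple
  have hcardH' : Nat.card ↥((K ⊓ (stabilizer Co0 v0 ⊓ stabilizer Co0 w0)).subgroupOf
      (stabilizer Co0 v0 ⊓ stabilizer Co0 w0))
      = Nat.card ↥(K ⊓ (stabilizer Co0 v0 ⊓ stabilizer Co0 w0)) :=
    Nat.card_congr (Subgroup.subgroupOfEquivOfLe inf_le_right).toEquiv
  have hidx : ((K ⊓ (stabilizer Co0 v0 ⊓ stabilizer Co0 w0)).subgroupOf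
      (stabilizer Co0 v0 ⊓ stabilizer Co0 w0)).index ≤ 12 := by
    have h := ((K ⊓ (stabilizer Co0 v0 ⊓ stabilizer Co0 w0)).subgroupOf
      (stabilizer Co0 v0 ⊓ stabilizer Co0 w0)).card_mul_index
    rw [hcardH', card_mcl] at h
    by_contra hlt
    push_neg at hlt
    have h13 : 74844000 * 13 ≤ Nat.card ↥(K ⊓ (stabilizer Co0 v0 ⊓ stabilizer Co0 w0)) *
        ((K ⊓ (stabilizer Co0 v0 ⊓ stabilizer Co0 w0)).subgroupOf
          (stabilizer Co0 v0 ⊓ stabilizer Co0 w0)).index :=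
      Nat.mul_le_mul hbig hlt
    omega
  have htop := Cfsg.Agent.Lib.Helper27.McLGrp.eq_top_of_index_le'
    ((K ⊓ (stabilizer Co0 v0 ⊓ stabilizer Co0 w0)).subgroupOf
      (stabilizer Co0 v0 ⊓ stabilizer Co0 w0)) 12
    (by rw [card_mcl]; decide) hidx
  intro g hg
  have hm : (⟨g, hg⟩ : ↥(stabilizer Co0 v0 ⊓ stabilizer Co0 w0)) ∈
      (K ⊓ (stabilizer Co0 v0 ⊓ stabilizer Co0 w0)).subgroupOf
        (stabilizer Co0 v0 ⊓ stabilizer Co0 w0) := by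
    rw [htop]
    trivial
  exact (Subgroup.mem_subgroupOf.mp hm).1

end Cfsg.Agent.Lib.Helper27.McLGen
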