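import Mathlib
import Cfsg.Prelude.Def_Sporadic_a
import Cfsg.Prelude.Def_Spor_Conway
import Cfsg.Prelude.Def_KGroupFacts
import Cfsg.Agent.Lib.Helper27.McLCent
import Cfsg.Agent.Lib.Helper27.McLGen
import Cfsg.Agent.Lib.Helper27.McLGrp
import Cfsg.Agent.Lib.Helper27.AutSyl2
import Cfsg.Agent.Lib.Helper27.Co3Out
import Cfsg.Agent.Lib.Helper27.Co2Out

/-!
The outer automorphism group of the joint stabiliser `M` of `v0 = (4, 4, 0, ..., 0)` and
`w0 = (-3, 1, ..., 1)` has order two.  `M` is generated by `e0` of order 11, `e2` of order 5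
normalising it and `e3` of order 5 commuting with `e2`; the automorphism `e1` of the lattice
exchanges `v0` and `w0`, commutes with `e0` and `e2` and inverts `e3`.  An automorphism of `M` is,
up to an inner one, the identity on `e2`, maps `e0` to itself or its inverse and `e3` into the
centraliser of `e2`; the relations `(e0 e3) ^ 7 = 1` and `(e0 e3 e2) ^ 9 = 1` leave only the
identity and the conjugation by `e1`.
-/

set_option autoImplicit false
set_option maxRecDepth 100000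

namespace Cfsg.Agent.Lib.Helper27.McLOut

open Cfsg Cfsg.Agent.Lib.Helper27.Bits Cfsg.Agent.Lib.Helper27.Pk
open Cfsg.Agent.Lib.Helper27.MinTab Cfsg.Agent.Lib.Helper27.MinEnum Cfsg.Agent.Lib.Helper27.MinFast
open Cfsg.Agent.Lib.Helper27.MinAll Cfsg.Agent.Lib.Helper27.LDot Cfsg.Agent.Lib.Helper27.LMat
open Cfsg.Agent.Lib.Helper27.Spread Cfsg.Agent.Lib.Helper27.Co0Act Cfsg.Agent.Lib.Helper27.LApp
open Cfsg.Agent.Lib.Helper27.OrbCert Cfsg.Agent.Lib.Helper27.Chunk Cfsg.Agent.Lib.Helper27.CoGlue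
open Cfsg.Agent.Lib.Helper27.Invol Cfsg.Agent.Lib.Helper27.SlpLib Cfsg.Agent.Lib.Helper27.CertBase
open Cfsg.Agent.Lib.Helper27.McLSlp1 Cfsg.Agent.Lib.Helper27.McLSlp2
open Cfsg.Agent.Lib.Helper27.McLRel Cfsg.Agent.Lib.Helper27.McLCent
open Cfsg.Agent.Lib.Helper27.McLGen Cfsg.Agent.Lib.Helper27.McLGrp
open Cfsg.Agent.Lib.Helper27.CoStd Cfsg.Agent.Lib.Helper27.SimpGlue
open Cfsg.Agent.Lib.Helper27.SimpleCrit
open Cfsg.Agent.Lib.Helper27.SimpM22 Cfsg.Agent.Lib.Helper27.SimpMcL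
open Cfsg.Agent.Lib.Helper27.AutSyl Cfsg.Agent.Lib.Helper27.AutSyl2
open MulAction

/-- the joint stabiliser of `v0` and `w0` -/
abbrev MG : Subgroup Co0 := stabilizer Co0 v0 ⊓ stabilizer Co0 w0

/-! ### Arithmetic modulo 11 -/

theorem hr11 : ∀ j : ℕ, 3 ^ j ≡ 3 [MOD 11] → j ≡ 1 [MOD 5] := by
  intro j h
  have h5 : (3 : ℕ) ^ 5 ≡ 1 [MOD 11] := by decide
  have e : 3 ^ j ≡ 3 ^ (j % 5) [MOD 11] := by
    have h1 := (h5.pow (j / 5)).mul_right (3 ^ (j % 5))
    rw [← pow_mul, ← pow_add, Nat.div_add_mod, one_pow, one_mul] at h1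
    exact h1
  have h2 : 3 ^ (j % 5) % 11 = 3 % 11 := e.symm.trans h
  have key : ∀ b : Fin 5, 3 ^ b.1 % 11 = 3 % 11 → b.1 = 1 := by decide
  have h3 := key ⟨j % 5, Nat.mod_lt _ (by norm_num)⟩ h2
  show j % 5 = 1 % 5
  exact h3

theorem hk11 : ∀ k : ℕ, ¬ 11 ∣ k →
    ∃ i : ℕ, k * 3 ^ i ≡ 1 [MOD 11] ∨ k * 3 ^ i ≡ 11 - 1 [MOD 11] := by
  intro k hk
  have key : ∀ m : Fin 11, m.1 ≠ 0 →
      ∃ i : Fin 5, (m.1 * 3 ^ i.1) % 11 = 1 % 11 ∨ (m.1 * 3 ^ i.1) % 11 = (11 - 1) % 11 := by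
    decide
  obtain ⟨i, hi⟩ := key ⟨k % 11, Nat.mod_lt _ (by norm_num)⟩
    (fun h => hk (Nat.dvd_of_mod_eq_zero h))
  refine ⟨i.1, ?_⟩
  have e : k * 3 ^ i.1 ≡ (k % 11) * 3 ^ i.1 [MOD 11] := (Nat.mod_modEq k 11).symm.mul_right _
  rcases hi with hi | hi
  · left
    exact e.trans hi
  · right
    exact e.trans hi

/-! ### The three generators in the stabiliser -/

theorem x_mem : e0 ∈ MG := (mem_mcl e0).mpr ⟨fix_x.1, fix_x.2.1⟩

theorem y_mem : e2 ∈ MG := (mem_mcl e2).mpr ⟨fix_y.1, fix_y.2.1⟩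

theorem z_mem : e3 ∈ MG := (mem_mcl e3).mpr ⟨fix_z.1, fix_z.2⟩

/-- the automorphism of order 11 -/
noncomputable def xg : ↥MG := ⟨e0, x_mem⟩

/-- the automorphism of order 5 normalising it -/
noncomputable def yg : ↥MG := ⟨e2, y_mem⟩

/-- the automorphism of order 5 commuting with `yg` -/
noncomputable def zg : ↥MG := ⟨e3, z_mem⟩

theorem ox : orderOf xg = 11 := by
  have : Fact (Nat.Prime 11) := ⟨by norm_num⟩
  unfold xg
  rw [Subgroup.orderOf_mk]
  exact orderOf_eq_prime x_pow x_ne_one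

theorem oy : orderOf yg = 5 := by
  have : Fact (Nat.Prime 5) := ⟨by norm_num⟩
  unfold yg
  rw [Subgroup.orderOf_mk]
  exact orderOf_eq_prime y_pow y_ne_one

theorem relg : yg * xg * yg⁻¹ = xg ^ 3 := Subtype.ext rel_yx

/-- The normaliser of the subgroup of order 11 has order not divisible by 25. -/
theorem norm_card :
    ¬ 5 ^ 2 ∣ Nat.card ↥(Subgroup.normalizer (Subgroup.zpowers xg : Set ↥MG)) := by
  have := co0_finite
  have : Fact (Nat.Prime 11) := ⟨by norm_num⟩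
  have h : Nat.card ↥(Subgroup.normalizer (Subgroup.zpowers xg : Set ↥MG)) ∣ 11 * (11 - 1) := by
    apply norm_card_dvd xg 11 ox
    intro g hg
    have hc : g.1 * e0 = e0 * g.1 := congrArg Subtype.val hg
    obtain ⟨n, hn⟩ := Subgroup.mem_zpowers_iff.mp (cent_x g.1 g.2 hc)
    refine Subgroup.mem_zpowers_iff.mpr ⟨n, Subtype.ext ?_⟩
    rw [Subgroup.coe_zpow]
    exact hn
  intro h5
  have h6 := h5.trans h
  norm_num at h6

/-- Up to an inner automorphism, an automorphism fixes `yg` and maps `xg` to itself or to its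
inverse. -/
theorem reduce (α : MulAut ↥MG) : ∃ g : ↥MG, ∃ β : MulAut ↥MG,
    α = MulAut.conj g * β ∧ β yg = yg ∧ (β xg = xg ∨ β xg = xg⁻¹) := by
  have := co0_finite
  have : Fact (Nat.Prime 11) := ⟨by norm_num⟩
  have : Fact (Nat.Prime 5) := ⟨by norm_num⟩
  exact aut_reduce 11 5 (by rw [card_mcl]; norm_num) xg yg norm_card ox oy 3 relg hr11 hk11 α

/-- `e3` moves the vector `xB`. -/
theorem z_moves : e3 • xB ≠ xB := by
  intro h
  have h1 : ((e3 • xB : leechLattice) : GolayPt → ℤ) = vecL (laneRef 3842) :=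
    app_code c3 (by decide) (by decide) (by decide) (by decide) chkMoveZ xB xB_code
  rw [h, xB_code] at h1
  have := mv_inj (show 5 < KTOT by decide) (by decide) (show 3842 < KTOT by decide) (by decide) h1
  omega

/-- The image of `zg` under an automorphism fixing `yg`. -/
theorem bz (β : MulAut ↥MG) (hy : β yg = yg) :
    ∃ k, 1 ≤ k ∧ k < 5 ∧ ∃ m, m < 5 ∧ (β zg).1 = e3 ^ k * e2 ^ m := by
  have hc : β zg * yg = yg * β zg := by
    have h : zg * yg = yg * zg := Subtype.ext comm_yz.symm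
    have := congrArg β h
    rw [map_mul, map_mul, hy] at this
    exact this
  obtain ⟨k, hk5, m, hm⟩ := cent_y5 (β zg).1 (β zg).2 (congrArg Subtype.val hc)
  refine ⟨k, ?_, hk5, m % 5, Nat.mod_lt _ (by norm_num), ?_⟩
  · by_contra h0
    have hk0 : k = 0 := by omega
    rw [hk0, pow_zero, one_mul] at hm
    have h1 : β zg = β (yg ^ m) := by
      rw [map_pow, hy]
      exact Subtype.ext hm
    have h2 : zg = yg ^ m := β.injective h1
    have h3 : e3 = e2 ^ m := congrArg Subtype.val h2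
    apply z_moves
    rw [h3]
    exact mem_stabilizer_iff.mp (pow_mem (mem_stabilizer_iff.mpr fix_y.2.2) m)
  · rw [hm, pow_eq_pow_mod m y_pow]

/-- Two automorphisms agreeing on the three generators are equal. -/
theorem aut_eq (β γ : MulAut ↥MG) (hx : β xg = γ xg) (hy : β yg = γ yg) (hz : β zg = γ zg) :
    β = γ := by
  let K' : Subgroup ↥MG := MonoidHom.eqLocus β.toMonoidHom γ.toMonoidHom
  have hle := gen_leM (K'.map (Subgroup.subtype _))
    (Subgroup.mem_map.mpr ⟨xg, hx, rfl⟩) (Subgroup.mem_map.mpr ⟨yg, hy, rfl⟩)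
    (Subgroup.mem_map.mpr ⟨zg, hz, rfl⟩)
  ext g
  obtain ⟨g', hg', e⟩ := Subgroup.mem_map.mp (hle g.2)
  have e' : g' = g := Subtype.ext e
  rw [e'] at hg'
  have h : β g = γ g := hg'
  rw [h]

/-! ### The outer automorphism -/

theorem sig_mem (x : Co0) : x ∈ MG ↔ e1 * x * e1⁻¹ ∈ MG := by
  rw [mem_mcl, mem_mcl, conj_fix e1 x swap_t.2, conj_fix e1 x swap_t.1]
  exact and_comm

/-- the conjugation by `e1` -/
noncomputable def sig : MulAut ↥MG := conjEquiv MG MG e1 sig_mem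

theorem sig_val (a : ↥MG) : (sig a).1 = e1 * a.1 * e1⁻¹ := rfl

theorem t_inv : e1⁻¹ = e1 := inv_eq_of_mul_eq_one_left t_sq

theorem sig_sq : sig * sig = 1 := by
  apply MulEquiv.ext
  intro a
  apply Subtype.ext
  show e1 * (e1 * a.1 * e1⁻¹) * e1⁻¹ = a.1
  rw [t_inv]
  have h : e1 * (e1 * a.1 * e1) * e1 = (e1 * e1) * a.1 * (e1 * e1) := by group
  rw [h, t_sq, one_mul, mul_one]

theorem sig_x : sig xg = xg := by
  apply Subtype.ext
  show e1 * e0 * e1⁻¹ = e0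
  rw [comm_tx, mul_inv_cancel_right]

theorem sig_y : sig yg = yg := by
  apply Subtype.ext
  show e1 * e2 * e1⁻¹ = e2
  rw [comm_ty, mul_inv_cancel_right]

theorem sig_z : (sig zg).1 = e3 ^ 4 := by
  show e1 * e3 * e1⁻¹ = e3 ^ 4
  rw [rel_tz, mul_inv_cancel_right]

theorem v0_ne_w0 : v0 ≠ w0 := by
  intro h
  have h1 := dot_v0_w0
  rw [← h, ← sqNorm_eq_dot, v0_norm] at h1
  norm_num at h1

/-- An element of the powers of `e0` commuting with `e2` is trivial. -/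
theorem pow_comm_one (w : Co0) (hw : w ∈ Subgroup.zpowers e0) (hc : e2 * w = w * e2) : w = 1 := by
  have := co0_finite
  have hw' : w ∈ Submonoid.powers e0 :=
    (isOfFinOrder_of_finite e0).mem_powers_iff_mem_zpowers.mpr hw
  obtain ⟨n, hn⟩ := (Submonoid.mem_powers_iff _ _).mp hw'
  have h1 : e2 * w * e2⁻¹ = w ^ 3 := by
    rw [← hn, ← conj_pow, rel_yx, ← pow_mul, ← pow_mul, mul_comm]
  have h2 : w ^ 3 = w := by
    rw [← h1, hc, mul_inv_cancel_right]
  have h3 : w * w = 1 := by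
    have e : w ^ 3 = w * w * w := by rw [pow_succ, pow_two]
    rw [e] at h2
    exact mul_eq_right.mp h2
  have d1 : orderOf w ∣ 11 :=
    (orderOf_dvd_of_mem_zpowers hw).trans (orderOf_dvd_of_pow_eq_one x_pow)
  have d2 : orderOf w ∣ 2 := orderOf_dvd_of_pow_eq_one (by rw [pow_two]; exact h3)
  have d3 : orderOf w ∣ Nat.gcd 11 2 := Nat.dvd_gcd d1 d2
  have d4 : orderOf w = 1 := Nat.eq_one_of_dvd_one (by simpa using d3)
  exact orderOf_eq_one_iff.mp d4

/-- The conjugation by `e1` is not inner. -/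
theorem sig_not_inn : sig ∉ Cfsg.Inn ↥MG := by
  rintro ⟨g, hg⟩
  have hcen : ∀ a : Co0, a ∈ MG → (g.1⁻¹ * e1) * a = a * (g.1⁻¹ * e1) := by
    intro a ha
    have h1 := congrArg (fun f : MulAut ↥MG => (f ⟨a, ha⟩).1) hg
    have h2 : g.1 * a * g.1⁻¹ = e1 * a * e1⁻¹ := h1
    calc g.1⁻¹ * e1 * a = g.1⁻¹ * (e1 * a * e1⁻¹) * e1 := by group
      _ = g.1⁻¹ * (g.1 * a * g.1⁻¹) * e1 := by rw [h2]
      _ = a * (g.1⁻¹ * e1) := by group
  obtain ⟨gv, gw⟩ := (mem_mcl g.1).mp g.2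
  have hgu : g.1⁻¹ • u0 = u0 := by
    rw [inv_smul_eq_iff, u0_eq, smul_add_l, gv, gw]
  have htu : e1 • u0 = u0 := by
    rw [u0_eq, smul_add_l, swap_t.1, swap_t.2, add_comm]
  have hcu : g.1⁻¹ * e1 ∈ stabilizer Co0 u0 := by
    rw [mem_stabilizer_iff, mul_smul, htu, hgu]
  have hc0 : (g.1⁻¹ * e1) * Co3Slp1.e1 = Co3Slp1.e1 * (g.1⁻¹ * e1) := by
    rw [← e0_eq]
    exact hcen e0 x_mem
  rcases Co3Cent.cent_co3 _ hcu hc0 with h | h
  · rw [← e0_eq] at h
    have hm : g.1⁻¹ * e1 ∈ MG := (Subgroup.zpowers_le.mpr x_mem) h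
    have ht : e1 ∈ MG := by
      have := mul_mem g.2 hm
      rwa [mul_inv_cancel_left] at this
    exact v0_ne_w0 (((mem_mcl e1).mp ht).1.symm.trans swap_t.1)
  · rw [← e0_eq, ← e1_eq] at h
    have hc2 : e2 * (e1 * (g.1⁻¹ * e1)) = e1 * (g.1⁻¹ * e1) * e2 := by
      rw [← mul_assoc, ← comm_ty, mul_assoc e1 e2, ← hcen e2 y_mem]
      simp only [mul_assoc]
    have h1 := pow_comm_one _ h hc2
    have hg1 : g.1 = 1 := by
      have e : g.1⁻¹ = 1 := by
        have e' : e1 * (e1 * (g.1⁻¹ * e1)) * e1 = g.1⁻¹ := by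
          have : e1 * (e1 * (g.1⁻¹ * e1)) * e1 = (e1 * e1) * g.1⁻¹ * (e1 * e1) := by group
          rw [this, t_sq, one_mul, mul_one]
        rw [← e', h1, mul_one, t_sq]
      exact inv_eq_one.mp e
    have h2 := hcen e3 z_mem
    rw [hg1, inv_one, one_mul, rel_tz] at h2
    have h3 : e3 ^ 4 = e3 := mul_right_cancel h2
    have h4 : e3 = 1 := by
      have a1 : e3 ^ 5 = e3 * e3 := by rw [pow_succ, h3]
      have a2 : e3 * e3 = 1 := by rw [← a1, z_pow]
      have a3 : e3 ^ 4 = 1 := by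
        have : e3 ^ 4 = (e3 * e3) * (e3 * e3) := by
          simp only [pow_succ, pow_zero, one_mul, mul_assoc]
        rw [this, a2, one_mul]
      rw [← h3, a3]
    exact z_ne_one h4

/-- The outer automorphism group of the stabiliser of `v0` and `w0` has order two. -/
theorem mg_out : Nat.card (Cfsg.Out ↥MG) = 2 := by
  apply card_out_two sig sig_sq sig_not_inn
  intro α
  obtain ⟨g, β, hα, hy, hx⟩ := reduce α
  obtain ⟨k, hk1, hk5, m, hm5, hz⟩ := bz β hy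
  have h1 : (xg * zg) ^ 7 = 1 := Subtype.ext relA
  have h2 := congrArg β h1
  rw [map_pow, map_mul, map_one] at h2
  rcases hx with hx | hx
  · rw [hx] at h2
    have h3 : (e0 * (e3 ^ k * e2 ^ m)) ^ 7 = 1 := by
      rw [← hz]
      exact congrArg Subtype.val h2
    obtain ⟨hk, rfl⟩ := bad7p k m hk1 hk5 hm5 h3
    rw [pow_zero, mul_one] at hz
    rcases hk with rfl | rfl
    · rw [pow_one] at hz
      have hzz : β zg = zg := Subtype.ext hz
      refine ⟨g, Or.inl ?_⟩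
      rw [hα, aut_eq β 1 hx hy hzz, mul_one]
    · have hzz : β zg = sig zg := Subtype.ext (hz.trans sig_z.symm)
      refine ⟨g, Or.inr ?_⟩
      rw [hα, aut_eq β sig (hx.trans sig_x.symm) (hy.trans sig_y.symm) hzz]
  · exfalso
    rw [hx] at h2
    have h3 : (e0⁻¹ * (e3 ^ k * e2 ^ m)) ^ 7 = 1 := by
      rw [← hz]
      exact congrArg Subtype.val h2
    obtain ⟨hk, rfl⟩ := bad7m k m hk1 hk5 hm5 h3
    rw [pow_zero, mul_one] at hz
    have h4 : (xg * (zg * yg)) ^ 9 = 1 := Subtype.ext relB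
    have h5 := congrArg β h4
    rw [map_pow, map_mul, map_mul, hx, hy, map_one] at h5
    have h6 : (e0⁻¹ * ((β zg).1 * e2)) ^ 9 = 1 := congrArg Subtype.val h5
    rw [hz] at h6
    rcases hk with rfl | rfl
    · have := bad9_m_1
      rw [pow_one e2] at this
      exact this h6
    · have := bad9_m_4
      rw [pow_one e2] at this
      exact this h6

/-! ### Transport -/

theorem norm_w : sqNorm ((-(Cfsg.Spor.leechV + Cfsg.Spor.leechU) : leechLattice) : GolayPt → ℤ)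
    = 32 := by
  show sqNorm (-(Cfsg.Spor.vecV + Cfsg.Spor.vecU)) = 32
  unfold sqNorm
  rw [Fintype.sum_option]
  have h : ∀ x : ZMod 23, (-(Cfsg.Spor.vecV + Cfsg.Spor.vecU)) (some x) ^ 2
      = if x = 0 then 9 else 1 := by
    intro x
    by_cases hx : x = 0 <;> simp [Cfsg.Spor.vecU, Cfsg.Spor.vecV, hx]
  simp only [h]
  simp [Cfsg.Spor.vecU, Cfsg.Spor.vecV, Finset.sum_ite, Finset.filter_eq', Finset.filter_ne']

theorem dot_uw : dotInt (Cfsg.Spor.leechU : GolayPt → ℤ)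
    ((-(Cfsg.Spor.leechV + Cfsg.Spor.leechU) : leechLattice) : GolayPt → ℤ) = -8 := by
  show dotInt Cfsg.Spor.vecU (-(Cfsg.Spor.vecV + Cfsg.Spor.vecU)) = -8
  unfold dotInt
  rw [Fintype.sum_option]
  simp [Cfsg.Spor.vecU, Cfsg.Spor.vecV]

/-- The McLaughlin group as a subgroup of the automorphism group of the lattice. -/
def mclEquiv : ↥Cfsg.Spor.McL ≃*
    ↥(stabilizer Co0 Cfsg.Spor.leechV ⊓ stabilizer Co0 Cfsg.Spor.leechU) where
  toFun a := ⟨⟨a.1, a.2.1.1⟩, ⟨mem_stabilizer_iff.mpr (mem_stabilizer_iff.mp a.2.1.2),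
    mem_stabilizer_iff.mpr (mem_stabilizer_iff.mp a.2.2)⟩⟩
  invFun b := ⟨b.1.1, ⟨⟨b.1.2, mem_stabilizer_iff.mpr (mem_stabilizer_iff.mp b.2.1)⟩,
    mem_stabilizer_iff.mpr (mem_stabilizer_iff.mp b.2.2)⟩⟩
  left_inv _ := rfl
  right_inv _ := rfl
  map_mul' _ _ := rfl

theorem conj_mem (g0 : Co0) (h1 : g0 • Cfsg.Spor.leechU = v0)
    (h2 : g0 • (-(Cfsg.Spor.leechV + Cfsg.Spor.leechU)) = w0) (x : Co0) :
    x ∈ stabilizer Co0 Cfsg.Spor.leechV ⊓ stabilizer Co0 Cfsg.Spor.leechU ↔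
      g0 * x * g0⁻¹ ∈ MG := by
  rw [mem_mcl, conj_fix g0 x h1, conj_fix g0 x h2, Subgroup.mem_inf, mem_stabilizer_iff,
    mem_stabilizer_iff, smul_neg_l, smul_add_l, neg_inj]
  constructor
  · rintro ⟨a, b⟩
    exact ⟨b, by rw [a, b]⟩
  · rintro ⟨a, b⟩
    rw [a] at b
    exact ⟨add_right_cancel b, a⟩

/-- The outer automorphism group of the McLaughlin group has order two. -/
theorem mcl_out : Nat.card (Cfsg.Out ↥Cfsg.Spor.McL) = 2 := by
  obtain ⟨g0, h1, h2⟩ := std_min Cfsg.Spor.leechU (-(Cfsg.Spor.leechV + Cfsg.Spor.leechU))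
    Co2Out.leechU_norm norm_w dot_uw
  rw [card_out_congr mclEquiv,
    card_out_congr (conjEquiv (stabilizer Co0 Cfsg.Spor.leechV ⊓ stabilizer Co0 Cfsg.Spor.leechU)
      MG g0 (conj_mem g0 h1 h2))]
  exact mg_out

end Cfsg.Agent.Lib.Helper27.McLOut
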