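import Mathlib
import Cfsg.Prelude.Def_GeometricClasses
import Cfsg.Agent.Lib.Helper27.EPNEGSQFIXB1

/-!
# Form-free NEGSQFIXB1 (helper27): for ANY quadratic form on `ι → F`

`q ≡ 3 (mod 4)`, `x * x = -1`, `x` preserves `Q0`: every `x`-invariant `W` with
`dim W ≡ 0 (mod 4)` is of plus type for `Q0` (contains a totally singular subspace of half its
dimension).  One-line port of `Helper27.EPNEGSQFIXB1.main` to the minus form, the odd form, ...:
`plus_gen hq (minusQ (d - 1) F a b) x (fun v => hx v v) hx2 W hStab hfin`.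
-/

set_option autoImplicit false

namespace Cfsg.Agent.Lib.Helper27.NegSqPlusGen

open Module QuadraticMap

universe u

theorem plus_gen {F : Type u} [Field F] [Fintype F] {ι : Type} [Fintype ι] [DecidableEq ι]
    (hq : Fintype.card F % 4 = 3) (Q0 : QuadraticForm F (ι → F)) (x : Matrix ι ι F)
    (hx : ∀ v : ι → F, Q0 (x.mulVec v) = Q0 v) (hx2 : x * x = -1)
    (W : Submodule F (ι → F)) (hStab : W.map (Matrix.toLin' x) ≤ W)
    (hfin : Module.finrank F ↥W % 4 = 0) :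
    Cfsg.Geo.IsPlusTypeOn (⇑Q0) W := by
  classical
  obtain ⟨A, hAdef⟩ : ∃ A : (ι → F) →ₗ[F] (ι → F), A = Matrix.toLin' x := ⟨_, rfl⟩
  have hAQ : ∀ u, Q0 (A u) = Q0 u := by
    intro u
    rw [hAdef, Matrix.toLin'_apply]
    exact hx u
  have hAA : ∀ u, A (A u) = -u := by
    intro u
    rw [hAdef, ← Matrix.toLin'_mul_apply, hx2, Matrix.toLin'_apply, Matrix.neg_mulVec,
      Matrix.one_mulVec]
  have hAW : ∀ w ∈ W, A w ∈ W := by
    intro w hw
    rw [hAdef]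
    exact hStab (Submodule.mem_map_of_mem hw)
  obtain ⟨A', hA'⟩ : ∃ A' : ↥W →ₗ[F] ↥W,
      ∀ w : ↥W, ((A' w : ↥W) : ι → F) = A (w : ι → F) :=
    ⟨A.restrict hAW, fun w => rfl⟩
  obtain ⟨Q', hQ'⟩ : ∃ Q' : QuadraticForm F ↥W,
      ∀ w : ↥W, Q' w = Q0 (w : ι → F) :=
    ⟨Q0.comp W.subtype, fun w => rfl⟩
  have hAQ' : ∀ u, Q' (A' u) = Q' u := by
    intro u
    rw [hQ', hQ', hA', hAQ]
  have hAA' : ∀ u, A' (A' u) = -u := by
    intro u
    apply Subtype.ext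
    rw [hA', hA', hAA]
    rfl
  obtain ⟨k, hk⟩ : ∃ k, finrank F ↥W = 4 * k := ⟨finrank F ↥W / 4, by omega⟩
  obtain ⟨T, hT1, hT2, hT3⟩ :=
    Cfsg.Agent.Lib.Helper27.EPNEGSQFIXB1.build hq Q' A' hAQ' hAA' k (by omega)
  show ∃ U : Submodule F (ι → F), U ≤ W ∧
    Cfsg.Geo.IsTotallySingularQuad (⇑Q0) U ∧
      2 * Module.finrank F U = Module.finrank F W
  refine ⟨T.map W.subtype, Submodule.map_subtype_le W T, ?_, ?_⟩
  · rintro _ ⟨t, ht, rfl⟩
    have h8 := hT2 t ht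
    rw [hQ'] at h8
    exact h8
  · rw [Submodule.finrank_map_subtype_eq]
    omega

end Cfsg.Agent.Lib.Helper27.NegSqPlusGen
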