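import Cfsg.Agent.Lib.Helper27.Oct

set_option autoImplicit false

namespace Cfsg.Agent.Lib.Helper27.Pts

open Cfsg Cfsg.Agent.Lib.Helper27.Bits Cfsg.Agent.Lib.Helper27.Golay Cfsg.Agent.Lib.Helper27.M24
  Cfsg.Agent.Lib.Helper27.Cert Cfsg.Agent.Lib.Helper27.Trans Cfsg.Agent.Lib.Helper27.Fast
  Cfsg.Agent.Lib.Helper27.Oct
open scoped Pointwise

/-- words for the points -/
def WP : ℕ := 0x300000000000000050000000000000052000000000000052400000000000000580000000000000014000000000000014500000000000014280000000000000541000000000000005400000000000001420000000000000016000000000000005600000000000005650000000000000146000000000000016400000000000001810000000000000018000000000000018500000000000001120000000000000111000000000000001100000000000000010000000000000000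
/-- generators of the point stabiliser -/
def GS : ℕ := 0xbdab49ca307b9ac5a928398a418820bdab49ca307b9ac5a928398a418820bdab49ca307b9ac5a928398a418820bdab49ca307b9ac5a928398a418820bdab49ca307b9ac5a928398a418820bdab49ca307b9ac5a928398a418820bdab49ca307b9ac5a928398a418820bdab49ca307b9ac5a928398a418820bdab49ca307b9ac5a928398a418820bdab49ca307b9ac5a928398a418820bdab49ca307b9ac5a928398a4188202a6e19b0d222cf0ac5561206f736805c9563dc4c1a1a134e30a11352b9e0aa1619c14c20c52726c66c6ef29e809508755928089b0bd4ae9ac667c580bdab49ca307b9ac5a928398a418820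
/-- words for the other points -/
def WS : ℕ := 0x400000000000000140000000000000044000000000000014300000000000001210000000000000043000000000000001100000000000004340000000000000023000000000000002200000000000011120000000000000432000000000000004100000000000000120000000000000001000000000000014400000000000011140000000000000112000000000000000000000000000002320000000000000002000000000000011100000000000002330000000000000000

theorem cP : certOK GA 16 24 WP (fun _ => 2 ^ i0) (fun i => 2 ^ i) (fun _ => true) = true := by
  decide +kernel

theorem gS : gensOK GS [2 ^ i0] = true := by decide +kernel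

theorem cS : certOK GS 16 24 WS (fun _ => 2 ^ i1) (fun i => 2 ^ i) (fun i => !Nat.beq i i0) = true := by
  decide +kernel

/-- the group of the code is transitive on points -/
theorem pt_trans (p : GolayPt) : ∃ g ∈ M24, g (pt i0) = p := by
  obtain ⟨g, hg, h⟩ := cert_spec gA cP (idx p) (idx_lt _) rfl
  rw [stabL_nil] at hg
  have h' : g (pt i0) = pt (idx p) := (smul_single_iff g (by decide) (idx_lt _)).mp h
  rw [pt_idx] at h'
  exact ⟨g, hg, h'⟩

/-- the point stabiliser is transitive on the other points -/
theorem pt_stab_trans (q : GolayPt) (hq : q ≠ pt i0) : ∃ g ∈ M24, g (pt i0) = pt i0 ∧ g (pt i1) = q := by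
  have hi : (!Nat.beq (idx q) i0) = true := by
    have h1 : idx q ≠ i0 := fun h => hq (by rw [← pt_idx q, h])
    cases hb : Nat.beq (idx q) i0
    · rfl
    · exact absurd (Nat.eq_of_beq_eq_true hb) h1
  obtain ⟨g, hg, h⟩ := cert_spec gS cS (idx q) (idx_lt _) hi
  have h' : g (pt i1) = pt (idx q) := (smul_single_iff g (by decide) (idx_lt _)).mp h
  rw [pt_idx] at h'
  have h3 := hg.2 (2 ^ i0) (by simp)
  exact ⟨g, hg.1, (smul_single_iff g (by decide) (by decide)).mp h3, h'⟩

/-- the group of the code is doubly transitive on points -/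
theorem pair_trans (p q : GolayPt) (hpq : p ≠ q) : ∃ g ∈ M24, g (pt i0) = p ∧ g (pt i1) = q := by
  obtain ⟨g1, hg1, h1⟩ := pt_trans p
  have hq : g1⁻¹ q ≠ pt i0 := by
    intro h
    apply hpq
    rw [← h1, ← h]
    simp
  obtain ⟨g2, hg2, h2, h3⟩ := pt_stab_trans _ hq
  refine ⟨g1 * g2, M24.mul_mem hg1 hg2, ?_, ?_⟩
  · show g1 (g2 (pt i0)) = p
    rw [h2, h1]
  · show g1 (g2 (pt i1)) = q
    rw [h3]
    simp

end Cfsg.Agent.Lib.Helper27.Pts
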