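import Mathlib
import Cfsg.Agent.Lib.Helper44.TPStmt

set_option autoImplicit false

/-!
S5973, piece SQNEG3: `q ≡ 3 (4)`, `x^2 = -1`, `m < d`, `m` even or `d` odd: `x` fixes a totally
singular `m`-space (for `d` odd there is no such `x`).
-/

namespace Cfsg.Agent.Lib.Helper27.TPSQNEG3

open Cfsg.Agent.Lib.Helper44.TPStmt

universe u

theorem main : Top.{u} → TsHalf.{u} → SqNegTS.{u} → SqNeg3.{u} := by
  intro hTop hHalf hTS F _ _ hq d m hmd hpar x hx hx2
  have key : ∀ s : ℕ, 2 * s ≤ d + 1 → ∃ W : Submodule F (J d → F),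
      Stab (x : Matrix (J d) (J d) F) W ∧ TSub d F W ∧ Module.finrank F ↥W = 2 * s := by
    intro s
    induction s with
    | zero =>
      intro _
      refine ⟨⊥, ?_, ?_, ?_⟩
      · unfold Stab
        simp
      · intro w hw
        rw [Submodule.mem_bot] at hw
        subst hw
        simp [Cfsg.quadFormPlus]
      · simp
    | succ s ih =>
      intro hs
      obtain ⟨W, hW1, hW2, hW3⟩ := ih (by omega)
      obtain ⟨W', h1, h2, h3⟩ := hTS F hq d x hx hx2 W hW1 hW2 (by omega)
      exact ⟨W', h1, h2, by omega⟩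
  have hfin : Module.finrank F ↥(⊤ : Submodule F (J d → F)) = 2 * d := by
    rw [finrank_top, Module.finrank_fintype_fun_eq_card, Fintype.card_sum, Fintype.card_fin]
    ring
  rcases Nat.even_or_odd d with hd | hd
  · have hm : Even m := by
      rcases hpar with h | h
      · exact h
      · exact absurd hd (Nat.not_even_iff_odd.mpr h)
    obtain ⟨s, hs⟩ := hm
    obtain ⟨W, h1, h2, h3⟩ := key s (by omega)
    exact ⟨W, by omega, h2, h1⟩
  · obtain ⟨k, hk⟩ := hd
    obtain ⟨W, h1, h2, h3⟩ := key (k + 1) (by omega)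
    have h4 := hHalf F d ⊤ W (hTop F d).1 le_top h2
    rw [hfin] at h4
    omega

end Cfsg.Agent.Lib.Helper27.TPSQNEG3
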