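import Cfsg.Agent.Lib.Helper27.Cert

set_option autoImplicit false

namespace Cfsg.Agent.Lib.Helper27.Trans

open Cfsg Cfsg.Agent.Lib.Helper27.Bits Cfsg.Agent.Lib.Helper27.Golay Cfsg.Agent.Lib.Helper27.M24
  Cfsg.Agent.Lib.Helper27.Cert
open scoped Pointwise

/-! ### counting codewords -/

theorem enc_injOn {c d : ℕ} (hc : c < 4096) (hd : d < 4096) (h : fsOf (enc c) = fsOf (enc d)) : c = d := by
  have h1 : enc c = enc d := setOf_injOn (enc_lt c) (enc_lt d) h
  rw [← enc_mod c hc, ← enc_mod d hd, h1]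

theorem ncard_code_filter (Q : Finset GolayPt → Prop) (q : ℕ → Bool)
    (hq : ∀ c < 4096, Q (fsOf (enc c)) ↔ q c = true) :
    {s : Finset GolayPt | s ∈ supports (golayCode : Set (GolayPt → ZMod 2)) ∧ Q s}.ncard = countB 4096 q := by
  have h1 : {s : Finset GolayPt | s ∈ supports (golayCode : Set (GolayPt → ZMod 2)) ∧ Q s} =
      (fun c => fsOf (enc c)) '' (((Finset.range 4096).filter (fun c => q c = true) : Finset ℕ) : Set ℕ) := by
    ext s
    simp only [Set.mem_setOf_eq, Set.mem_image, Finset.coe_filter, Finset.mem_range]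
    constructor
    · rintro ⟨hs, hQ⟩
      obtain ⟨c, hc, rfl⟩ := (mem_supports_iff s).mp hs
      exact ⟨c, ⟨hc, (hq c hc).mp hQ⟩, rfl⟩
    · rintro ⟨c, ⟨hc, hqc⟩, rfl⟩
      exact ⟨(mem_supports_iff _).mpr ⟨c, hc, rfl⟩, (hq c hc).mpr hqc⟩
  rw [h1, Set.ncard_image_of_injOn, Set.ncard_coe_finset, countB_eq]
  intro c hc d hd h
  simp only [Finset.coe_filter, Finset.mem_range, Set.mem_setOf_eq] at hc hd
  exact enc_injOn hc.1 hd.1 h

/-! ### the action on octads -/

theorem supports_smul_iff {g : Equiv.Perm GolayPt} (hg : g ∈ M24) (s : Finset GolayPt) :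
    g • s ∈ supports (golayCode : Set (GolayPt → ZMod 2)) ↔ s ∈ supports (golayCode : Set (GolayPt → ZMod 2)) := by
  have h : g • supports (golayCode : Set (GolayPt → ZMod 2)) = supports (golayCode : Set (GolayPt → ZMod 2)) := hg
  conv_lhs => rw [← h]
  exact Set.smul_mem_smul_set_iff

theorem octads_smul_iff {g : Equiv.Perm GolayPt} (hg : g ∈ M24) (s : Finset GolayPt) :
    g • s ∈ octads ↔ s ∈ octads := by
  unfold octads wordsOfWeight
  simp only [Set.mem_setOf_eq, supports_smul_iff hg, Finset.card_smul_finset]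

theorem dodecads_smul_iff {g : Equiv.Perm GolayPt} (hg : g ∈ M24) (s : Finset GolayPt) :
    g • s ∈ dodecads ↔ s ∈ dodecads := by
  unfold dodecads wordsOfWeight
  simp only [Set.mem_setOf_eq, supports_smul_iff hg, Finset.card_smul_finset]

theorem mem_octads_iff (s : Finset GolayPt) :
    s ∈ octads ↔ ∃ c < 4096, s = fsOf (enc c) ∧ pc (enc c) = 8 := by
  unfold octads wordsOfWeight
  simp only [Set.mem_setOf_eq, mem_supports_iff]
  constructor
  · rintro ⟨⟨c, hc, rfl⟩, h⟩
    exact ⟨c, hc, rfl, by rw [← card_setOf]; exact h⟩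
  · rintro ⟨c, hc, rfl, h⟩
    exact ⟨⟨c, hc, rfl⟩, by rw [card_setOf]; exact h⟩

theorem mem_dodecads_iff (s : Finset GolayPt) :
    s ∈ dodecads ↔ ∃ c < 4096, s = fsOf (enc c) ∧ pc (enc c) = 12 := by
  unfold dodecads wordsOfWeight
  simp only [Set.mem_setOf_eq, mem_supports_iff]
  constructor
  · rintro ⟨⟨c, hc, rfl⟩, h⟩
    exact ⟨c, hc, rfl, by rw [← card_setOf]; exact h⟩
  · rintro ⟨c, hc, rfl, h⟩
    exact ⟨⟨c, hc, rfl⟩, by rw [card_setOf]; exact h⟩

/-! ### transport of counts -/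

theorem ncard_congr_smul {α : Type*} [DecidableEq α] (g : Equiv.Perm α) (A B : Finset α → Prop)
    (h : ∀ s, B (g • s) ↔ A s) : {s | B s}.ncard = {s | A s}.ncard := by
  have h1 : {s | B s} = (fun s : Finset α => g • s) '' {s | A s} := by
    ext t
    simp only [Set.mem_setOf_eq, Set.mem_image]
    constructor
    · intro ht
      refine ⟨g⁻¹ • t, ?_, smul_inv_smul g t⟩
      rw [← h, smul_inv_smul]; exact ht
    · rintro ⟨s, hs, rfl⟩
      exact (h s).mpr hs
  rw [h1, Set.ncard_image_of_injective _ (MulAction.injective g)]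

/-! ### transitivity from certificates -/

theorem cert_trans {G : ℕ} {ms : List ℕ} (hG : gensOK G ms = true) {n N W : ℕ}
    {root target : ℕ → ℕ} {cond : ℕ → Bool} (h : certOK G n N W root target cond = true)
    (c c' : ℕ) (hc : c < N) (hc' : c' < N) (hcond : cond c = true) (hcond' : cond c' = true)
    (hroot : root c = root c') :
    ∃ g ∈ stabL ms, g • fsOf (target c) = fsOf (target c') := by
  obtain ⟨g, hg, h1⟩ := cert_spec hG h c hc hcond
  obtain ⟨g', hg', h2⟩ := cert_spec hG h c' hc' hcond'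
  refine ⟨g' * g⁻¹, (stabL ms).mul_mem hg' ((stabL ms).inv_mem hg), ?_⟩
  rw [mul_smul, ← h1, inv_smul_smul, hroot, h2]

theorem stabL_nil (g : Equiv.Perm GolayPt) : g ∈ stabL [] ↔ g ∈ M24 := by
  rw [mem_stabL]
  simp

theorem mem_setOf_pt {m i : ℕ} (hi : i < 24) : pt i ∈ fsOf m ↔ m.testBit i = true := by
  rw [mem_setOf, idx_pt i hi]

end Cfsg.Agent.Lib.Helper27.Trans
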